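import Cfsg.Agent.Lib.Helper37.Suzuki.Field

/-!
# Torus-invariant biadditive maps on the field of a Suzuki group vanish
-/

set_option autoImplicit false

namespace Cfsg.Agent.Lib.Helper37.Suz

variable {F : Type*} [Field F] [Fintype F] (m : ℕ) [SzField F m]

omit [Fintype F] in
theorem inv_add_aux {A B : F} (hA : A ≠ 0) (hB : B ≠ 0) (h : A⁻¹ + 1 + B⁻¹ = 0) :
    B + B * A + A = 0 := by
  have : B + B * A + A = (A⁻¹ + 1 + B⁻¹) * (A * B) := by field_simp
  rw [this, h, zero_mul]

include m in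
theorem sq_add_self_add_one_ne_zero (z : F) : z ^ 2 + z + 1 ≠ 0 := by
  have := charTwo (F := F) m
  intro h
  have h2 : (2 : F) = 0 := two_eq_zero'
  have hz2 : z ^ 2 = z + 1 := by linear_combination h - (z + 1) * h2
  -- w = σ z is again a root
  have hw : sig m z ^ 2 = sig m z + 1 := by
    rw [← sig_pow, hz2, sig_add, sig_one]
  have h3 : (sig m z + z) * (sig m z + z + 1) = 0 := by
    linear_combination hw + hz2 + (sig m z + z + 1 + sig m z * z) * h2
  rcases mul_eq_zero.1 h3 with h4 | h4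
  · have h5 : sig m z = z := CharTwo.add_eq_zero.1 h4
    rcases (sig_eq_self_iff m z).1 h5 with rfl | rfl
    · simp at h
    · apply one_ne_zero (α := F)
      linear_combination h - h2
  · exact sig_add_self_add_one_ne_zero m z h4

variable {M : Type*} [Group M]

section general

variable (β : F → F → M) (hl : ∀ x x' y, β (x + x') y = β x y * β x' y)
  (hr : ∀ x y y', β x (y + y') = β x y * β x y')

include hr in
theorem biadd_zero_right (x : F) : β x 0 = 1 := by
  have := hr x 0 0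
  rw [add_zero] at this
  exact (mul_eq_left.1 this.symm)

include hl in
theorem biadd_zero_left (y : F) : β 0 y = 1 := by
  have := hl 0 0 y
  rw [add_zero] at this
  exact (mul_eq_left.1 this.symm)

include m hl hr in
/-- general principle: `β x y = g (y / ν x)` -/
theorem biadd_eq_one_of (ν : F → F) (hν : ∀ x, x ≠ 0 → ν x ≠ 0) (hν1 : ν 1 = 1)
    (hinv : ∀ x, x ≠ 0 → ∀ y, β x y = β 1 ((ν x)⁻¹ * y))
    (t : F) (ht0 : t ≠ 0) (ht1 : t ≠ 1) (hκ : (ν (1 + t))⁻¹ + 1 + (ν t)⁻¹ ≠ 0) :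
    ∀ x y, β x y = 1 := by
  have := charTwo (F := F) m
  have h1t : (1 : F) + t ≠ 0 := fun h => ht1 (CharTwo.add_eq_zero.1 h).symm
  have hg : ∀ y, β 1 y = 1 := by
    intro y
    set κ := (ν (1 + t))⁻¹ + 1 + (ν t)⁻¹ with hκdef
    set y' := κ⁻¹ * y with hy'
    have e1 := hl 1 t y'
    rw [hinv (1 + t) h1t, hinv t ht0, ← hr] at e1
    have e2 : y = (ν (1 + t))⁻¹ * y' + (y' + (ν t)⁻¹ * y') := by
      have : y = κ * y' := by rw [hy', ← mul_assoc, mul_inv_cancel₀ hκ, one_mul]
      rw [this, hκdef]; ring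
    rw [e2, hr, e1, ← hr, add_self', biadd_zero_right β hr]
  intro x y
  by_cases hx : x = 0
  · rw [hx, biadd_zero_left β hl]
  · rw [hinv x hx, hg]

end general

include m in
/-- Lemma A: weights `(1,1)` -/
theorem biadd_eq_one_A (β : F → F → M) (hl : ∀ x x' y, β (x + x') y = β x y * β x' y)
    (hr : ∀ x y y', β x (y + y') = β x y * β x y')
    (hinv : ∀ μ : F, μ ≠ 0 → ∀ x y, β (μ * x) (μ * y) = β x y) : ∀ x y, β x y = 1 := by
  have := charTwo (F := F) m
  have h2 : (2 : F) = 0 := two_eq_zero'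
  obtain ⟨t, ht0, ht1⟩ := exists_ne_zero_one (F := F) m
  have h1t : (1 : F) + t ≠ 0 := fun h => ht1 (CharTwo.add_eq_zero.1 h).symm
  apply biadd_eq_one_of m β hl hr (fun x => x) (fun x hx => hx) rfl _ t ht0 ht1
  · intro h
    apply sq_add_self_add_one_ne_zero m t
    have := inv_add_aux h1t ht0 h
    linear_combination this - t * h2
  · intro x hx y
    have := hinv x⁻¹ (inv_ne_zero hx) x y
    rw [inv_mul_cancel₀ hx] at this
    exact this.symm

/-- there is `t ≠ 0, 1` with `N(t) + N(t) N(1+t) + N(1+t) ≠ 0` when `q ≥ 32` -/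
theorem exists_norm_ne (hm2 : 2 ≤ m) : ∃ t : F, t ≠ 0 ∧ t ≠ 1 ∧
    sig m t * t + (sig m t * t) * (sig m (1 + t) * (1 + t)) + sig m (1 + t) * (1 + t) ≠ 0 := by
  classical
  open Polynomial in
  let P : F[X] := X ^ (2 ^ (m + 1) + 1) + X ^ (2 ^ (m + 1) + 1) * (1 + X) ^ (2 ^ (m + 1) + 1)
    + (1 + X) ^ (2 ^ (m + 1) + 1)
  have hP0 : P ≠ 0 := by
    intro h
    have := congrArg (Polynomial.eval 0) h
    simp [P] at this
  have hdeg : P.natDegree ≤ 2 * (2 ^ (m + 1) + 1) := by
    have h1 : ((1 : Polynomial F) + Polynomial.X).natDegree ≤ 1 := by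
      compute_degree
    have h2 : (((1 : Polynomial F) + Polynomial.X) ^ (2 ^ (m + 1) + 1)).natDegree ≤ 2 ^ (m + 1) + 1 := by
      refine (Polynomial.natDegree_pow_le).trans ?_
      calc (2 ^ (m + 1) + 1) * ((1 : Polynomial F) + Polynomial.X).natDegree
          ≤ (2 ^ (m + 1) + 1) * 1 := Nat.mul_le_mul_left _ h1
        _ = _ := mul_one _
    have h3 : ((Polynomial.X : Polynomial F) ^ (2 ^ (m + 1) + 1)).natDegree ≤ 2 ^ (m + 1) + 1 := by
      rw [Polynomial.natDegree_X_pow]
    refine (Polynomial.natDegree_add_le _ _).trans (max_le ?_ (by omega))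
    refine (Polynomial.natDegree_add_le _ _).trans (max_le (by omega) ?_)
    refine (Polynomial.natDegree_mul_le).trans (by omega)
  have hroots : P.roots.toFinset.card ≤ 2 * (2 ^ (m + 1) + 1) :=
    (Multiset.toFinset_card_le _).trans ((Polynomial.card_roots' P).trans hdeg)
  have hcard : (({0, 1} : Finset F) ∪ P.roots.toFinset).card < (Finset.univ : Finset F).card := by
    rw [Finset.card_univ, SzField.card (F := F) (m := m)]
    have h1 := Finset.card_union_le ({0, 1} : Finset F) P.roots.toFinset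
    have h2 : ({0, 1} : Finset F).card ≤ 2 := Finset.card_le_two
    have h3 : 2 ^ (2 * m + 1) = 2 ^ (m + 1) * 2 ^ m := by rw [← pow_add]; congr 1; omega
    have h4 : 4 ≤ 2 ^ m := by
      calc 4 = 2 ^ 2 := by norm_num
        _ ≤ 2 ^ m := Nat.pow_le_pow_right (by norm_num) hm2
    have h5 : 8 ≤ 2 ^ (m + 1) := by rw [pow_succ]; omega
    rw [h3]
    nlinarith
  obtain ⟨t, -, ht⟩ := Finset.exists_mem_notMem_of_card_lt_card hcard
  simp only [Finset.mem_union, Finset.mem_insert, Finset.mem_singleton, Multiset.mem_toFinset,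
    Polynomial.mem_roots hP0, not_or] at ht
  refine ⟨t, ht.1.1, ht.1.2, ?_⟩
  intro h
  apply ht.2
  rw [Polynomial.IsRoot.def]
  simp only [P, Polynomial.eval_add, Polynomial.eval_mul, Polynomial.eval_pow, Polynomial.eval_X,
    Polynomial.eval_one]
  simp only [sig_def] at h
  rw [← h]
  ring

/-- Lemma B: weights `(1, 1+σ)`, `q ≥ 32` -/
theorem biadd_eq_one_B (hm2 : 2 ≤ m) (β : F → F → M)
    (hl : ∀ x x' y, β (x + x') y = β x y * β x' y)
    (hr : ∀ x y y', β x (y + y') = β x y * β x y')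
    (hinv : ∀ k : F, k ≠ 0 → ∀ x y, β (k * x) (sig m k * k * y) = β x y) : ∀ x y, β x y = 1 := by
  have := charTwo (F := F) m
  obtain ⟨t, ht0, ht1, ht⟩ := exists_norm_ne (F := F) m hm2
  have h1t : (1 : F) + t ≠ 0 := fun h => ht1 (CharTwo.add_eq_zero.1 h).symm
  have hN : ∀ x : F, x ≠ 0 → sig m x * x ≠ 0 := fun x hx => mul_ne_zero (sig_ne_zero m hx) hx
  apply biadd_eq_one_of m β hl hr (fun x => sig m x * x) hN (by simp) _ t ht0 ht1
  · intro h
    apply ht
    exact inv_add_aux (hN (1 + t) h1t) (hN t ht0) h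
  · intro x hx y
    have := hinv x⁻¹ (inv_ne_zero hx) x y
    rw [inv_mul_cancel₀ hx, sig_inv, ← mul_inv] at this
    exact this.symm

end Cfsg.Agent.Lib.Helper37.Suz
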