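import Mathlib

/-!
# Binary coset actions: general lemmas
-/

set_option autoImplicit false

namespace Cfsg.Agent.Lib.Helper37.Bin

variable {G : Type*} [Group G]

/-- the coset action on `G ⧸ H` is binary -/
def IsBin (H : Subgroup G) : Prop :=
  ∀ (n : ℕ) (I J : Fin n → G ⧸ H), 2 ≤ n →
    (∀ i j : Fin n, i ≠ j → ∃ g : G, g • I i = J i ∧ g • I j = J j) → ∃ g : G, ∀ i, g • I i = J i

/-- the same, in terms of representatives -/
def IsBin' (H : Subgroup G) : Prop :=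
  ∀ (n : ℕ) (x y : Fin n → G), 2 ≤ n →
    (∀ i j : Fin n, i ≠ j → ∃ g : G, (y i)⁻¹ * g * x i ∈ H ∧ (y j)⁻¹ * g * x j ∈ H) →
      ∃ g : G, ∀ i, (y i)⁻¹ * g * x i ∈ H

theorem smul_mk_eq (H : Subgroup G) (g x y : G) :
    g • (x : G ⧸ H) = (y : G ⧸ H) ↔ y⁻¹ * g * x ∈ H := by
  rw [MulAction.Quotient.smul_coe, eq_comm, QuotientGroup.eq, smul_eq_mul, mul_assoc]

theorem isBin_iff (H : Subgroup G) : IsBin H ↔ IsBin' H := by
  constructor
  · intro h n x y hn hp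
    obtain ⟨g, hg⟩ := h n (fun i => (x i : G ⧸ H)) (fun i => (y i : G ⧸ H)) hn (by
      intro i j hij
      obtain ⟨g, h1, h2⟩ := hp i j hij
      exact ⟨g, (smul_mk_eq H _ _ _).2 h1, (smul_mk_eq H _ _ _).2 h2⟩)
    exact ⟨g, fun i => (smul_mk_eq H _ _ _).1 (hg i)⟩
  · intro h n I J hn hp
    have hI : ∀ i, ((I i).out : G ⧸ H) = I i := fun i => QuotientGroup.out_eq' _
    have hJ : ∀ i, ((J i).out : G ⧸ H) = J i := fun i => QuotientGroup.out_eq' _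
    obtain ⟨g, hg⟩ := h n (fun i => (I i).out) (fun i => (J i).out) hn (by
      intro i j hij
      obtain ⟨g, h1, h2⟩ := hp i j hij
      refine ⟨g, (smul_mk_eq H _ _ _).1 ?_, (smul_mk_eq H _ _ _).1 ?_⟩
      · rw [hI, hJ]; exact h1
      · rw [hI, hJ]; exact h2)
    refine ⟨g, fun i => ?_⟩
    have := (smul_mk_eq H _ _ _).2 (hg i)
    rwa [hI, hJ] at this

theorem IsBin'.map {G' : Type*} [Group G'] (e : G ≃* G') {H : Subgroup G} (h : IsBin' H) :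
    IsBin' (H.map e.toMonoidHom) := by
  intro n x y hn hp
  obtain ⟨g, hg⟩ := h n (fun i => e.symm (x i)) (fun i => e.symm (y i)) hn (by
    intro i j hij
    obtain ⟨g, h1, h2⟩ := hp i j hij
    rw [Subgroup.mem_map_equiv] at h1 h2
    refine ⟨e.symm g, ?_, ?_⟩
    · simpa using h1
    · simpa using h2)
  refine ⟨e g, fun i => ?_⟩
  rw [Subgroup.mem_map_equiv]
  simpa using hg i

theorem isBin'_map_iff {G' : Type*} [Group G'] (e : G ≃* G') (H : Subgroup G) :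
    IsBin' (H.map e.toMonoidHom) ↔ IsBin' H := by
  constructor
  · intro h
    have := h.map e.symm
    have e2 : (H.map e.toMonoidHom).map e.symm.toMonoidHom = H := by
      ext z
      rw [Subgroup.mem_map_equiv, Subgroup.mem_map_equiv]
      simp
    rwa [e2] at this
  · exact fun h => h.map e

/-- the three point criterion for not being binary -/
theorem not_isBin'_of_triple (H : Subgroup G) (x₁ x₂ x₃ a b c : G) (ha : x₁⁻¹ * a * x₁ ∈ H)
    (hb : x₂⁻¹ * b * x₂ ∈ H) (hc : x₃⁻¹ * c * x₃ ∈ H) (habc : a = b * c)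
    (hno : ∀ s t, x₁⁻¹ * s * x₁ ∈ H → x₂⁻¹ * s * x₂ ∈ H → x₁⁻¹ * t * x₁ ∈ H → x₃⁻¹ * t * x₃ ∈ H →
      a ≠ s * t) : ¬ IsBin' H := by
  intro h
  have h1 : ∀ z : G, z⁻¹ * 1 * z ∈ H := fun z => by simp [H.one_mem]
  have h2 : (a * x₃)⁻¹ * a * x₃ ∈ H := by
    have : (a * x₃)⁻¹ * a * x₃ = 1 := by group
    rw [this]; exact H.one_mem
  have h3 : (a * x₃)⁻¹ * b * x₃ ∈ H := by
    have : (a * x₃)⁻¹ * b * x₃ = (x₃⁻¹ * c * x₃)⁻¹ := by rw [habc]; group
    rw [this]; exact H.inv_mem hc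
  obtain ⟨g, hg⟩ := h 3 ![x₁, x₂, x₃] ![x₁, x₂, a * x₃] (by norm_num) (by
    intro i j hij
    fin_cases i <;> fin_cases j <;> simp at hij ⊢
    · exact ⟨1, by simpa using h1 x₁, by simpa using h1 x₂⟩
    · exact ⟨a, ha, by simpa [mul_assoc] using h2⟩
    · exact ⟨1, by simpa using h1 x₂, by simpa using h1 x₁⟩
    · exact ⟨b, hb, by simpa [mul_assoc] using h3⟩
    · exact ⟨a, by simpa [mul_assoc] using h2, ha⟩
    · exact ⟨b, by simpa [mul_assoc] using h3, hb⟩)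
  have g0 := hg 0
  have g1 := hg 1
  have g2 := hg 2
  simp at g0 g1 g2
  apply hno g (g⁻¹ * a) g0 g1
  · have : x₁⁻¹ * (g⁻¹ * a) * x₁ = (x₁⁻¹ * g * x₁)⁻¹ * (x₁⁻¹ * a * x₁) := by group
    rw [this]; exact H.mul_mem (H.inv_mem g0) ha
  · have : x₃⁻¹ * (g⁻¹ * a) * x₃ = (x₃⁻¹ * a⁻¹ * g * x₃)⁻¹ := by group
    rw [this]; exact H.inv_mem g2
  · group

end Cfsg.Agent.Lib.Helper37.Bin
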