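import Cfsg.Agent.Lib.Helper37.Suzuki.BinA

/-!
# Binary actions: the four-group lemma
-/

set_option autoImplicit false

namespace Cfsg.Agent.Lib.Helper37.Bin

variable {G : Type*} [Group G]

/-- In a binary action in which all involutions fix the same number of points, the three
involutions of a four-group have the same fixed points. -/
theorem fixedBy_eq_of_bin {Ω : Type*} [Finite G] [MulAction G Ω] [Finite Ω]
    (hbin : ∀ (n : ℕ) (I J : Fin n → Ω), 2 ≤ n →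
      (∀ i j : Fin n, i ≠ j → ∃ g : G, g • I i = J i ∧ g • I j = J j) → ∃ g : G, ∀ i, g • I i = J i)
    (N : ℕ) (hN : ∀ i : G, orderOf i = 2 → (MulAction.fixedBy Ω i).ncard = N)
    {g h : G} (hg : orderOf g = 2) (hh : orderOf h = 2) (hgh : orderOf (g * h) = 2)
    (hcomm : g * h = h * g) : MulAction.fixedBy Ω g = MulAction.fixedBy Ω h := by
  classical
  by_contra hne
  have hgg : g * g = 1 := by rw [← pow_two, ← hg, pow_orderOf_eq_one]
  set Fg := MulAction.fixedBy Ω g with hFg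
  set Fh := MulAction.fixedBy Ω h with hFh
  set Fk := MulAction.fixedBy Ω (g * h) with hFk
  have mg : ∀ ω, ω ∈ Fg ↔ g • ω = ω := fun ω => MulAction.mem_fixedBy
  have mh : ∀ ω, ω ∈ Fh ↔ h • ω = ω := fun ω => MulAction.mem_fixedBy
  have mk : ∀ ω, ω ∈ Fk ↔ (g * h) • ω = ω := fun ω => MulAction.mem_fixedBy
  have cg : Fg.ncard = N := hN g hg
  have ch : Fh.ncard = N := hN h hh
  have ck : Fk.ncard = N := hN _ hgh
  -- a point fixed by `h` and not by `g`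
  have h1 : ¬ Fh ⊆ Fg := by
    intro hs
    apply hne
    exact (Set.eq_of_subset_of_ncard_le hs (by rw [cg, ch]) (Set.toFinite _)).symm
  have h2 : ¬ Fk ⊆ Fg := by
    intro hs
    have e : Fk = Fg := Set.eq_of_subset_of_ncard_le hs (by rw [cg, ck]) (Set.toFinite _)
    apply hne
    apply Set.eq_of_subset_of_ncard_le _ (by rw [cg, ch]) (Set.toFinite _)
    intro ω hω
    have h3 : ω ∈ Fk := by rw [e]; exact hω
    rw [mk, hcomm, mul_smul, (mg ω).1 hω] at h3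
    exact (mh ω).2 h3
  obtain ⟨ωh, hωh, hωh'⟩ := Set.not_subset.1 h1
  obtain ⟨ωk, hωk, hωk'⟩ := Set.not_subset.1 h2
  have hhk : ∀ ω, ω ∈ Fh → ω ∈ Fk → ω ∈ Fg := by
    intro ω a b
    rw [mk, mul_smul, (mh ω).1 a] at b
    exact (mg ω).2 b
  set S : Set Ω := Fg ∪ Fh ∪ Fk with hS
  let τ : Ω → Ω := fun ω => if ω ∈ Fh then g • ω else ω
  have Ag : ∀ ω ∈ Fg, (1 : G) • ω = τ ω ∧ g • ω = τ ω := by
    intro ω hω
    have := (mg ω).1 hω
    by_cases hc : ω ∈ Fh <;> simp [τ, hc, this]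
  have Ah : ∀ ω ∈ Fh, g • ω = τ ω ∧ (g * h) • ω = τ ω := by
    intro ω hω
    have := (mh ω).1 hω
    simp [τ, hω, mul_smul, this]
  have Ak : ∀ ω ∈ Fk, (1 : G) • ω = τ ω ∧ (g * h) • ω = τ ω := by
    intro ω hω
    have h3 := (mk ω).1 hω
    by_cases hc : ω ∈ Fh
    · have h4 := (mg ω).1 (hhk ω hc hω)
      simp [τ, hc, h4, h3]
    · simp [τ, hc, h3]
  have hpair : ∀ ω₁ ∈ S, ∀ ω₂ ∈ S, ∃ f : G, f • ω₁ = τ ω₁ ∧ f • ω₂ = τ ω₂ := by
    rintro ω₁ ((a | a) | a) ω₂ ((b | b) | b)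
    · exact ⟨1, (Ag _ a).1, (Ag _ b).1⟩
    · exact ⟨g, (Ag _ a).2, (Ah _ b).1⟩
    · exact ⟨1, (Ag _ a).1, (Ak _ b).1⟩
    · exact ⟨g, (Ah _ a).1, (Ag _ b).2⟩
    · exact ⟨g, (Ah _ a).1, (Ah _ b).1⟩
    · exact ⟨g * h, (Ah _ a).2, (Ak _ b).2⟩
    · exact ⟨1, (Ak _ a).1, (Ag _ b).1⟩
    · exact ⟨g * h, (Ak _ a).2, (Ah _ b).2⟩
    · exact ⟨1, (Ak _ a).1, (Ak _ b).1⟩
  have hωhS : ωh ∈ S := Or.inl (Or.inr hωh)
  have hωkS : ωk ∈ S := Or.inr hωk
  have hωne : ωh ≠ ωk := by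
    rintro rfl
    exact hωh' (hhk _ hωh hωk)
  have hn2 : 2 ≤ Nat.card S := by
    have : Nontrivial S := ⟨⟨ωh, hωhS⟩, ⟨ωk, hωkS⟩, fun e => hωne (congrArg Subtype.val e)⟩
    exact Finite.one_lt_card
  let e : Fin (Nat.card S) ≃ S := (Finite.equivFin S).symm
  obtain ⟨f, hf⟩ := hbin (Nat.card S) (fun i => (e i).1) (fun i => τ (e i).1) hn2
    (fun i j _ => hpair _ (e i).2 _ (e j).2)
  have hfS : ∀ ω ∈ S, f • ω = τ ω := by
    intro ω hω
    have := hf (e.symm ⟨ω, hω⟩)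
    rw [Equiv.apply_symm_apply] at this
    exact this
  have hfg : ∀ ω ∈ Fg, f • ω = ω := by
    intro ω hω
    rw [hfS ω (Or.inl (Or.inl hω)), ← (Ag ω hω).1, one_smul]
  have hfk : ∀ ω ∈ Fk, f • ω = ω := by
    intro ω hω
    rw [hfS ω (Or.inr hω), ← (Ak ω hω).1, one_smul]
  have hfh : ∀ ω ∈ Fh, f • ω = g • ω := by
    intro ω hω
    rw [hfS ω (Or.inl (Or.inr hω)), ← (Ah ω hω).1]
  have hginv : ∀ ω ∈ Fh, g • ω ∈ Fh := by
    intro ω hω
    rw [mh, ← mul_smul, ← hcomm, mul_smul, (mh ω).1 hω]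
  have hpow : ∀ (j : ℕ), ∀ ω ∈ Fh, f ^ j • ω = g ^ j • ω ∧ g ^ j • ω ∈ Fh := by
    intro j
    induction j with
    | zero => intro ω hω; simpa using hω
    | succ j ih =>
      intro ω hω
      obtain ⟨i1, i2⟩ := ih ω hω
      rw [pow_succ', pow_succ', mul_smul, mul_smul, i1, hfh _ i2]
      exact ⟨rfl, hginv _ i2⟩
  have hpowfix : ∀ (j : ℕ) (ω : Ω), f • ω = ω → f ^ j • ω = ω := by
    intro j ω hω
    induction j with
    | zero => simp
    | succ j ih => rw [pow_succ, mul_smul, hω, ih]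
  have hopos : 0 < orderOf f := orderOf_pos f
  have heven : Even (orderOf f) := by
    by_contra hodd
    rw [Nat.not_even_iff_odd] at hodd
    obtain ⟨r, hr⟩ := hodd
    have h3 := (hpow (orderOf f) ωh hωh).1
    rw [pow_orderOf_eq_one, one_smul, hr, pow_succ, pow_mul, pow_two, hgg, one_pow, one_mul] at h3
    exact hωh' ((mg _).2 h3.symm)
  obtain ⟨r, hr⟩ := heven
  have hr0 : r ≠ 0 := by omega
  have hord : orderOf (f ^ r) = 2 := by
    rw [orderOf_pow_of_dvd hr0 ⟨2, by omega⟩, hr]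
    have : r + r = 2 * r := by ring
    rw [this]
    exact Nat.mul_div_cancel _ (by omega)
  have hsub : insert ωk Fg ⊆ MulAction.fixedBy Ω (f ^ r) := by
    intro ω hω
    rw [MulAction.mem_fixedBy]
    rcases hω with rfl | hω
    · exact hpowfix r _ (hfk _ hωk)
    · exact hpowfix r _ (hfg _ hω)
  have h5 := Set.ncard_le_ncard hsub (Set.toFinite _)
  rw [Set.ncard_insert_of_notMem hωk' (Set.toFinite _), cg, hN _ hord] at h5
  omega

end Cfsg.Agent.Lib.Helper37.Bin
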