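import Cfsg.Agent.Lib.Helper37.Suzuki.BinA

/-!
# Binary actions: a sufficient condition
-/

set_option autoImplicit false

namespace Cfsg.Agent.Lib.Helper37.Bin

variable {G : Type*} [Group G]

theorem isBin'_bot : IsBin' (⊥ : Subgroup G) := by
  intro n x y hn hp
  let i0 : Fin n := ⟨0, by omega⟩
  let i1 : Fin n := ⟨1, by omega⟩
  have h01 : i0 ≠ i1 := by
    intro h
    have := congrArg Fin.val h
    simp [i0, i1] at this
  obtain ⟨g, hg0, hg1⟩ := hp i0 i1 h01
  refine ⟨g, fun i => ?_⟩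
  by_cases hi : i = i0
  · rw [hi]; exact hg0
  · obtain ⟨g', h0, h1⟩ := hp i0 i (Ne.symm hi)
    rw [Subgroup.mem_bot] at *
    have e1 : g = y i0 * (x i0)⁻¹ := by
      have : g = y i0 * ((y i0)⁻¹ * g * x i0) * (x i0)⁻¹ := by group
      rw [this, hg0, mul_one]
    have e2 : g' = y i0 * (x i0)⁻¹ := by
      have : g' = y i0 * ((y i0)⁻¹ * g' * x i0) * (x i0)⁻¹ := by group
      rw [this, h0, mul_one]
    rw [e1, ← e2]
    exact h1

theorem isBin'_of_TI (H : Subgroup G)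
    (hc : ∀ h ∈ H, h * h = 1)
    (ha : ∀ x : G, (∀ h ∈ H, x * h * x⁻¹ ∈ H) ∨ (∀ h ∈ H, x * h * x⁻¹ ∈ H → h = 1))
    (hb : ∀ x y : G, ∀ a ∈ H, ∀ b ∈ H, a ≠ 1 → b ≠ 1 →
      (x * a * x⁻¹) * (y * b * y⁻¹) = (y * b * y⁻¹) * (x * a * x⁻¹) →
        ∀ h ∈ H, (y⁻¹ * x) * h * (y⁻¹ * x)⁻¹ ∈ H) : IsBin' H := by
  classical
  intro n x y hn hp
  let i0 : Fin n := ⟨0, by omega⟩
  let i1 : Fin n := ⟨1, by omega⟩
  have h01 : i0 ≠ i1 := by
    intro h
    have := congrArg Fin.val h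
    simp [i0, i1] at this
  have hγ : ∀ i, ∃ g, (y i0)⁻¹ * g * x i0 ∈ H ∧ (y i)⁻¹ * g * x i ∈ H := by
    intro i
    by_cases hi : i = i0
    · obtain ⟨g, hg0, -⟩ := hp i0 i1 h01
      exact ⟨g, hg0, by rw [hi]; exact hg0⟩
    · exact hp i0 i (Ne.symm hi)
  choose γ hγ0 hγi using hγ
  have K1 : ∀ i j, (x i0)⁻¹ * (γ i)⁻¹ * γ j * x i0 ∈ H := by
    intro i j
    have : (x i0)⁻¹ * (γ i)⁻¹ * γ j * x i0 = ((y i0)⁻¹ * γ i * x i0)⁻¹ * ((y i0)⁻¹ * γ j * x i0) := by
      group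
    rw [this]
    exact H.mul_mem (H.inv_mem (hγ0 i)) (hγ0 j)
  have K2 : ∀ i, (∀ h ∈ H, ((x i)⁻¹ * x i0) * h * ((x i)⁻¹ * x i0)⁻¹ ∈ H) →
      ∀ j, (y i)⁻¹ * γ j * x i ∈ H := by
    intro i hin j
    have : (y i)⁻¹ * γ j * x i = ((y i)⁻¹ * γ i * x i) *
        (((x i)⁻¹ * x i0) * ((x i0)⁻¹ * (γ i)⁻¹ * γ j * x i0) * ((x i)⁻¹ * x i0)⁻¹) := by group
    rw [this]
    exact H.mul_mem (hγi i) (hin _ (K1 i j))
  by_cases hall : ∀ i, ∀ h ∈ H, ((x i)⁻¹ * x i0) * h * ((x i)⁻¹ * x i0)⁻¹ ∈ H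
  · exact ⟨γ i0, fun i => K2 i (hall i) i0⟩
  · push Not at hall
    obtain ⟨s, hs⟩ := hall
    have TIs : ∀ h ∈ H, ((x s)⁻¹ * x i0) * h * ((x s)⁻¹ * x i0)⁻¹ ∈ H → h = 1 := by
      rcases ha ((x s)⁻¹ * x i0) with h | h
      · obtain ⟨h', h1, h2⟩ := hs
        exact absurd (h h' h1) h2
      · exact h
    refine ⟨γ s, fun i => ?_⟩
    by_cases hin : ∀ h ∈ H, ((x i)⁻¹ * x i0) * h * ((x i)⁻¹ * x i0)⁻¹ ∈ H
    · exact K2 i hin s
    · have TIi : ∀ h ∈ H, ((x i)⁻¹ * x i0) * h * ((x i)⁻¹ * x i0)⁻¹ ∈ H → h = 1 := by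
        rcases ha ((x i)⁻¹ * x i0) with h | h
        · exact absurd h hin
        · exact h
      by_cases his : i = s
      · rw [his]; exact hγi s
      · obtain ⟨g', hg1, hg2⟩ := hp s i (Ne.symm his)
        set a₀ := (x s)⁻¹ * (γ s)⁻¹ * g' * x s with ha₀
        set b₀ := (x i)⁻¹ * (γ i)⁻¹ * g' * x i with hb₀
        set z₀ := (x i0)⁻¹ * (γ i)⁻¹ * γ s * x i0 with hz₀
        have ha₀H : a₀ ∈ H := by
          have : a₀ = ((y s)⁻¹ * γ s * x s)⁻¹ * ((y s)⁻¹ * g' * x s) := by rw [ha₀]; group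
          rw [this]
          exact H.mul_mem (H.inv_mem (hγi s)) hg1
        have hb₀H : b₀ ∈ H := by
          have : b₀ = ((y i)⁻¹ * γ i * x i)⁻¹ * ((y i)⁻¹ * g' * x i) := by rw [hb₀]; group
          rw [this]
          exact H.mul_mem (H.inv_mem (hγi i)) hg2
        have hz₀H : z₀ ∈ H := K1 i s
        have hz1 : z₀ = 1 := by
          by_cases ha1 : a₀ = 1
          · apply TIi z₀ hz₀H
            have : (x i)⁻¹ * x i0 * z₀ * ((x i)⁻¹ * x i0)⁻¹ =
                b₀ * ((x i)⁻¹ * x s * a₀⁻¹ * (x s)⁻¹ * x i) := by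
              rw [hz₀, hb₀, ha₀]; group
            rw [this, ha1]
            have : b₀ * ((x i)⁻¹ * x s * 1⁻¹ * (x s)⁻¹ * x i) = b₀ := by group
            rw [this]
            exact hb₀H
          · by_cases hb1 : b₀ = 1
            · apply TIs z₀ hz₀H
              have : (x s)⁻¹ * x i0 * z₀ * ((x s)⁻¹ * x i0)⁻¹ =
                  ((x s)⁻¹ * x i * b₀ * (x i)⁻¹ * x s) * a₀⁻¹ := by
                rw [hz₀, hb₀, ha₀]; group
              rw [this, hb1]
              have : (x s)⁻¹ * x i * 1 * (x i)⁻¹ * x s * a₀⁻¹ = a₀⁻¹ := by group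
              rw [this]
              exact H.inv_mem ha₀H
            · -- both nontrivial: they commute
              set a := x s * a₀ * (x s)⁻¹ with ha
              set b := x i * b₀ * (x i)⁻¹ with hb'
              have haa : a * a = 1 := by
                have : a * a = x s * (a₀ * a₀) * (x s)⁻¹ := by rw [ha]; group
                rw [this, hc _ ha₀H]; group
              have hbb : b * b = 1 := by
                have : b * b = x i * (b₀ * b₀) * (x i)⁻¹ := by rw [hb']; group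
                rw [this, hc _ hb₀H]; group
              have hz : x i0 * z₀ * (x i0)⁻¹ = b * a⁻¹ := by
                rw [hz₀, hb', ha, hb₀, ha₀]; group
              have hainv : a⁻¹ = a := inv_eq_of_mul_eq_one_left haa
              have hbinv : b⁻¹ = b := inv_eq_of_mul_eq_one_left hbb
              have hzz : (b * a) * (b * a) = 1 := by
                rw [hainv] at hz
                rw [← hz]
                have : x i0 * z₀ * (x i0)⁻¹ * (x i0 * z₀ * (x i0)⁻¹) = x i0 * (z₀ * z₀) * (x i0)⁻¹ := by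
                  group
                rw [this, hc _ hz₀H]; group
              have hcomm : a * b = b * a := by
                have h1 : (b * a)⁻¹ = b * a := inv_eq_of_mul_eq_one_left hzz
                rw [_root_.mul_inv_rev, hainv, hbinv] at h1
                exact h1
              have hsame := hb (x s) (x i) a₀ ha₀H b₀ hb₀H ha1 hb1 hcomm
              apply TIi z₀ hz₀H
              have : (x i)⁻¹ * x i0 * z₀ * ((x i)⁻¹ * x i0)⁻¹ =
                  b₀ * (((x i)⁻¹ * x s) * a₀ * ((x i)⁻¹ * x s)⁻¹)⁻¹ := by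
                rw [hz₀, hb₀, ha₀]; group
              rw [this]
              exact H.mul_mem hb₀H (H.inv_mem (hsame _ ha₀H))
        have hγeq : γ i = γ s := by
          have : γ s = γ i * (x i0 * z₀ * (x i0)⁻¹) := by rw [hz₀]; group
          rw [this, hz1]; group
        rw [← hγeq]
        exact hγi i

end Cfsg.Agent.Lib.Helper37.Bin
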