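import Cfsg.Agent.Lib.Helper37.Suzuki.Real

/-!
# The Borel subgroup is the unique maximal subgroup containing `Q`
-/

set_option autoImplicit false

namespace Cfsg.Agent.Lib.Helper37.Suz

open Matrix
open scoped LinearAlgebra.Projectivization Pointwise

variable {F : Type*} [Field F] [Fintype F] (m : ℕ) [SzField F m]

omit [Fintype F] [SzField F m] in
theorem T_one_zero_ne_one : T m (1 : F) 0 ≠ 1 := by
  rw [← T_zero m]
  intro h
  exact one_ne_zero (T_injective m h).1

/-- A subgroup containing `Q` and an element moving `∞` contains the whole Suzuki group. -/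
theorem overgroup (M : Subgroup (Matrix.SpecialLinearGroup (Fin 4) F)) (hQ : ∀ a b : F, T m a b ∈ M)
    {g : Matrix.SpecialLinearGroup (Fin 4) F} (hgM : g ∈ M) (hg : g ∈ Cfsg.Sz F m)
    (hmove : g • (inf : ℙ F (Fin 4 → F)) ≠ inf) : Cfsg.Sz F m ≤ M := by
  -- `w h(k) ∈ M`
  obtain ⟨k0, hy⟩ : ∃ k0 : Fˣ, w * hh m k0 ∈ M := by
    rcases normal_form m hg with ⟨a, b, k, rfl⟩ | ⟨a, b, c, d, k, rfl⟩
    · exfalso
      apply hmove
      rw [mul_smul, hh_smul_inf, T_smul_inf]
    · refine ⟨k, ?_⟩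
      have e : T m c d * hh m k = hh m k * T m ((k⁻¹ : Fˣ) * c) (sig m ((k⁻¹ : Fˣ) : F) * (k⁻¹ : Fˣ) * d) := by
        have := hh_mul_T m k⁻¹ c d
        rw [← hh_inv] at this
        have h2 : hh m k * ((hh m k)⁻¹ * T m c d) * hh m k =
            hh m k * (T m ((k⁻¹ : Fˣ) * c) (sig m ((k⁻¹ : Fˣ) : F) * (k⁻¹ : Fˣ) * d) * (hh m k)⁻¹) * hh m k := by
          rw [this]
        simpa [mul_assoc] using h2
      have h1 : w * hh m k = (T m a b)⁻¹ * (T m a b * w * (T m c d * hh m k)) *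
          (T m ((k⁻¹ : Fˣ) * c) (sig m ((k⁻¹ : Fˣ) : F) * (k⁻¹ : Fˣ) * d))⁻¹ := by
        rw [e]; simp only [mul_assoc, inv_mul_cancel_left, mul_inv_cancel, mul_one]
      rw [h1]
      exact mul_mem (mul_mem (inv_mem (hQ _ _)) hgM) (inv_mem (hQ _ _))
  have hwQ : ∀ a b : F, w * T m a b * w ∈ M := by
    intro a b
    have h1 : w * T m a b * w = (w * hh m k0) * ((hh m k0)⁻¹ * T m a b * hh m k0) * (w * hh m k0)⁻¹ := by
      rw [_root_.mul_inv_rev, w_inv]; simp only [mul_assoc, mul_inv_cancel_left]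
    rw [h1]
    refine mul_mem (mul_mem hy ?_) (inv_mem hy)
    have := hh_conj_T m k0⁻¹ a b
    rw [hh_inv, inv_inv, ← hh_inv] at this
    rw [this]
    exact hQ _ _
  let N : Subgroup (Matrix.SpecialLinearGroup (Fin 4) F) :=
    Subgroup.closure {y | ∃ x ∈ Cfsg.Sz F m, ∃ a b : F, y = x * T m a b * x⁻¹}
  have hNM : N ≤ M := by
    rw [Subgroup.closure_le]
    rintro _ ⟨x, hx, a, b, rfl⟩
    rcases normal_form m hx with ⟨c, d, k, rfl⟩ | ⟨a', b', c, d, k, rfl⟩
    · rw [conj_QH]; exact hQ _ _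
    · have h1 : T m a' b' * w * (T m c d * hh m k) * T m a b * (T m a' b' * w * (T m c d * hh m k))⁻¹ =
          T m a' b' * (w * ((T m c d * hh m k) * T m a b * (T m c d * hh m k)⁻¹) * w) * (T m a' b')⁻¹ := by
        rw [_root_.mul_inv_rev (T m a' b' * w), _root_.mul_inv_rev (T m a' b'), w_inv]
        simp only [mul_assoc]
      show _ ∈ M
      rw [h1, conj_QH]
      exact mul_mem (mul_mem (hQ _ _) (hwQ _ _)) (inv_mem (hQ _ _))
  refine le_trans ?_ hNM
  apply normal_aux m N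
  · intro g hg y hy
    induction hy using Subgroup.closure_induction with
    | mem y hy =>
      obtain ⟨x, hx, a, b, rfl⟩ := hy
      apply Subgroup.subset_closure
      refine ⟨g * x, mul_mem hg hx, a, b, ?_⟩
      rw [_root_.mul_inv_rev]; simp only [mul_assoc]
    | one => simp
    | mul y z _ _ hy hz =>
      have : g * (y * z) * g⁻¹ = (g * y * g⁻¹) * (g * z * g⁻¹) := by simp [mul_assoc]
      rw [this]; exact mul_mem hy hz
    | inv y _ hy =>
      have : g * y⁻¹ * g⁻¹ = (g * y * g⁻¹)⁻¹ := by simp [mul_assoc]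
      rw [this]; exact inv_mem hy
  · refine ⟨T m 1 0, ?_, T_mem m 1 0, T_one_zero_ne_one m⟩
    apply Subgroup.subset_closure
    exact ⟨1, one_mem _, 1, 0, by simp⟩

/-- the Borel subgroup -/
abbrev Binf (F : Type*) [Field F] [Fintype F] (m : ℕ) [SzField F m] : Subgroup (Cfsg.Sz F m) :=
  MulAction.stabilizer (Cfsg.Sz F m) (inf : ℙ F (Fin 4 → F))

theorem mem_Binf {g : Cfsg.Sz F m} : g ∈ Binf F m ↔ g.1 • (inf : ℙ F (Fin 4 → F)) = inf := Iff.rfl

theorem Q_le_Binf : Qsub F m ≤ Binf F m := by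
  rintro _ ⟨a, b, rfl⟩
  exact T_smul_inf m a b

theorem overgroup' (M : Subgroup (Cfsg.Sz F m)) (hQ : Qsub F m ≤ M) (hM : ¬ M ≤ Binf F m) : M = ⊤ := by
  obtain ⟨g, hgM, hg⟩ := SetLike.not_le_iff_exists.1 hM
  have key := overgroup m (M.map (Cfsg.Sz F m).subtype) (fun a b => ⟨TS m a b, hQ (TS_mem m a b), rfl⟩)
    ⟨g, hgM, rfl⟩ g.2 hg
  rw [eq_top_iff]
  intro y _
  obtain ⟨z, hz, hzy⟩ := key y.2
  have : z = y := Subtype.ext hzy
  rwa [← this]

theorem Binf_ne_top : Binf F m ≠ ⊤ := by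
  intro h
  have : wS m ∈ Binf F m := by rw [h]; trivial
  rw [mem_Binf] at this
  have h2 := w_smul_inf (F := F) m
  have h3 : (wS m : Cfsg.Sz F m).1 = w := rfl
  rw [h3, h2] at this
  exact pt_ne_inf m 0 0 this

theorem normalizer_Q : Subgroup.normalizer (Qsub F m : Set (Cfsg.Sz F m)) = Binf F m := by
  apply le_antisymm
  · intro g hg
    rw [Subgroup.mem_normalizer_iff] at hg
    obtain ⟨a, b, hab⟩ := (hg (TS m 1 0)).1 (TS_mem m 1 0)
    rw [mem_Binf]
    have hab' : g.1 * T m 1 0 * g.1⁻¹ = T m a b := congrArg Subtype.val hab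
    apply T_fix m (a := a) (b := b) _ (smul_mem_of_mem_Sz m g.2 (inf_mem m))
    · rw [← hab', ← mul_smul, inv_mul_cancel_right, mul_smul, T_smul_inf]
    · rintro ⟨rfl, rfl⟩
      rw [T_zero] at hab'
      apply T_one_zero_ne_one (F := F) m
      have : g.1 * T m 1 0 = g.1 := by
        have := congrArg (· * g.1) hab'
        simpa using this
      exact mul_eq_left.1 this
  · rw [Subgroup.le_normalizer_iff]
    rintro g hg _ ⟨a, b, rfl⟩
    obtain ⟨c, d, k, hk⟩ := inf_stab m g.2 hg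
    refine ⟨k * a, sig m (k : F) * k * b + sig m c * (k * a) + sig m (k * a) * c, Subtype.ext ?_⟩
    show g.1 * T m a b * g.1⁻¹ = _
    rw [hk, conj_QH]
    rfl

theorem borel_Q : IsCoatom (Subgroup.normalizer (Qsub F m : Set (Cfsg.Sz F m))) ∧
    ∀ M : Subgroup (Cfsg.Sz F m), IsCoatom M → Qsub F m ≤ M →
      M = Subgroup.normalizer (Qsub F m : Set (Cfsg.Sz F m)) := by
  rw [normalizer_Q]
  constructor
  · refine ⟨Binf_ne_top m, fun M hM => ?_⟩
    exact overgroup' m M ((Q_le_Binf m).trans hM.le) (fun h => absurd hM (not_lt_of_ge h))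
  · intro M hM hQ
    by_contra hne
    have h1 : ¬ M ≤ Binf F m := by
      intro hle
      exact Binf_ne_top m (hM.2 _ (lt_of_le_of_ne hle hne))
    exact hM.1 (overgroup' m M hQ h1)

/-- transport of the statement along conjugation -/
theorem borel_transport {G : Type*} [Group G] (Q P : Subgroup G) (x : G)
    (hP : ∀ g, g ∈ P ↔ x⁻¹ * g * x ∈ Q)
    (h : IsCoatom (Subgroup.normalizer (Q : Set G)) ∧
      ∀ M : Subgroup G, IsCoatom M → Q ≤ M → M = Subgroup.normalizer (Q : Set G)) :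
    IsCoatom (Subgroup.normalizer (P : Set G)) ∧
      ∀ M : Subgroup G, IsCoatom M → P ≤ M → M = Subgroup.normalizer (P : Set G) := by
  have hPQ : P = Q.map (MulAut.conj x).toMonoidHom := by
    ext g
    rw [hP, Subgroup.mem_map]
    constructor
    · intro h
      exact ⟨_, h, by simp [mul_assoc]⟩
    · rintro ⟨y, hy, rfl⟩
      simpa [mul_assoc] using hy
  have hN : Subgroup.normalizer (P : Set G) =
      (Subgroup.normalizer (Q : Set G)).map (MulAut.conj x).toMonoidHom := by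
    rw [hPQ, Subgroup.map_equiv_normalizer_eq]
  constructor
  · rw [hN]
    exact (OrderIso.isCoatom_iff ((MulAut.conj x).mapSubgroup) _).2 h.1
  · intro M hM hPM
    have h1 : IsCoatom (M.comap (MulAut.conj x).toMonoidHom) := (Subgroup.isCoatom_comap (MulAut.conj x)).2 hM
    have h2 : Q ≤ M.comap (MulAut.conj x).toMonoidHom := by
      rw [← Subgroup.map_le_iff_le_comap, ← hPQ]; exact hPM
    have h3 := h.2 _ h1 h2
    rw [hN, ← h3, Subgroup.map_comap_eq_self_of_surjective (MulAut.conj x).surjective]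

theorem borel (P : Sylow 2 (Cfsg.Sz F m)) :
    IsCoatom (Subgroup.normalizer ((P : Subgroup (Cfsg.Sz F m)) : Set (Cfsg.Sz F m))) ∧
    ∀ M : Subgroup (Cfsg.Sz F m), IsCoatom M → (P : Subgroup (Cfsg.Sz F m)) ≤ M →
      M = Subgroup.normalizer ((P : Subgroup (Cfsg.Sz F m)) : Set (Cfsg.Sz F m)) := by
  obtain ⟨x, hx⟩ := exists_conj_mem_Q m P
  exact borel_transport (Qsub F m) P x hx (borel_Q m)

end Cfsg.Agent.Lib.Helper37.Suz
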