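import Cfsg.Agent.Lib.Helper37.Suzuki.Cyclic

/-!
# The Suzuki group is a CN-group
-/

set_option autoImplicit false

namespace Cfsg.Agent.Lib.Helper37.Suz

open Matrix
open scoped LinearAlgebra.Projectivization Pointwise

theorem nilpotent_of_isCyclic {C : Type*} [Group C] [IsCyclic C] : Group.IsNilpotent C := by
  let _ : CommGroup C := IsCyclic.commGroup
  infer_instance

variable {F : Type*} [Field F] [Fintype F] (m : ℕ) [SzField F m]

/-- the centraliser of a central involution of `Q` is `Q` -/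
theorem centralizer_T {b : F} (hb : b ≠ 0) {c : Matrix.SpecialLinearGroup (Fin 4) F}
    (hc : c ∈ Cfsg.Sz F m) (h : T m 0 b * c = c * T m 0 b) : ∃ a' b', c = T m a' b' := by
  have hfix : T m 0 b • (c • (inf : ℙ F (Fin 4 → F))) = c • inf := by
    rw [← mul_smul, h, mul_smul, T_smul_inf]
  have hcinf := T_fix m (fun hh => hb hh.2) (smul_mem_of_mem_Sz m hc (inf_mem m)) hfix
  obtain ⟨a', b', k, rfl⟩ := inf_stab m hc hcinf
  have h1 : (T m a' b' * hh m k) * T m 0 b * (T m a' b' * hh m k)⁻¹ = T m 0 b := by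
    rw [← h, mul_inv_cancel_right]
  rw [conj_QH] at h1
  obtain ⟨-, h2⟩ := T_injective m h1
  simp only [mul_zero, sig_zero, zero_mul, add_zero] at h2
  have h3 : sig m (k : F) * k = 1 := by
    have : sig m (k : F) * k * b = 1 * b := by rw [h2, one_mul]
    exact mul_right_cancel₀ hb this
  have h4 : (k : F) = 1 := by
    apply sig_mul_self_injective m
    simp only [sig_one, mul_one]
    exact h3
  have h5 : k = 1 := Units.ext h4
  exact ⟨a', b', by rw [h5, hh_one, mul_one]⟩

/-- the centraliser of a nontrivial torus element is the torus -/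
theorem centralizer_hh {k : Fˣ} (hk : k ≠ 1) {c : Matrix.SpecialLinearGroup (Fin 4) F}
    (hc : c ∈ Cfsg.Sz F m) (h : hh m k * c = c * hh m k) : ∃ l, c = hh m l := by
  have hfix : hh m k • (c • (inf : ℙ F (Fin 4 → F))) = c • inf := by
    rw [← mul_smul, h, mul_smul, hh_smul_inf]
  have hfix0 : hh m k • (c • pt m (0 : F) 0) = c • pt m 0 0 := by
    rw [← mul_smul, h, mul_smul, hh_smul_pt]; simp
  rcases (hh_fix_iff m hk (smul_mem_of_mem_Sz m hc (inf_mem m))).1 hfix with h1 | h1
  · rcases (hh_fix_iff m hk (smul_mem_of_mem_Sz m hc (pt_mem m 0 0))).1 hfix0 with h2 | h2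
    · exact absurd (smul_left_cancel c (h2.trans h1.symm)) (pt_ne_inf m 0 0)
    · exact two_point_stab m hc h1 h2
  · exact absurd h (not_commute_of_inf_zero m hc h1 hk)

theorem isPGroup_Qsub : IsPGroup 2 (Qsub F m) := by
  apply IsPGroup.of_card (n := 2 * (2 * m + 1))
  rw [card_Qsub, SzField.card (F := F) (m := m), ← pow_mul, mul_comm]

theorem isCN : Cfsg.IsCNGroup (Cfsg.Sz F m) := by
  intro g hg
  have hchar := charTwo (F := F) m
  have hord : orderOf g ≠ 1 := by rwa [Ne, orderOf_eq_one_iff]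
  obtain ⟨p, hp, hpd⟩ := Nat.exists_prime_and_dvd hord
  have : Fact p.Prime := ⟨hp⟩
  set z := g ^ (orderOf g / p) with hzdef
  have hz : orderOf z = p := orderOf_pow_orderOf_div (orderOf_pos g).ne' hpd
  have hz1 : z ≠ 1 := by
    intro h
    rw [h, orderOf_one] at hz
    exact hp.one_lt.ne hz
  have hCz : ∀ c ∈ Subgroup.centralizer ({g} : Set (Cfsg.Sz F m)), z * c = c * z := by
    intro c hc
    have h1 : Commute c g := Subgroup.mem_centralizer_singleton_iff.1 hc
    exact ((h1.pow_right _).eq).symm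
  have hzp : IsPGroup p (Subgroup.zpowers z) := by
    apply IsPGroup.of_card (n := 1)
    rw [Nat.card_zpowers, hz, pow_one]
  by_cases hp2 : p = 2
  · subst hp2
    obtain ⟨P, hP⟩ := hzp.exists_le_sylow
    obtain ⟨x, hx⟩ := exists_conj_mem_Q m P
    obtain ⟨a, b, hab⟩ := (hx z).1 (hP (Subgroup.mem_zpowers z))
    have hsq : (x⁻¹ * z * x) ^ 2 = 1 := by
      have : (x⁻¹ * z * x) ^ 2 = x⁻¹ * z ^ 2 * x := by
        rw [pow_two, pow_two]; group
      rw [this, ← hz, pow_orderOf_eq_one]; group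
    rw [hab, pow_two, TS_mul, ← TS_zero m] at hsq
    obtain ⟨-, h2⟩ := TS_injective m hsq
    have ha : a = 0 := by
      have h3 : sig m a * a = 0 := by
        rw [add_self', zero_add] at h2
        exact h2
      apply sig_mul_self_injective m
      simp only [sig_zero, mul_zero]
      exact h3
    subst ha
    have hb : b ≠ 0 := by
      rintro rfl
      apply hz1
      rw [TS_zero] at hab
      have : z = x * 1 * x⁻¹ := by rw [← hab]; group
      rw [this]; group
    have hmem : ∀ c ∈ Subgroup.centralizer ({g} : Set (Cfsg.Sz F m)), x⁻¹ * c * x ∈ Qsub F m := by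
      intro c hc
      have h1 : (x⁻¹ * z * x) * (x⁻¹ * c * x) = (x⁻¹ * c * x) * (x⁻¹ * z * x) := by
        have e1 : (x⁻¹ * z * x) * (x⁻¹ * c * x) = x⁻¹ * (z * c) * x := by group
        have e2 : (x⁻¹ * c * x) * (x⁻¹ * z * x) = x⁻¹ * (c * z) * x := by group
        rw [e1, e2, hCz c hc]
      rw [hab] at h1
      obtain ⟨a', b', h3⟩ := centralizer_T m hb (x⁻¹ * c * x).2 (congrArg Subtype.val h1)
      exact ⟨a', b', Subtype.ext h3⟩
    have : Group.IsNilpotent (Qsub F m) := (isPGroup_Qsub m).isNilpotent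
    exact nilpotent_of_injective _ (conjHom_injective (Qsub F m) _ x hmem)
  · by_cases hdiv : p ∣ Fintype.card F ^ 2 + 1
    · have := isCyclic_of_commute m hp2 hdiv z hz _ hCz
      exact nilpotent_of_isCyclic
    · obtain ⟨x, hx⟩ := exists_conj_le (Hsub F m) _ hzp (not_dvd_index_Hsub m hp hp2 hdiv)
      obtain ⟨k, hk⟩ := hx z (Subgroup.mem_zpowers z)
      have hk1 : k ≠ 1 := by
        rintro rfl
        apply hz1
        rw [map_one] at hk
        have : z = x * 1 * x⁻¹ := by rw [hk]; group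
        rw [this]; group
      have hmem : ∀ c ∈ Subgroup.centralizer ({g} : Set (Cfsg.Sz F m)), x⁻¹ * c * x ∈ Hsub F m := by
        intro c hc
        have h1 : (x⁻¹ * z * x) * (x⁻¹ * c * x) = (x⁻¹ * c * x) * (x⁻¹ * z * x) := by
          have e1 : (x⁻¹ * z * x) * (x⁻¹ * c * x) = x⁻¹ * (z * c) * x := by group
          have e2 : (x⁻¹ * c * x) * (x⁻¹ * z * x) = x⁻¹ * (c * z) * x := by group
          rw [e1, e2, hCz c hc]
        rw [← hk] at h1
        obtain ⟨l, h3⟩ := centralizer_hh m hk1 (x⁻¹ * c * x).2 (congrArg Subtype.val h1)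
        exact ⟨l, Subtype.ext h3.symm⟩
      have : Group.IsNilpotent (Hsub F m) := nilpotent_of_isCyclic
      exact nilpotent_of_injective _ (conjHom_injective (Hsub F m) _ x hmem)

end Cfsg.Agent.Lib.Helper37.Suz
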