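import Cfsg.Agent.Lib.Helper37.Suzuki.SolH

/-!
# Squares of conjugacy classes in the Suzuki groups: field lemma and traces
-/

set_option autoImplicit false

namespace Cfsg.Agent.Lib.Helper37.Suz

open Matrix TICount
open scoped LinearAlgebra.Projectivization

variable {F : Type*} [Field F] [Fintype F] {m : ℕ} [SzField F m]

theorem sig_sq_surjective (y : F) : ∃ x : F, sig m x * x ^ 2 = y := by
  obtain ⟨z, hz⟩ := sig_surjective m y
  obtain ⟨x, hx⟩ := sig_mul_self_surjective m z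
  simp only at hx
  refine ⟨x, ?_⟩
  rw [← hz, ← hx, sig_mul, sig_sig, mul_comm]

theorem exists_sqrt (m : ℕ) [SzField F m] (y : F) : ∃ x : F, x ^ 2 = y := by
  obtain ⟨z, hz⟩ := sig_surjective m y
  obtain ⟨x, hx⟩ := sig_surjective m z
  exact ⟨x, by rw [← sig_sig m, hx, hz]⟩

/-- the key field lemma -/
theorem key_field {τ : F} (hτ : τ ≠ 0) :
    ∃ ε c : F, ε ≠ 0 ∧ τ * (sig m ε * ε ^ 2) + ε ^ 2 = sig m c + c + 1 := by
  have hchar := charTwo (F := F) m
  have h2 : (2 : F) = 0 := two_eq_zero'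
  by_contra hcon
  push Not at hcon
  have hA : ∀ ε : F, ∃ c : F, τ * (sig m ε * ε ^ 2) + ε ^ 2 = sig m c + c := by
    intro ε
    by_cases hε : ε = 0
    · exact ⟨0, by simp [hε]⟩
    · obtain ⟨c, hc | hc⟩ := exists_sig_add (m := m) (τ * (sig m ε * ε ^ 2) + ε ^ 2)
      · exact ⟨c, hc⟩
      · exact absurd hc (hcon ε c hε)
  have hB : ∀ e f : F, ∃ c : F, τ * (sig m e * f ^ 2 + e ^ 2 * sig m f) = sig m c + c := by
    intro e f
    obtain ⟨c1, h1⟩ := hA (e + f)
    obtain ⟨c2, h2'⟩ := hA e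
    obtain ⟨c3, h3⟩ := hA f
    refine ⟨c1 + c2 + c3, ?_⟩
    rw [sig_add] at h1
    rw [sig_add, sig_add]
    have : sig m c1 + sig m c2 + sig m c3 + (c1 + c2 + c3) =
        (sig m c1 + c1) + (sig m c2 + c2) + (sig m c3 + c3) := by ring
    rw [this, ← h1, ← h2', ← h3]
    grind
  obtain ⟨f₀, hf0, hf1⟩ := exists_ne_zero_one (F := F) m
  have hne : τ * (sig m 1 * f₀ ^ 2 + 1 ^ 2 * sig m f₀) ≠ 0 := by
    apply mul_ne_zero hτ
    intro h
    rw [sig_one, one_mul, one_pow, one_mul] at h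
    have h1 : f₀ ^ 2 = sig m f₀ := CharTwo.add_eq_zero.1 h
    rw [← sig_sig m] at h1
    have h3 := sig_injective m h1
    rcases (sig_eq_self_iff m f₀).1 h3 with h | h
    · exact hf0 h
    · exact hf1 h
  obtain ⟨l, hl⟩ := sig_sq_surjective (m := m) (τ * (sig m 1 * f₀ ^ 2 + 1 ^ 2 * sig m f₀))⁻¹
  obtain ⟨c, hc⟩ := hB l (l * f₀)
  have h1 : τ * (sig m l * (l * f₀) ^ 2 + l ^ 2 * sig m (l * f₀)) = 1 := by
    have : τ * (sig m l * (l * f₀) ^ 2 + l ^ 2 * sig m (l * f₀)) =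
        (sig m l * l ^ 2) * (τ * (sig m 1 * f₀ ^ 2 + 1 ^ 2 * sig m f₀)) := by
      rw [sig_mul, sig_one]; ring
    rw [this, hl, inv_mul_cancel₀ hne]
  rw [h1] at hc
  apply sig_add_self_add_one_ne_zero m c
  rw [← hc]
  exact add_self' 1

/-- trace on the Suzuki group -/
def trS (g : Cfsg.Sz F m) : F := Matrix.trace (g.1.1)

theorem trS_mul_comm (g h : Cfsg.Sz F m) : trS (g * h) = trS (h * g) := by
  unfold trS
  show Matrix.trace (g.1.1 * h.1.1) = Matrix.trace (h.1.1 * g.1.1)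
  exact Matrix.trace_mul_comm _ _

theorem trS_conj (g x : Cfsg.Sz F m) : trS (g * x * g⁻¹) = trS x := by
  rw [trS_mul_comm, ← mul_assoc, inv_mul_cancel, one_mul]

theorem trS_isConj {x y : Cfsg.Sz F m} (h : IsConj x y) : trS x = trS y := by
  obtain ⟨c, rfl⟩ := isConj_iff.1 h
  rw [trS_conj]

theorem trS_TS (a b : F) : trS (TS m a b) = 0 := by
  have hchar := charTwo (F := F) m
  have h2 : (2 : F) = 0 := two_eq_zero'
  unfold trS
  show Matrix.trace (Tmat m a b) = 0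
  simp [Matrix.trace, Fin.sum_univ_four, Tmat]
  grind

theorem trS_TS_wS (e f : F) : trS (TS m e f * wS m) = sig m e + ff m e f := by
  unfold trS
  show Matrix.trace (Tmat m e f * wmat) = _
  simp [Matrix.trace, Fin.sum_univ_four, Tmat, wmat, Matrix.mul_apply]
  ring

theorem trS_TwTw (a b c d : F) : trS (TS m a b * wS m * TS m c d * wS m) =
    sig m (a * c) + sig m a * a * d + sig m c * c * b + ff m a b * ff m c d := by
  have hchar := charTwo (F := F) m
  have h2 : (2 : F) = 0 := two_eq_zero'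
  unfold trS
  show Matrix.trace (Tmat m a b * wmat * Tmat m c d * wmat) = _
  simp [Matrix.trace, Fin.sum_univ_four, Tmat, wmat, Matrix.mul_apply, sig_mul]
  grind

end Cfsg.Agent.Lib.Helper37.Suz
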