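import Cfsg.Agent.Lib.Helper37.Suzuki.CovA

/-!
# Squares of conjugacy classes in the Suzuki groups: the trace criterion
-/

set_option autoImplicit false

namespace Cfsg.Agent.Lib.Helper37.Suz

open Matrix TICount
open scoped LinearAlgebra.Projectivization

variable {F : Type*} [Field F] [Fintype F] {m : ℕ} [SzField F m]

/-- an element of odd order is inverted by an involution -/
theorem OddT.exists_invol {g : Cfsg.Sz F m} (hg : OddT g) :
    ∃ i : Cfsg.Sz F m, orderOf i = 2 ∧ i * g * i⁻¹ = g⁻¹ := by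
  have : Fact (Nat.Prime 2) := ⟨Nat.prime_two⟩
  obtain ⟨i₀, hi₀⟩ := exists_prime_orderOf_dvd_card' 2 hg.two_dvd_card_normalizer
  refine ⟨i₀.1, ?_, ?_⟩
  · rw [Subgroup.orderOf_coe]; exact hi₀
  · exact hg.invol_inverts (by rw [Subgroup.orderOf_coe]; exact hi₀) i₀.2 (self_mem_Tor g)

theorem OddT.real {g : Cfsg.Sz F m} (hg : OddT g) : IsConj g g⁻¹ := by
  obtain ⟨i, -, hi⟩ := hg.exists_invol
  exact isConj_iff.2 ⟨i, hi⟩

/-- normal form of an element of odd order -/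
theorem OddT.normal_form {g : Cfsg.Sz F m} (hg : OddT g) :
    ∃ β δ : F, β ≠ 0 ∧ δ ≠ 0 ∧ IsConj g (TS m 0 β * wS m * TS m 0 δ * wS m) := by
  have hchar := charTwo (F := F) m
  obtain ⟨i, hi2, hi⟩ := hg.exists_invol
  have hii : i * i = 1 := by rw [← pow_two, ← hi2, pow_orderOf_eq_one]
  have hinv : i⁻¹ = i := inv_eq_of_mul_eq_one_left hii
  rw [hinv] at hi
  -- j = g * i is an involution
  have hjj : (g * i) * (g * i) = 1 := by
    have : (g * i) * (g * i) = g * (i * g * i) := by group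
    rw [this, hi, mul_inv_cancel]
  have hj1 : g * i ≠ 1 := by
    intro h
    have h1 : g = i := by
      have : g = (g * i) * i := by rw [mul_assoc, hii, mul_one]
      rw [this, h, one_mul]
    have := hg.odd_orderOf
    rw [h1, hi2] at this
    exact absurd this (by decide)
  have hj2 : orderOf (g * i) = 2 := orderOf_eq_prime (by rw [pow_two]; exact hjj) hj1
  obtain ⟨x, β, hβ, hx⟩ := invol_conj hj2
  obtain ⟨x', b', hb', hx'⟩ := invol_conj hi2
  -- the conjugate of `i` by `x⁻¹`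
  have hi' : x⁻¹ * i * x = (x⁻¹ * x') * TS m 0 b' * (x⁻¹ * x')⁻¹ := by
    rw [← hx']; group
  have hgx : x⁻¹ * g * x = TS m 0 β * (x⁻¹ * i * x) := by
    rw [← hx]
    have : x⁻¹ * (g * i) * x * (x⁻¹ * i * x) = x⁻¹ * g * (i * i) * x := by group
    rw [this, hii, mul_one]
  set y := x⁻¹ * x' with hy
  have hmem : y.1 • (inf : ℙ F (Fin 4 → F)) ∈ Cfsg.suzukiOvoid F m :=
    smul_mem_of_mem_Sz m y.2 (inf_mem m)
  rcases (mem_ovoid_iff m _).1 hmem with hinf | ⟨a, b, hab⟩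
  · exfalso
    obtain ⟨κ, hκ, hc⟩ := fix_inf_conj m y hinf
    rw [hi', hc b', TS0_mul] at hgx
    apply (hg.conj x⁻¹).2
    rw [inv_inv, hgx]
    apply mem_cl_of_mem (TS_mem m _ _)
    rw [← hgx]
    have := (hg.conj x⁻¹).1
    rwa [inv_inv] at this
  · -- move the point to zero
    set z := wS m * (TS m a b)⁻¹ * y with hz
    have hzinf : z.1 • (inf : ℙ F (Fin 4 → F)) = inf := by
      have e : z.1 = (w : Matrix.SpecialLinearGroup (Fin 4) F) * (T m a b)⁻¹ * y.1 := rfl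
      rw [e, mul_smul, mul_smul, hab, ← T_smul_zero m a b, inv_smul_smul, w_smul_zero]
    obtain ⟨κ, hκ, hc⟩ := fix_inf_conj m z hzinf
    refine ⟨β, κ * b', hβ, mul_ne_zero hκ hb', ?_⟩
    rw [isConj_iff]
    refine ⟨(TS m a b)⁻¹ * x⁻¹, ?_⟩
    have h1 : (TS m a b)⁻¹ * x⁻¹ * g * ((TS m a b)⁻¹ * x⁻¹)⁻¹ =
        (TS m a b)⁻¹ * (x⁻¹ * g * x) * TS m a b := by group
    rw [h1, hgx, hi', ← hc b', hz]
    have h2 : (TS m a b)⁻¹ * TS m 0 β = TS m 0 β * (TS m a b)⁻¹ := by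
      rw [TS_inv, TS_mul, TS_mul]
      congr 1
      · ring
      · simp; ring
    have h3 : (TS m a b)⁻¹ * (TS m 0 β * (y * TS m 0 b' * y⁻¹)) * TS m a b =
        ((TS m a b)⁻¹ * TS m 0 β) * (y * TS m 0 b' * y⁻¹) * TS m a b := by group
    rw [h3, h2]
    have h4 : TS m 0 β * wS m * (wS m * (TS m a b)⁻¹ * y * TS m 0 b' * (wS m * (TS m a b)⁻¹ * y)⁻¹) * wS m
        = TS m 0 β * (wS m * wS m) * (TS m a b)⁻¹ * y * TS m 0 b' * y⁻¹ * TS m a b * ((wS m)⁻¹ * wS m) := by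
      group
    rw [h4, wS_mul_wS m, inv_mul_cancel]
    group

theorem trS_normal (β δ : F) : trS (TS m 0 β * wS m * TS m 0 δ * wS m) = sig m (β * δ) := by
  rw [trS_TwTw]
  simp [ff, sig_mul]

theorem OddT.trS_ne_zero {g : Cfsg.Sz F m} (hg : OddT g) : trS g ≠ 0 := by
  obtain ⟨β, δ, hβ, hδ, h⟩ := hg.normal_form
  rw [trS_isConj h, trS_normal]
  exact sig_ne_zero m (mul_ne_zero hβ hδ)

theorem OddT.of_trS {g : Cfsg.Sz F m} (hg : trS g ≠ 0) : OddT g := by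
  refine ⟨?_, ?_⟩
  · rintro rfl
    apply hg
    rw [← TS_zero m, trS_TS]
  · rintro ⟨x, _, ⟨a, b, rfl⟩, -, rfl⟩
    apply hg
    rw [trS_conj, trS_TS]

theorem normal_isConj {β δ β' δ' : F} (hβ : β ≠ 0) (hβ' : β' ≠ 0) (h : β * δ = β' * δ') :
    IsConj (TS m 0 β * wS m * TS m 0 δ * wS m) (TS m 0 β' * wS m * TS m 0 δ' * wS m) := by
  obtain ⟨k, hk⟩ := sig_mul_self_surjective m (β' / β)
  simp only at hk
  have hk0 : k ≠ 0 := by
    rintro rfl
    rw [sig_zero, zero_mul] at hk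
    exact div_ne_zero hβ' hβ hk.symm
  set u : Fˣ := Units.mk0 k hk0 with hu
  rw [isConj_iff]
  refine ⟨hS m u, ?_⟩
  have h1 : hS m u * (TS m 0 β * wS m * TS m 0 δ * wS m) * (hS m u)⁻¹ =
      (hS m u * TS m 0 β * (hS m u)⁻¹) * (hS m u * wS m) * TS m 0 δ * (wS m * (hS m u)⁻¹) := by
    group
  have h2 : hS m u * wS m = wS m * hS m u⁻¹ := by
    rw [wS_mul_hS, inv_inv]
  have h3 : (hS m u)⁻¹ = hS m u⁻¹ := Subtype.ext (hh_inv m u)
  have h4 : wS m * (hS m u)⁻¹ = (hS m u⁻¹)⁻¹ * wS m := by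
    rw [h3, wS_mul_hS, inv_inv]
    congr 1
    rw [← h3, inv_inv]
  rw [h1, h2, h4, hS_conj_TS]
  have h5 : TS m ((u : F) * 0) (sig m (u : F) * ↑u * β) * (wS m * hS m u⁻¹) * TS m 0 δ * ((hS m u⁻¹)⁻¹ * wS m) =
      TS m ((u : F) * 0) (sig m (u : F) * ↑u * β) * wS m * (hS m u⁻¹ * TS m 0 δ * (hS m u⁻¹)⁻¹) * wS m := by
    group
  rw [h5, hS_conj_TS]
  have e1 : (u : F) = k := rfl
  have e2 : ((u⁻¹ : Fˣ) : F) = k⁻¹ := by simp [hu]
  rw [e1, e2, hk, sig_inv, mul_zero, mul_zero]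
  have e3 : β' / β * β = β' := by field_simp
  have e4 : (sig m k)⁻¹ * k⁻¹ * δ = δ' := by
    rw [← _root_.mul_inv_rev, mul_comm k, hk]
    field_simp
    linear_combination h
  rw [e3, e4]

/-- the trace criterion -/
theorem OddT.isConj_of_trS {g g' : Cfsg.Sz F m} (hg : OddT g) (h : trS g = trS g') : IsConj g g' := by
  have hchar := charTwo (F := F) m
  have hg' : OddT g' := OddT.of_trS (by rw [← h]; exact hg.trS_ne_zero)
  obtain ⟨β, δ, hβ, hδ, h1⟩ := hg.normal_form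
  obtain ⟨β', δ', hβ', hδ', h2⟩ := hg'.normal_form
  rw [trS_isConj h1, trS_isConj h2, trS_normal, trS_normal] at h
  exact h1.trans ((normal_isConj hβ hβ' (sig_injective m h)).trans h2.symm)

end Cfsg.Agent.Lib.Helper37.Suz
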