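import Cfsg.Agent.Lib.Helper37.Suzuki.CovB

/-!
# Squares of conjugacy classes in the Suzuki groups: the covering theorem
-/

set_option autoImplicit false

namespace Cfsg.Agent.Lib.Helper37.Suz

open Matrix TICount
open scoped LinearAlgebra.Projectivization

variable {F : Type*} [Field F] [Fintype F] {m : ℕ} [SzField F m]

theorem cover_of {G : Type*} [Group G] {x y z g : G} (hy : IsConj x y) (hz : IsConj x z)
    (hg : IsConj (y * z) g) : ∃ u v : G, g = (u * x * u⁻¹) * (v * x * v⁻¹) := by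
  obtain ⟨a, rfl⟩ := isConj_iff.1 hy
  obtain ⟨b, rfl⟩ := isConj_iff.1 hz
  obtain ⟨c, rfl⟩ := isConj_iff.1 hg
  exact ⟨c * a, c * b, by group⟩

theorem isConj_inv' {G : Type*} [Group G] {x y : G} (h : IsConj x y) : IsConj x⁻¹ y⁻¹ := by
  obtain ⟨a, rfl⟩ := isConj_iff.1 h
  exact isConj_iff.2 ⟨a, by group⟩

theorem isConj_conj {G : Type*} [Group G] (c x : G) : IsConj x (c * x * c⁻¹) :=
  isConj_iff.2 ⟨c, rfl⟩

theorem orderOf_TS_four {a b : F} (ha : a ≠ 0) : orderOf (TS m a b) = 4 := by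
  have hchar := charTwo (F := F) m
  have h1 : TS m a b * TS m a b = TS m 0 (sig m a * a) := by
    rw [TS_mul]
    congr 1
    · exact add_self' a
    · rw [add_self', zero_add]
  have h2 : orderOf (TS m a b ^ 2) = 2 := by
    rw [pow_two, h1]
    exact orderOf_TS0 (mul_ne_zero (sig_ne_zero m ha) ha)
  have h3 : (TS m a b) ^ 4 = 1 := by
    have : (TS m a b) ^ 4 = (TS m a b ^ 2) ^ 2 := by rw [← pow_mul]
    rw [this]
    have h5 := pow_orderOf_eq_one (TS m a b ^ 2)
    rwa [h2] at h5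
  have h4 : (TS m a b) ^ 2 ≠ 1 := by
    intro h
    rw [h, orderOf_one] at h2
    omega
  have := orderOf_eq_prime_pow (p := 2) (n := 1) (x := TS m a b) (by simpa using h4) (by simpa using h3)
  simpa using this

/-- the point on the trace curve with nonzero first coordinate -/
theorem exists_curve_point {τ : F} (hτ : τ ≠ 0) :
    ∃ e f : F, e ≠ 0 ∧ sig m e + ff m e f = τ := by
  have hchar := charTwo (F := F) m
  have h2 : (2 : F) = 0 := two_eq_zero'
  obtain ⟨ε, c, hε, hc⟩ := key_field (m := m) hτ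
  refine ⟨ε⁻¹, sig m ε⁻¹ * ε⁻¹ * c, inv_ne_zero hε, ?_⟩
  have hs : sig m ε ≠ 0 := sig_ne_zero m hε
  unfold ff
  rw [sig_mul, sig_mul, sig_sig, sig_inv]
  have h3 : (sig m ε)⁻¹ + (ε⁻¹ * ((sig m ε)⁻¹ * ε⁻¹ * c) + (sig m ε)⁻¹ * ε⁻¹ ^ 2 + ε⁻¹ ^ 2 * (sig m ε)⁻¹ * sig m c)
      = (sig m ε)⁻¹ + (sig m ε)⁻¹ * ε⁻¹ ^ 2 * (sig m c + c + 1) := by ring
  rw [h3, ← hc]
  field_simp
  grind

/-- case: `x` of odd order -/
theorem cover_odd {x g : Cfsg.Sz F m} (hx : OddT x) (hg : g ≠ 1) :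
    ∃ u v : Cfsg.Sz F m, g = (u * x * u⁻¹) * (v * x * v⁻¹) := by
  have hchar := charTwo (F := F) m
  have hτ := hx.trS_ne_zero
  obtain ⟨f₀, hf₀⟩ := sig_surjective m (trS x)
  have hy₀ : IsConj x (TS m 0 f₀ * wS m) := by
    apply hx.isConj_of_trS
    rw [trS_TS_wS]
    simp [ff, hf₀]
  have hy₀' : IsConj x (wS m * TS m 0 f₀) := by
    refine hy₀.trans ?_
    rw [isConj_iff]
    refine ⟨wS m, ?_⟩
    rw [wS_inv, mul_assoc, mul_assoc, wS_mul_wS, mul_one]
  by_cases hgO : OddT g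
  · -- target of odd order
    obtain ⟨D₁, hD₁⟩ := sig_surjective m (trS g)
    obtain ⟨D, hD⟩ := exists_sqrt m D₁
    refine cover_of hy₀ (hy₀.trans (isConj_conj (TS m 0 (D + f₀)) _)) ?_
    apply IsConj.symm
    apply hgO.isConj_of_trS
    have e1 : TS m 0 f₀ * wS m * (TS m 0 (D + f₀) * (TS m 0 f₀ * wS m) * (TS m 0 (D + f₀))⁻¹) =
        TS m 0 f₀ * wS m * (TS m 0 (D + f₀) * TS m 0 f₀) * wS m * (TS m 0 (D + f₀))⁻¹ := by group
    rw [e1, trS_mul_comm, TS0_mul, TS_inv]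
    have e2 : TS m 0 (D + f₀ + sig m 0 * 0) * (TS m 0 f₀ * wS m * TS m 0 (D + f₀ + f₀) * wS m) =
        (TS m 0 (D + f₀ + sig m 0 * 0) * TS m 0 f₀) * wS m * TS m 0 (D + f₀ + f₀) * wS m := by group
    rw [e2, TS0_mul, trS_normal, ← hD₁, ← hD]
    congr 1
    have : D + f₀ + f₀ = D := by rw [add_assoc, add_self', add_zero]
    simp [this]
    ring
  · have hcl : g ∈ cl (Qsub F m) := by
      by_contra h
      exact hgO ⟨hg, h⟩
    obtain ⟨e, f, he, hef⟩ := exists_curve_point (m := m) hτ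
    have hy₁ : IsConj x (TS m e f * wS m) := by
      apply hx.isConj_of_trS
      rw [trS_TS_wS, hef]
    have hy₁' : IsConj x (wS m * TS m e f) := by
      refine hy₁.trans ?_
      rw [isConj_iff]
      refine ⟨wS m, ?_⟩
      rw [wS_inv, mul_assoc, mul_assoc, wS_mul_wS, mul_one]
    rcases orderOf_of_mem_cl_Q hcl with h2 | h4
    · refine cover_of hy₁ hy₁' ?_
      have e1 : TS m e f * wS m * (wS m * TS m e f) = TS m e f * (wS m * wS m) * TS m e f := by group
      rw [e1, wS_mul_wS, mul_one, isConj_iff]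
      apply invol_isConj _ h2
      rw [TS_mul, add_self', add_self', zero_add]
      exact orderOf_TS0 (mul_ne_zero (sig_ne_zero m he) he)
    · have e1 : TS m e f * wS m * (wS m * TS m 0 f₀) = TS m e (f + f₀) := by
        have : TS m e f * wS m * (wS m * TS m 0 f₀) = TS m e f * (wS m * wS m) * TS m 0 f₀ := by group
        rw [this, wS_mul_wS, mul_one, TS_mul_zero]
      obtain ⟨c, hc | hc⟩ := four_isConj (orderOf_TS_four (m := m) (b := f + f₀) he) h4
      · refine cover_of hy₁ hy₀' ?_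
        rw [e1]
        exact isConj_iff.2 ⟨c, hc⟩
      · refine cover_of (hx.real.trans (isConj_inv' hy₀')) (hx.real.trans (isConj_inv' hy₁)) ?_
        rw [← _root_.mul_inv_rev, e1]
        have := isConj_inv' (isConj_iff.2 ⟨c, hc⟩)
        rwa [inv_inv] at this

end Cfsg.Agent.Lib.Helper37.Suz
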