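import Cfsg.Agent.Lib.Helper37.Suzuki.CovC

/-!
# Squares of conjugacy classes in the Suzuki groups: classes of elements of order four
-/

set_option autoImplicit false

namespace Cfsg.Agent.Lib.Helper37.Suz

open Matrix TICount
open scoped LinearAlgebra.Projectivization

variable {F : Type*} [Field F] [Fintype F] {m : ℕ} [SzField F m]

theorem TS_one_isConj (b c : F) : IsConj (TS m 1 b) (TS m 1 (b + sig m c + c)) := by
  rw [isConj_iff]
  refine ⟨TS m c 0, ?_⟩
  rw [TS_conj_TS]
  simp

theorem TS_isConj_scale {k : F} (hk : k ≠ 0) (a b : F) :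
    IsConj (TS m a b) (TS m (k * a) (sig m k * k * b)) := by
  rw [isConj_iff]
  refine ⟨hS m (Units.mk0 k hk), ?_⟩
  rw [hS_conj_TS]
  rfl

theorem TS_isConj_one {a : F} (ha : a ≠ 0) (b : F) :
    IsConj (TS m a b) (TS m 1 (b / (sig m a * a))) := by
  have h := TS_isConj_scale (m := m) (inv_ne_zero ha) a b
  rw [inv_mul_cancel₀ ha, sig_inv] at h
  have e : (sig m a)⁻¹ * a⁻¹ * b = b / (sig m a * a) := by
    have := sig_ne_zero m ha
    field_simp
  rwa [e] at h

/-- case: `x` of order four -/
theorem cover_four {x g : Cfsg.Sz F m} (hx : orderOf x = 4) (hg : g ≠ 1) :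
    ∃ u v : Cfsg.Sz F m, g = (u * x * u⁻¹) * (v * x * v⁻¹) := by
  have hchar := charTwo (F := F) m
  have h2 : (2 : F) = 0 := two_eq_zero'
  obtain ⟨c₁, b, hc₁⟩ := orderOf_four_form hx
  have hxb : IsConj x (TS m 1 b) := isConj_iff.2 ⟨c₁, hc₁⟩
  by_cases hgO : OddT g
  · -- target of odd order
    obtain ⟨ε, c₀, hε, hc₀⟩ := key_field (m := m) hgO.trS_ne_zero
    obtain ⟨U, hU⟩ := exists_sqrt m c₀
    have hc : ε⁻¹ ≠ 0 := inv_ne_zero hε
    have hs : sig m ε ≠ 0 := sig_ne_zero m hε
    set c := ε⁻¹ with hcdef
    have hyz : IsConj (TS m 1 U) (wS m * TS m c (sig m c * c * U) * wS m) := by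
      have h1 := TS_isConj_scale (m := m) hc 1 U
      rw [mul_one] at h1
      refine h1.trans ?_
      have := isConj_conj (wS m) (TS m c (sig m c * c * U))
      rwa [wS_inv] at this
    have htr : trS g = trS (TS m 1 U * (wS m * TS m c (sig m c * c * U) * wS m)) := by
      have e1 : TS m 1 U * (wS m * TS m c (sig m c * c * U) * wS m) =
          TS m 1 U * wS m * TS m c (sig m c * c * U) * wS m := by group
      have e2 := ff_scale m c 1 U
      rw [mul_one] at e2
      rw [e1, trS_TwTw, e2]
      have e3 : ff m 1 U * ff m 1 U = sig m c₀ + c₀ + 1 := by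
        unfold ff
        rw [← hU, sig_pow, sig_one]
        grind
      have e4 : ff m 1 U * (sig m c * c ^ 2 * ff m 1 U) = sig m c * c ^ 2 * (ff m 1 U * ff m 1 U) := by ring
      rw [e4, e3, ← hc₀, hcdef, sig_one, one_mul, sig_inv]
      field_simp
      grind
    have hconj : IsConj (TS m 1 U * (wS m * TS m c (sig m c * c * U) * wS m)) g :=
      (hgO.isConj_of_trS htr).symm
    obtain ⟨d, hd | hd⟩ := four_isConj hx (orderOf_TS_four (m := m) (a := 1) (b := U) one_ne_zero)
    · have hxy : IsConj x (TS m 1 U) := isConj_iff.2 ⟨d, hd⟩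
      exact cover_of hxy (hxy.trans hyz) hconj
    · have hxy : IsConj x (TS m 1 U)⁻¹ := isConj_iff.2 ⟨d, hd⟩
      refine cover_of (hxy.trans (isConj_inv' hyz)) hxy ?_
      rw [← _root_.mul_inv_rev]
      exact (isConj_inv' hconj).trans hgO.real.symm
  · have hcl : g ∈ cl (Qsub F m) := by
      by_contra h
      exact hgO ⟨hg, h⟩
    rcases orderOf_of_mem_cl_Q hcl with h2' | h4
    · refine cover_of hxb hxb ?_
      rw [isConj_iff]
      apply invol_isConj _ h2'
      rw [TS_mul, add_self', add_self', zero_add]
      exact orderOf_TS0 (by simp)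
    · obtain ⟨c₂, bg, hc₂⟩ := orderOf_four_form h4
      have hgb : IsConj g (TS m 1 bg) := isConj_iff.2 ⟨c₂, hc₂⟩
      obtain ⟨t, ht0, ht1⟩ := exists_ne_zero_one (F := F) m
      have hU₁ : sig m t + t ≠ 0 := by
        intro h
        rcases (sig_eq_self_iff m t).1 (CharTwo.add_eq_zero.1 h) with h | h
        · exact ht0 h
        · exact ht1 h
      have hU₂ : sig m t + t + 1 ≠ 0 := sig_add_self_add_one_ne_zero m t
      obtain ⟨k₁, hk₁⟩ := sig_mul_self_surjective m ((sig m t + t) / (sig m t + t + 1))
      simp only at hk₁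
      have hk₁0 : k₁ ≠ 0 := by
        rintro rfl
        rw [sig_zero, zero_mul] at hk₁
        exact div_ne_zero hU₁ hU₂ hk₁.symm
      have hk0 : 1 + k₁ ≠ 0 := by
        intro h
        have h1 : k₁ = 1 := (CharTwo.add_eq_zero.1 h).symm
        rw [h1, sig_one, one_mul, eq_div_iff hU₂, one_mul] at hk₁
        have : (1 : F) = 0 := by linear_combination hk₁
        exact one_ne_zero this
      set k := 1 + k₁ with hk
      have hz : IsConj x (TS m k (sig m k * k * b)) := by
        have := TS_isConj_scale (m := m) hk0 1 b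
        rw [mul_one] at this
        exact hxb.trans this
      have h1k : 1 + k = k₁ := by
        rw [hk, ← add_assoc, add_self', zero_add]
      have hprod : ∀ U : F, IsConj (TS m 1 (b + U) * TS m k (sig m k * k * b))
          (TS m 1 ((b + U + sig m k * k * b + k) / ((sig m t + t) / (sig m t + t + 1)))) := by
        intro U
        rw [TS_mul, h1k, sig_one, one_mul, ← hk₁]
        exact TS_isConj_one hk₁0 _
      obtain ⟨c, hc | hc⟩ := exists_sig_add (m := m)
        ((b + sig m k * k * b + k) / ((sig m t + t) / (sig m t + t + 1)) + bg)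
      · have hy : IsConj x (TS m 1 (b + 0)) := by rw [add_zero]; exact hxb
        refine cover_of hy hz ((hprod 0).trans ?_)
        refine IsConj.trans ?_ hgb.symm
        have e : (b + 0 + sig m k * k * b + k) / ((sig m t + t) / (sig m t + t + 1)) =
            bg + sig m c + c := by
          rw [add_zero]
          linear_combination hc - h2 * bg
        rw [e]
        exact (TS_one_isConj bg c).symm
      · have hy : IsConj x (TS m 1 (b + (sig m t + t))) := by
          rw [← add_assoc]
          exact hxb.trans (TS_one_isConj b t)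
        refine cover_of hy hz ((hprod _).trans ?_)
        refine IsConj.trans ?_ hgb.symm
        have e : (b + (sig m t + t) + sig m k * k * b + k) / ((sig m t + t) / (sig m t + t + 1)) =
            bg + sig m (c + t) + (c + t) := by
          have e1 : (b + (sig m t + t) + sig m k * k * b + k) / ((sig m t + t) / (sig m t + t + 1)) =
              (b + sig m k * k * b + k) / ((sig m t + t) / (sig m t + t + 1)) + (sig m t + t + 1) := by
            field_simp
            ring
          rw [e1, sig_add m c t]
          linear_combination hc + h2 * (1 - bg)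
        rw [e]
        exact (TS_one_isConj bg (c + t)).symm

/-- the covering theorem -/
theorem cover {x g : Cfsg.Sz F m} (hx : 2 < orderOf x) (hg : g ≠ 1) :
    ∃ u v : Cfsg.Sz F m, g = (u * x * u⁻¹) * (v * x * v⁻¹) := by
  by_cases hO : OddT x
  · exact cover_odd hO hg
  · have hx1 : x ≠ 1 := by
      rintro rfl
      rw [orderOf_one] at hx
      omega
    have hcl : x ∈ cl (Qsub F m) := by
      by_contra h
      exact hO ⟨hx1, h⟩
    rcases orderOf_of_mem_cl_Q hcl with h2 | h4
    · omega
    · exact cover_four h4 hg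

end Cfsg.Agent.Lib.Helper37.Suz
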