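import Cfsg.Agent.Lib.Helper37.Suzuki.Real
import Cfsg.Agent.Lib.Helper37.IrredCyclic

/-!
# Odd Sylow subgroups are cyclic; centralisers are nilpotent
-/

set_option autoImplicit false

namespace Cfsg.Agent.Lib.Helper37.Suz

open Matrix
open scoped LinearAlgebra.Projectivization Pointwise

section General

variable {G : Type*} [Group G]

theorem exists_conj_le {p : ℕ} [Fact p.Prime] (H P : Subgroup G) (hP : IsPGroup p P)
    (hH : ¬ p ∣ H.index) : ∃ x : G, ∀ g ∈ P, x⁻¹ * g * x ∈ H := by
  obtain ⟨a, ha⟩ := hP.nonempty_fixed_point_of_prime_not_dvd_card (G ⧸ H) hH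
  induction a using QuotientGroup.induction_on with
  | H x =>
    refine ⟨x, fun g hg => ?_⟩
    have h1 : ((g * x : G) : G ⧸ H) = (x : G ⧸ H) := ha ⟨g, hg⟩
    have := QuotientGroup.eq.1 h1.symm
    rwa [← mul_assoc] at this

/-- conjugation as a homomorphism between subgroups -/
def conjHom (H P : Subgroup G) (x : G) (h : ∀ g ∈ P, x⁻¹ * g * x ∈ H) : P →* H where
  toFun g := ⟨x⁻¹ * g * x, h g g.2⟩
  map_one' := by apply Subtype.ext; simp
  map_mul' a b := by apply Subtype.ext; simp [mul_assoc]

theorem conjHom_injective (H P : Subgroup G) (x : G) (h : ∀ g ∈ P, x⁻¹ * g * x ∈ H) :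
    Function.Injective (conjHom H P x h) := by
  intro a b hab
  have := congrArg Subtype.val hab
  simp only [conjHom, MonoidHom.coe_mk, OneHom.coe_mk] at this
  exact Subtype.ext (mul_left_cancel (mul_right_cancel this))

theorem nilpotent_of_injective {N : Type*} [Group N] [Group.IsNilpotent N] (f : G →* N)
    (hf : Function.Injective f) : Group.IsNilpotent G :=
  Group.nilpotent_of_mulEquiv (MonoidHom.ofInjective hf).symm

end General

variable {F : Type*} [Field F] [Fintype F] (m : ℕ) [SzField F m]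

/-- the natural representation -/
noncomputable def natRep : Cfsg.Sz F m →* Module.End F (Fin 4 → F) where
  toFun g := Matrix.toLin' (g.1.1)
  map_one' := by simp [Module.End.one_eq_id]
  map_mul' a b := by simp [Matrix.toLin'_mul, Module.End.mul_eq_comp]

theorem natRep_injective : Function.Injective (natRep (F := F) m) := by
  intro a b h
  apply Subtype.ext
  apply Subtype.ext
  exact Matrix.toLin'.injective h

theorem two_ne_zero_zmod {p : ℕ} (hp : p.Prime) (hp2 : p ≠ 2) : (2 : ZMod p) ≠ 0 := by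
  intro h
  have h1 : ((2 : ℕ) : ZMod p) = 0 := by exact_mod_cast h
  rw [ZMod.natCast_eq_zero_iff] at h1
  exact hp2 ((Nat.prime_dvd_prime_iff_eq hp Nat.prime_two).1 h1)

theorem ord_hyp {p q : ℕ} (hp : p.Prime) (hp2 : p ≠ 2) (hdiv : p ∣ q ^ 2 + 1) :
    ∀ d, 0 < d → d < 4 → ¬ (q ^ d ≡ 1 [MOD p]) := by
  intro d h0 h4 h
  rw [← ZMod.natCast_eq_natCast_iff] at h
  rw [← ZMod.natCast_eq_zero_iff] at hdiv
  push_cast at h hdiv
  have h2 := two_ne_zero_zmod hp hp2
  set x : ZMod p := (q : ZMod p)
  apply h2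
  interval_cases d
  · linear_combination hdiv - (x + 1) * h
  · linear_combination hdiv - h
  · linear_combination (1 - x ^ 2 + x ^ 4) * hdiv - (x ^ 3 + 1) * h

include m in
theorem not_dvd_card_field {p : ℕ} (hp : p.Prime) (hp2 : p ≠ 2) : ¬ p ∣ Fintype.card F := by
  rw [SzField.card (F := F) (m := m)]
  intro h
  exact hp2 ((Nat.prime_dvd_prime_iff_eq hp Nat.prime_two).1 (hp.dvd_of_dvd_pow h))

/-- groups commuting with an element of prime order dividing `q² + 1` are cyclic -/
theorem isCyclic_of_commute {p : ℕ} [hp : Fact p.Prime] (hp2 : p ≠ 2)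
    (hdiv : p ∣ Fintype.card F ^ 2 + 1) (z : Cfsg.Sz F m) (hz : orderOf z = p)
    (C : Subgroup (Cfsg.Sz F m)) (hC : ∀ c ∈ C, z * c = c * z) : IsCyclic C := by
  have : Finite (Cfsg.Sz F m) := inferInstance
  refine Irred.isCyclic_of_commute (natRep m z) ?_ ?_ (not_dvd_card_field m hp.out hp2) ?_
    ((natRep m).comp C.subtype) ?_ ?_
  · rw [← map_pow, ← hz, pow_orderOf_eq_one, map_one]
  · intro h
    have h1 : z = 1 := natRep_injective m (h.trans (map_one _).symm)
    rw [h1, orderOf_one] at hz
    exact hp.out.one_lt.ne hz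
  · rw [Module.finrank_fin_fun]
    exact ord_hyp hp.out hp2 hdiv
  · rw [MonoidHom.coe_comp]
    exact (natRep_injective m).comp C.subtype_injective
  · intro c
    rw [MonoidHom.comp_apply, ← map_mul, ← map_mul]
    congr 1
    exact hC c c.2

/-- the torus -/
noncomputable def Hsub (F : Type*) [Field F] [Fintype F] (m : ℕ) [SzField F m] :
    Subgroup (Cfsg.Sz F m) := (hSHom (F := F) m).range

instance : IsCyclic (Hsub F m) :=
  isCyclic_of_surjective (hSHom (F := F) m).rangeRestrict (hSHom (F := F) m).rangeRestrict_surjective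

theorem card_Hsub : Nat.card (Hsub F m) = Fintype.card F - 1 := by
  classical
  rw [Hsub, Nat.card_congr (MonoidHom.ofInjective (hSHom_injective (F := F) m)).toEquiv.symm,
    Nat.card_eq_fintype_card, Fintype.card_units]

theorem index_Hsub : (Hsub F m).index = Fintype.card F ^ 2 * (Fintype.card F ^ 2 + 1) := by
  have h1 := Subgroup.card_mul_index (Hsub F m)
  rw [card_Hsub, card_Sz, mul_comm] at h1
  have hpos : 0 < Fintype.card F - 1 := by
    have := Fintype.one_lt_card (α := F)
    omega
  exact Nat.eq_of_mul_eq_mul_right hpos h1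

theorem not_dvd_index_Hsub {p : ℕ} (hp : p.Prime) (hp2 : p ≠ 2)
    (hdiv : ¬ p ∣ Fintype.card F ^ 2 + 1) : ¬ p ∣ (Hsub F m).index := by
  rw [index_Hsub]
  intro h
  rcases (Nat.Prime.dvd_mul hp).1 h with h | h
  · exact not_dvd_card_field m hp hp2 (hp.dvd_of_dvd_pow h)
  · exact hdiv h

/-- odd Sylow subgroups are cyclic -/
theorem sylow_odd_cyclic {p : ℕ} [hp : Fact p.Prime] (hp2 : p ≠ 2) (P : Sylow p (Cfsg.Sz F m)) :
    IsCyclic P := by
  by_cases hdiv : p ∣ Fintype.card F ^ 2 + 1
  · rcases subsingleton_or_nontrivial P with hs | hn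
    · exact isCyclic_of_subsingleton
    · have hPp : IsPGroup p P := P.isPGroup'
      have hc := hPp.center_nontrivial
      have hcp : IsPGroup p (Subgroup.center P) := hPp.to_subgroup _
      have hd : p ∣ Nat.card (Subgroup.center P) := by
        rcases hcp.card_eq_or_dvd with h | h
        · exact absurd h (Finite.one_lt_card).ne'
        · exact h
      obtain ⟨z0, hz0⟩ := exists_prime_orderOf_dvd_card' p hd
      refine isCyclic_of_commute m hp2 hdiv (z0 : P) ?_ P ?_
      · rw [Subgroup.orderOf_coe, Subgroup.orderOf_coe]; exact hz0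
      · intro c hc'
        have := Subgroup.mem_center_iff.1 z0.2 ⟨c, hc'⟩
        exact (congrArg Subtype.val this).symm
  · obtain ⟨x, hx⟩ := exists_conj_le (Hsub F m) P P.isPGroup' (not_dvd_index_Hsub m hp.out hp2 hdiv)
    exact isCyclic_of_injective _ (conjHom_injective (Hsub F m) P x hx)

end Cfsg.Agent.Lib.Helper37.Suz
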