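import Cfsg.Agent.Lib.Helper37.Suzuki.Field
import Cfsg.Prelude.Def_LieExceptional

/-!
# Explicit elements of the Suzuki group (ovoid model)
-/

set_option autoImplicit false

namespace Cfsg.Agent.Lib.Helper37.Suz

open Matrix
open scoped LinearAlgebra.Projectivization

variable {F : Type*} [Field F]

/-- the function defining the ovoid -/
def ff (m : ℕ) (x y : F) : F := x * y + sig m x * x ^ 2 + sig m y

@[simp] theorem ff_zero (m : ℕ) : ff m (0 : F) 0 = 0 := by simp [ff]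

theorem ff_eq (m : ℕ) (x y : F) :
    ff m x y = x * y + x ^ (2 ^ (m + 1) + 2) + y ^ (2 ^ (m + 1)) := by
  unfold ff sig; rw [pow_add x (2 ^ (m + 1)) 2]

/-- affine ovoid vector -/
def vec (m : ℕ) (x y : F) : Fin 4 → F := ![ff m x y, y, x, 1]

/-- the vector `(1,0,0,0)` -/
def e0 : Fin 4 → F := ![1, 0, 0, 0]

theorem vec_ne_zero (m : ℕ) (x y : F) : vec m x y ≠ 0 := by
  intro h
  have := congrFun h 3
  simp [vec] at this

theorem e0_ne_zero : (e0 : Fin 4 → F) ≠ 0 := by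
  intro h
  have := congrFun h 0
  simp [e0] at this

/-- affine ovoid point -/
def pt (m : ℕ) (x y : F) : ℙ F (Fin 4 → F) := Projectivization.mk F (vec m x y) (vec_ne_zero m x y)

/-- the point at infinity -/
def inf : ℙ F (Fin 4 → F) := Projectivization.mk F e0 e0_ne_zero

theorem inf_eq : (inf : ℙ F (Fin 4 → F)) = Cfsg.suzukiPointInfinity F := rfl

theorem pt_zero_eq (m : ℕ) : (pt m 0 0 : ℙ F (Fin 4 → F)) = Cfsg.suzukiPointZero F := by
  unfold pt Cfsg.suzukiPointZero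
  congr 1
  simp [vec]

theorem mem_ovoid_iff (m : ℕ) (p : ℙ F (Fin 4 → F)) :
    p ∈ Cfsg.suzukiOvoid F m ↔ p = inf ∨ ∃ x y, p = pt m x y := by
  constructor
  · rintro ⟨v, hv, rfl, h | ⟨x, y, h⟩⟩
    · left; subst h; rfl
    · right
      refine ⟨x, y, ?_⟩
      subst h
      unfold pt
      congr 1
      simp [vec, ff_eq]
  · rintro (rfl | ⟨x, y, rfl⟩)
    · exact ⟨e0, e0_ne_zero, rfl, Or.inl rfl⟩
    · exact ⟨vec m x y, vec_ne_zero m x y, rfl, Or.inr ⟨x, y, by simp [vec, ff_eq]⟩⟩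

theorem inf_mem (m : ℕ) : (inf : ℙ F (Fin 4 → F)) ∈ Cfsg.suzukiOvoid F m := (mem_ovoid_iff m _).2 (Or.inl rfl)

theorem pt_mem (m : ℕ) (x y : F) : pt m x y ∈ Cfsg.suzukiOvoid F m :=
  (mem_ovoid_iff m _).2 (Or.inr ⟨x, y, rfl⟩)

theorem pt_ne_inf (m : ℕ) (x y : F) : pt m x y ≠ inf := by
  intro h
  unfold pt inf at h
  rw [Projectivization.mk_eq_mk_iff'] at h
  obtain ⟨a, ha⟩ := h
  have := congrFun ha 3
  simp [vec, e0] at this

theorem pt_injective (m : ℕ) {x y x' y' : F} (h : pt m x y = pt m x' y') : x = x' ∧ y = y' := by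
  unfold pt at h
  rw [Projectivization.mk_eq_mk_iff'] at h
  obtain ⟨a, ha⟩ := h
  have h3 := congrFun ha 3
  have h2 := congrFun ha 2
  have h1 := congrFun ha 1
  simp [vec] at h1 h2 h3
  subst h3
  simp at h1 h2
  exact ⟨h2.symm, h1.symm⟩

theorem mk_eq_inf_iff (v : Fin 4 → F) (hv : v ≠ 0) :
    Projectivization.mk F v hv = inf ↔ v 1 = 0 ∧ v 2 = 0 ∧ v 3 = 0 := by
  unfold inf
  rw [Projectivization.mk_eq_mk_iff']
  constructor
  · rintro ⟨a, rfl⟩
    simp [e0]
  · rintro ⟨h1, h2, h3⟩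
    refine ⟨v 0, ?_⟩
    ext i
    fin_cases i <;> simp [e0, h1, h2, h3]

theorem mk_eq_pt_iff (m : ℕ) (v : Fin 4 → F) (hv : v ≠ 0) (x y : F) :
    Projectivization.mk F v hv = pt m x y ↔ v = v 3 • vec m x y := by
  unfold pt
  rw [Projectivization.mk_eq_mk_iff']
  constructor
  · rintro ⟨a, rfl⟩
    simp [vec]
  · intro h
    exact ⟨v 3, h.symm⟩

/-! ### The matrices -/

/-- translation matrix -/
def Tmat (m : ℕ) (a b : F) : Matrix (Fin 4) (Fin 4) F :=
  !![1, a, b + sig m a * a, ff m a b; 0, 1, sig m a, b; 0, 0, 1, a; 0, 0, 0, 1]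

theorem det_Tmat (m : ℕ) (a b : F) : (Tmat m a b).det = 1 := by
  simp [Tmat, Matrix.det_succ_row_zero, Fin.sum_univ_succ, Matrix.submatrix, Fin.succAbove]

/-- translation -/
def T (m : ℕ) (a b : F) : Matrix.SpecialLinearGroup (Fin 4) F := ⟨Tmat m a b, det_Tmat m a b⟩

theorem coe_T (m : ℕ) (a b : F) : (T m a b : Matrix (Fin 4) (Fin 4) F) = Tmat m a b := rfl

/-- the antidiagonal matrix -/
def wmat : Matrix (Fin 4) (Fin 4) F := !![0, 0, 0, 1; 0, 0, 1, 0; 0, 1, 0, 0; 1, 0, 0, 0]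

theorem det_wmat : (wmat : Matrix (Fin 4) (Fin 4) F).det = 1 := by
  simp [wmat, Matrix.det_succ_row_zero, Fin.sum_univ_succ, Matrix.submatrix, Fin.succAbove]
  ring

/-- the inversion -/
def w : Matrix.SpecialLinearGroup (Fin 4) F := ⟨wmat, det_wmat⟩

theorem coe_w : (w : Matrix.SpecialLinearGroup (Fin 4) F).1 = wmat := rfl

/-- torus matrix -/
def hmat (m : ℕ) (k : Fˣ) : Matrix (Fin 4) (Fin 4) F :=
  Matrix.diagonal ![(k : F) ^ (2 ^ m + 1), (k : F) ^ (2 ^ m), ((k⁻¹ : Fˣ) : F) ^ (2 ^ m), ((k⁻¹ : Fˣ) : F) ^ (2 ^ m + 1)]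

theorem det_hmat (m : ℕ) (k : Fˣ) : (hmat m k).det = 1 := by
  rw [hmat, Matrix.det_diagonal, Fin.prod_univ_four]
  simp only [Matrix.cons_val_zero, Matrix.cons_val_one, Matrix.cons_val]
  have : (k : F) * ((k⁻¹ : Fˣ) : F) = 1 := by simp
  calc _ = ((k : F) * ((k⁻¹ : Fˣ) : F)) ^ (2 ^ m + 1) * ((k : F) * ((k⁻¹ : Fˣ) : F)) ^ (2 ^ m) := by
        rw [mul_pow, mul_pow]; ring
    _ = 1 := by rw [this]; simp

/-- torus element -/
def hh (m : ℕ) (k : Fˣ) : Matrix.SpecialLinearGroup (Fin 4) F := ⟨hmat m k, det_hmat m k⟩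

theorem coe_hh (m : ℕ) (k : Fˣ) : (hh m k : Matrix (Fin 4) (Fin 4) F) = hmat m k := rfl

theorem smul_vec_def (g : Matrix.SpecialLinearGroup (Fin 4) F) (v : Fin 4 → F) : g • v = g.1 *ᵥ v := rfl

theorem smul_mk' (g : Matrix.SpecialLinearGroup (Fin 4) F) (v : Fin 4 → F) (hv : v ≠ 0) :
    g • Projectivization.mk F v hv =
      Projectivization.mk F (g.1 *ᵥ v) ((smul_ne_zero_iff_ne g).mpr hv) := rfl

theorem smul_eq_pt_of (m : ℕ) (g : Matrix.SpecialLinearGroup (Fin 4) F) (v : Fin 4 → F) (hv : v ≠ 0) (c x y : F)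
    (h : g.1 *ᵥ v = c • vec m x y) : g • Projectivization.mk F v hv = pt m x y := by
  rw [smul_mk']
  unfold pt
  rw [Projectivization.mk_eq_mk_iff']
  exact ⟨c, h.symm⟩

theorem smul_eq_inf_of (g : Matrix.SpecialLinearGroup (Fin 4) F) (v : Fin 4 → F) (hv : v ≠ 0) (c : F)
    (h : g.1 *ᵥ v = c • e0) : g • Projectivization.mk F v hv = inf := by
  rw [smul_mk']
  unfold inf
  rw [Projectivization.mk_eq_mk_iff']
  exact ⟨c, h.symm⟩

theorem sig_eq_sq (m : ℕ) (k : F) : sig m k = (k ^ (2 ^ m)) ^ 2 := by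
  unfold sig; rw [← pow_mul, pow_succ]

section Rel

variable [Fintype F] (m : ℕ) [SzField F m]

theorem ff_trans (a b x y : F) :
    ff m (x + a) (y + b + sig m a * x) = ff m x y + a * y + (b + sig m a * a) * x + ff m a b := by
  have := charTwo (F := F) m
  have h2 : (2 : F) = 0 := two_eq_zero'
  unfold ff
  simp only [sig_add, sig_mul, sig_sig]
  grind

theorem ff_inv_id (x y : F) :
    x * y * sig m (ff m x y) + sig m y * y ^ 2 + sig m x * (ff m x y) ^ 2
      = sig m (ff m x y) * ff m x y := by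
  have := charTwo (F := F) m
  have h2 : (2 : F) = 0 := two_eq_zero'
  unfold ff
  simp only [sig_add, sig_mul, sig_sig, sig_pow]
  grind

theorem ff_scale (k x y : F) : ff m (k * x) (sig m (k : F) * k * y) = sig m k * k ^ 2 * ff m x y := by
  unfold ff
  simp only [sig_mul, sig_sig]
  ring

theorem ff_eq_zero_iff (x y : F) : ff m x y = 0 ↔ x = 0 ∧ y = 0 := by
  constructor
  · intro h
    by_cases hx : x = 0
    · subst hx
      simp [ff] at h
      exact ⟨rfl, (sig_eq_zero m).1 h⟩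
    · exfalso
      have hsx := sig_ne_zero m hx
      apply sig_add_self_add_one_ne_zero m (y / (sig m x * x))
      rw [sig_div, sig_mul, sig_sig]
      unfold ff at h
      field_simp
      linear_combination h
  · rintro ⟨rfl, rfl⟩
    simp

theorem T_mul (a b c d : F) : T m a b * T m c d = T m (a + c) (b + d + sig m a * c) := by
  have := charTwo (F := F) m
  have h2 : (2 : F) = 0 := two_eq_zero'
  have key := ff_trans m a b c d
  ext i j
  rw [Matrix.SpecialLinearGroup.coe_mul, coe_T, coe_T, coe_T]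
  fin_cases i <;> fin_cases j <;>
    simp [Tmat, Matrix.mul_apply, Fin.sum_univ_four, sig_add]
  · ring
  · grind
  · rw [add_comm a c, add_comm b d, key]
  · ring
  · ring
  · ring

omit [Fintype F] [SzField F m] in
theorem T_zero : T m (0 : F) 0 = 1 := by
  ext i j
  rw [coe_T]
  fin_cases i <;> fin_cases j <;> simp [Tmat]

theorem T_inv (a b : F) : (T m a b)⁻¹ = T m a (b + sig m a * a) := by
  have := charTwo (F := F) m
  rw [inv_eq_iff_mul_eq_one, T_mul, ← T_zero m]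
  congr 1
  · exact add_self' a
  · have h2 : (2 : F) = 0 := two_eq_zero'
    grind

omit [Fintype F] [SzField F m] in
theorem T_injective {a b c d : F} (h : T m a b = T m c d) : a = c ∧ b = d := by
  have h1 := congrArg (fun g : Matrix.SpecialLinearGroup (Fin 4) F => g.1 2 3) h
  have h2 := congrArg (fun g : Matrix.SpecialLinearGroup (Fin 4) F => g.1 1 3) h
  simp [coe_T, Tmat] at h1 h2
  exact ⟨h1, h2⟩

omit [Fintype F] [SzField F m] in
theorem hh_mul (k l : Fˣ) : hh m (k * l) = hh m k * hh m l := by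
  ext i j
  rw [Matrix.SpecialLinearGroup.coe_mul, coe_hh, coe_hh, coe_hh, hmat, hmat, hmat, Matrix.diagonal_mul_diagonal]
  congr 2
  ext i
  fin_cases i <;> simp [mul_pow, mul_comm]

omit [Fintype F] [SzField F m] in
theorem hh_one : hh m (1 : Fˣ) = 1 := by
  ext i j
  rw [coe_hh, hmat, Matrix.SpecialLinearGroup.coe_one, ← Matrix.diagonal_one]
  congr 2
  ext i
  fin_cases i <;> simp

/-- the torus as a homomorphism -/
def hhHom (F : Type*) [Field F] (m : ℕ) : Fˣ →* Matrix.SpecialLinearGroup (Fin 4) F where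
  toFun := hh m
  map_one' := hh_one m
  map_mul' := hh_mul m

omit [Fintype F] [SzField F m] in
theorem hh_inv (k : Fˣ) : (hh m k)⁻¹ = hh m k⁻¹ := ((hhHom F m).map_inv k).symm

omit [Fintype F] [SzField F m] in
theorem hh_injective : Function.Injective (hh m : Fˣ → Matrix.SpecialLinearGroup (Fin 4) F) := by
  intro k l h
  have h0 := congrArg (fun g : Matrix.SpecialLinearGroup (Fin 4) F => g.1 0 0) h
  have h1 := congrArg (fun g : Matrix.SpecialLinearGroup (Fin 4) F => g.1 1 1) h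
  simp [coe_hh, hmat] at h0 h1
  rw [pow_succ, pow_succ, h1] at h0
  have hl : (l : F) ^ 2 ^ m ≠ 0 := pow_ne_zero _ l.ne_zero
  exact Units.ext (mul_left_cancel₀ hl h0)

theorem hh_mul_T (k : Fˣ) (a b : F) :
    hh m k * T m a b = T m (k * a) (sig m (k : F) * k * b) * hh m k := by
  ext i j
  rw [Matrix.SpecialLinearGroup.coe_mul, Matrix.SpecialLinearGroup.coe_mul, coe_hh, coe_T, coe_T, hmat,
    Matrix.diagonal_mul, Matrix.mul_diagonal]
  have hk : (k : F) ≠ 0 := k.ne_zero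
  have hK : (k : F) ^ 2 ^ m ≠ 0 := pow_ne_zero _ hk
  have key := ff_scale m (k : F) a b
  fin_cases i <;> fin_cases j <;>
    simp [Tmat, sig_mul, key] <;> simp only [sig_eq_sq m (k : F), pow_succ] <;> field_simp

theorem hh_conj_T (k : Fˣ) (a b : F) :
    hh m k * T m a b * (hh m k)⁻¹ = T m (k * a) (sig m (k : F) * k * b) := by
  rw [hh_mul_T, mul_assoc, mul_inv_cancel, mul_one]

omit [Fintype F] [SzField F m] in
theorem w_mul_w : (w : Matrix.SpecialLinearGroup (Fin 4) F) * w = 1 := by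
  ext i j
  rw [Matrix.SpecialLinearGroup.coe_mul, coe_w]
  fin_cases i <;> fin_cases j <;> simp [wmat, Matrix.mul_apply, Fin.sum_univ_four]

omit [Fintype F] [SzField F m] in
theorem w_inv : (w : Matrix.SpecialLinearGroup (Fin 4) F)⁻¹ = w := inv_eq_of_mul_eq_one_left w_mul_w

omit [Fintype F] [SzField F m] in
theorem w_mul_hh (k : Fˣ) : w * hh m k = hh m k⁻¹ * w := by
  ext i j
  rw [Matrix.SpecialLinearGroup.coe_mul, Matrix.SpecialLinearGroup.coe_mul, coe_hh, coe_hh, coe_w, hmat, hmat,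
    Matrix.diagonal_mul, Matrix.mul_diagonal]
  fin_cases i <;> fin_cases j <;> simp [wmat]

/-! ### Action on vectors and points -/

theorem T_mulVec_vec (a b x y : F) :
    Tmat m a b *ᵥ vec m x y = vec m (x + a) (y + b + sig m a * x) := by
  have key := ff_trans m a b x y
  ext i
  fin_cases i <;> simp [Tmat, vec, Matrix.mulVec, dotProduct, Fin.sum_univ_four, key] <;> ring

omit [Fintype F] [SzField F m] in
theorem T_mulVec_e0 (a b : F) : Tmat m a b *ᵥ e0 = e0 := by
  ext i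
  fin_cases i <;> simp [Tmat, e0, Matrix.mulVec, dotProduct, Fin.sum_univ_four]

theorem h_mulVec_vec (k : Fˣ) (x y : F) :
    hmat m k *ᵥ vec m x y = (((k⁻¹ : Fˣ) : F) ^ (2 ^ m + 1)) • vec m (k * x) (sig m (k : F) * k * y) := by
  have key := ff_scale m (k : F) x y
  have hk : (k : F) ≠ 0 := k.ne_zero
  have hK : (k : F) ^ 2 ^ m ≠ 0 := pow_ne_zero _ hk
  ext i
  rw [hmat, Matrix.mulVec_diagonal]
  fin_cases i <;> simp [vec, key] <;> simp only [sig_eq_sq m (k : F), pow_succ] <;> field_simp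

omit [Fintype F] [SzField F m] in
theorem h_mulVec_e0 (k : Fˣ) : hmat m k *ᵥ e0 = ((k : F) ^ (2 ^ m + 1)) • e0 := by
  ext i
  rw [hmat, Matrix.mulVec_diagonal]
  fin_cases i <;> simp [e0]

omit [Fintype F] [SzField F m] in
theorem w_mulVec_e0 : (wmat : Matrix (Fin 4) (Fin 4) F) *ᵥ e0 = vec m 0 0 := by
  ext i
  fin_cases i <;> simp [wmat, e0, vec, Matrix.mulVec, dotProduct, Fin.sum_univ_four]

omit [Fintype F] [SzField F m] in
theorem w_mulVec_zero : (wmat : Matrix (Fin 4) (Fin 4) F) *ᵥ vec m 0 0 = e0 := by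
  ext i
  fin_cases i <;> simp [wmat, e0, vec, Matrix.mulVec, dotProduct, Fin.sum_univ_four]

theorem w_mulVec_vec (x y : F) (h : ff m x y ≠ 0) :
    (wmat : Matrix (Fin 4) (Fin 4) F) *ᵥ vec m x y = ff m x y • vec m (y / ff m x y) (x / ff m x y) := by
  have key := ff_inv_id m x y
  have hs : sig m (ff m x y) ≠ 0 := sig_ne_zero m h
  have h0 : ff m x y * ff m (y / ff m x y) (x / ff m x y) = 1 := by
    generalize hf : ff m x y = f at *
    unfold ff
    rw [sig_div, sig_div]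
    field_simp
    linear_combination key
  ext i
  fin_cases i <;> simp [wmat, vec, Matrix.mulVec, dotProduct, Fin.sum_univ_four, h0] <;> field_simp

theorem T_smul_pt (a b x y : F) : T m a b • pt m x y = pt m (x + a) (y + b + sig m a * x) :=
  smul_eq_pt_of m _ _ _ 1 _ _ (by rw [coe_T, T_mulVec_vec, one_smul])

omit [Fintype F] [SzField F m] in
theorem T_smul_inf (a b : F) : T m a b • (inf : ℙ F (Fin 4 → F)) = inf :=
  smul_eq_inf_of _ _ _ 1 (by rw [coe_T, T_mulVec_e0, one_smul])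

theorem hh_smul_pt (k : Fˣ) (x y : F) : hh m k • pt m x y = pt m (k * x) (sig m (k : F) * k * y) :=
  smul_eq_pt_of m _ _ _ _ _ _ (by rw [coe_hh, h_mulVec_vec])

omit [Fintype F] [SzField F m] in
theorem hh_smul_inf (k : Fˣ) : hh m k • (inf : ℙ F (Fin 4 → F)) = inf :=
  smul_eq_inf_of _ _ _ _ (by rw [coe_hh, h_mulVec_e0])

omit [Fintype F] [SzField F m] in
theorem w_smul_inf : (w : Matrix.SpecialLinearGroup (Fin 4) F) • (inf : ℙ F (Fin 4 → F)) = pt m 0 0 :=
  smul_eq_pt_of m _ _ _ 1 _ _ (by rw [coe_w, w_mulVec_e0 m, one_smul])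

omit [Fintype F] [SzField F m] in
theorem w_smul_zero : (w : Matrix.SpecialLinearGroup (Fin 4) F) • pt m (0 : F) 0 = inf :=
  smul_eq_inf_of _ _ _ 1 (by rw [coe_w, w_mulVec_zero m, one_smul])

theorem w_smul_pt (x y : F) (h : ff m x y ≠ 0) :
    (w : Matrix.SpecialLinearGroup (Fin 4) F) • pt m x y = pt m (y / ff m x y) (x / ff m x y) :=
  smul_eq_pt_of m _ _ _ _ _ _ (by rw [coe_w, w_mulVec_vec m x y h])

end Rel

end Cfsg.Agent.Lib.Helper37.Suz
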