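import Mathlib

/-!
# Field-theoretic preliminaries for the Suzuki groups

`F` is a field with `2^(2m+1)` elements, `m ≥ 1`, `sig x = x^(2^(m+1))`.
-/

set_option autoImplicit false

namespace Cfsg.Agent.Lib.Helper37.Suz

/-- Hypotheses on the field. -/
class SzField (F : Type*) [Field F] [Fintype F] (m : ℕ) : Prop where
  hm : 1 ≤ m
  card : Fintype.card F = 2 ^ (2 * m + 1)

variable {F : Type*} [Field F]

/-- The Tits endomorphism `x ↦ x^(2^(m+1))`. -/
def sig (m : ℕ) (x : F) : F := x ^ (2 ^ (m + 1))

theorem sig_def (m : ℕ) (x : F) : sig m x = x ^ (2 ^ (m + 1)) := rfl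

@[simp] theorem sig_zero (m : ℕ) : sig m (0 : F) = 0 := by simp [sig]
@[simp] theorem sig_one (m : ℕ) : sig m (1 : F) = 1 := by simp [sig]
theorem sig_mul (m : ℕ) (x y : F) : sig m (x * y) = sig m x * sig m y := mul_pow _ _ _
theorem sig_pow (m : ℕ) (x : F) (n : ℕ) : sig m (x ^ n) = sig m x ^ n := by
  unfold sig; rw [← pow_mul, ← pow_mul, mul_comm]
theorem sig_inv (m : ℕ) (x : F) : sig m x⁻¹ = (sig m x)⁻¹ := inv_pow _ _
theorem sig_div (m : ℕ) (x y : F) : sig m (x / y) = sig m x / sig m y := div_pow _ _ _
theorem sig_eq_zero (m : ℕ) {x : F} : sig m x = 0 ↔ x = 0 := by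
  unfold sig; exact pow_eq_zero_iff (by positivity)
theorem sig_ne_zero (m : ℕ) {x : F} (hx : x ≠ 0) : sig m x ≠ 0 := fun h => hx ((sig_eq_zero m).1 h)

theorem sig_add [CharP F 2] (m : ℕ) (x y : F) : sig m (x + y) = sig m x + sig m y :=
  haveI : Fact (Nat.Prime 2) := ⟨Nat.prime_two⟩
  add_pow_char_pow x y 2 (m + 1)

theorem two_eq_zero' [CharP F 2] : (2 : F) = 0 := CharTwo.two_eq_zero

theorem add_self' [CharP F 2] (x : F) : x + x = 0 := CharTwo.add_self_eq_zero x

theorem sig_injective [CharP F 2] (m : ℕ) : Function.Injective (sig m : F → F) := by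
  intro x y h
  have : sig m (x + y) = 0 := by rw [sig_add, h, add_self']
  rw [sig_eq_zero] at this
  exact CharTwo.add_eq_zero.1 this

section Finite

variable [Fintype F] (m : ℕ) [hS : SzField F m]

include hS

theorem charTwo : CharP F 2 :=
  haveI : Fact (Nat.Prime 2) := ⟨Nat.prime_two⟩
  charP_of_card_eq_prime_pow hS.card

theorem sig_sig (x : F) : sig m (sig m x) = x ^ 2 := by
  unfold sig
  rw [← pow_mul]
  have h1 : 2 ^ (m + 1) * 2 ^ (m + 1) = Fintype.card F * 2 := by
    rw [hS.card]; ring
  rw [h1, pow_mul, FiniteField.pow_card]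

theorem four_le_s : 4 ≤ 2 ^ (m + 1) := by
  have := hS.hm
  calc 4 = 2 ^ 2 := by norm_num
    _ ≤ 2 ^ (m + 1) := Nat.pow_le_pow_right (by norm_num) (by omega)

theorem s_add_two_lt : 2 ^ (m + 1) + 2 < Fintype.card F := by
  rw [hS.card]
  have h1 := four_le_s (F := F) m
  have : 2 ^ (2 * m + 1) = 2 ^ (m + 1) * 2 ^ m := by rw [← pow_add]; congr 1; omega
  rw [this]
  have h2 : 2 ≤ 2 ^ m := by
    calc 2 = 2 ^ 1 := by norm_num
      _ ≤ 2 ^ m := Nat.pow_le_pow_right (by norm_num) hS.hm
  nlinarith

theorem eight_le_card : 8 ≤ Fintype.card F := by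
  have h1 := four_le_s (F := F) m
  have h2 := s_add_two_lt (F := F) m
  rw [hS.card] at *
  have : 2 ^ (2 * m + 1) = 2 ^ (m + 1) * 2 ^ m := by rw [← pow_add]; congr 1; omega
  have h3 : 2 ≤ 2 ^ m := by
    calc 2 = 2 ^ 1 := by norm_num
      _ ≤ 2 ^ m := Nat.pow_le_pow_right (by norm_num) hS.hm
  nlinarith

/-- `sig x = x` only for `x = 0, 1`. -/
theorem sig_eq_self_iff (x : F) : sig m x = x ↔ x = 0 ∨ x = 1 := by
  constructor
  · intro h
    have h2 : x ^ 2 = x := by rw [← sig_sig m x, h, h]
    have : x * (x - 1) = 0 := by ring_nf; rw [h2]; ring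
    rcases mul_eq_zero.1 this with h | h
    · left; exact h
    · right; exact sub_eq_zero.1 h
  · rintro (rfl | rfl) <;> simp

/-- `z^σ + z + 1 ≠ 0`. -/
theorem sig_add_self_add_one_ne_zero (z : F) : sig m z + z + 1 ≠ 0 := by
  have := charTwo (F := F) m
  intro h
  have h1 : sig m z = z + 1 := by
    have : sig m z + (z + 1) = 0 := by rw [← add_assoc]; exact h
    exact CharTwo.add_eq_zero.1 this
  have h2 : z ^ 2 = z := by
    rw [← sig_sig m z, h1, sig_add, h1, sig_one, add_assoc, add_self', add_zero]
  have h3 : sig m z = z := by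
    have : z * (z - 1) = 0 := by ring_nf; rw [h2]; ring
    rcases mul_eq_zero.1 this with h | h
    · rw [h]; simp
    · rw [sub_eq_zero.1 h]; simp
  rw [h3] at h1
  have : (1 : F) = 0 := by
    have h4 : z + (z + 1) = 0 := by nth_rewrite 1 [h1]; exact add_self' _
    rw [← add_assoc, add_self', zero_add] at h4
    exact h4
  exact one_ne_zero this

/-- there is an element different from `0` and `1` -/
theorem exists_ne_zero_one : ∃ z : F, z ≠ 0 ∧ z ≠ 1 := by
  classical
  by_contra hcon
  push Not at hcon
  have : Fintype.card F ≤ 2 := by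
    calc Fintype.card F = (Finset.univ : Finset F).card := rfl
      _ ≤ ({0, 1} : Finset F).card := by
          apply Finset.card_le_card
          intro z _
          by_cases hz : z = 0
          · simp [hz]
          · simp [hcon z hz]
      _ ≤ 2 := Finset.card_le_two
  have := eight_le_card (F := F) m
  omega

/-- A "sparse polynomial" vanishing identically on `F` has zero coefficients. -/
theorem poly4 (a b c d : F)
    (h : ∀ x : F, a * (sig m x * x ^ 2) + b * sig m x + c * x ^ 2 + d * x = 0) :
    a = 0 ∧ b = 0 ∧ c = 0 ∧ d = 0 := by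
  classical
  set s := 2 ^ (m + 1) with hs
  have hs4 : 4 ≤ s := four_le_s (F := F) m
  have hsq : s + 2 < Fintype.card F := s_add_two_lt (F := F) m
  let p : Polynomial F := Polynomial.C a * Polynomial.X ^ (s + 2) + Polynomial.C b * Polynomial.X ^ s
    + Polynomial.C c * Polynomial.X ^ 2 + Polynomial.C d * Polynomial.X ^ 1
  have hp : p = 0 := by
    apply Polynomial.eq_zero_of_natDegree_lt_card_of_eval_eq_zero p (f := id) Function.injective_id
    · intro x
      have := h x
      simp only [p, Polynomial.eval_add, Polynomial.eval_mul, Polynomial.eval_C, Polynomial.eval_pow,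
        Polynomial.eval_X, id]
      rw [← this, sig_def, ← hs]
      ring
    · refine lt_of_le_of_lt ?_ hsq
      simp only [p]
      refine (Polynomial.natDegree_add_le _ _).trans (max_le ?_ ?_)
      · refine (Polynomial.natDegree_add_le _ _).trans (max_le ?_ ?_)
        · refine (Polynomial.natDegree_add_le _ _).trans (max_le ?_ ?_)
          · exact Polynomial.natDegree_C_mul_X_pow_le _ _
          · exact (Polynomial.natDegree_C_mul_X_pow_le _ _).trans (by omega)
        · exact (Polynomial.natDegree_C_mul_X_pow_le _ _).trans (by omega)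
      · exact (Polynomial.natDegree_C_mul_X_pow_le _ _).trans (by omega)
  have hc : ∀ n, p.coeff n = 0 := fun n => by rw [hp]; simp
  have c1 := hc (s + 2)
  have c2 := hc s
  have c3 := hc 2
  have c4 := hc 1
  simp only [p, Polynomial.coeff_add, Polynomial.coeff_C_mul, Polynomial.coeff_X_pow] at c1 c2 c3 c4
  have e1 : ¬ (s + 2 = s) := by omega
  have e2 : ¬ (s + 2 = 2) := by omega
  have e3 : ¬ (s + 2 = 1) := by omega
  have e4 : ¬ (s = s + 2) := by omega
  have e5 : ¬ (s = 2) := by omega
  have e6 : ¬ (s = 1) := by omega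
  have e7 : ¬ (2 = s + 2) := by omega
  have e8 : ¬ (2 = s) := by omega
  have e9 : ¬ (1 = s + 2) := by omega
  have e10 : ¬ (1 = s) := by omega
  have e0 : ¬ (s = 0) := by omega
  simp [e0, e1, e2, e3] at c1
  simp [e0, e4, e5, e6] at c2
  simp [e0, e7, e8] at c3
  simp [e0, e9, e10] at c4
  exact ⟨c1, c2, c3, c4⟩

/-- `x ↦ x^σ · x` is injective -/
theorem sig_mul_self_pow (x : F) (hx : x ≠ 0) :
    sig m (sig m x * x) / (sig m x * x) = x := by
  rw [sig_mul, sig_sig]
  have h1 := sig_ne_zero m hx
  field_simp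

theorem sig_mul_self_injective : Function.Injective (fun x : F => sig m x * x) := by
  intro x y h
  simp only at h
  by_cases hx : x = 0
  · subst hx
    simp at h
    rcases h with h | h
    · exact ((sig_eq_zero m).1 h).symm
    · exact h.symm
  · have hy : y ≠ 0 := by
      rintro rfl
      simp at h
      rcases h with h | h
      · exact hx ((sig_eq_zero m).1 h)
      · exact hx h
    rw [← sig_mul_self_pow m x hx, ← sig_mul_self_pow m y hy, h]

theorem sig_mul_self_surjective : Function.Surjective (fun x : F => sig m x * x) :=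
  Finite.surjective_of_injective (sig_mul_self_injective m)

theorem sig_surjective : Function.Surjective (sig m : F → F) :=
  haveI := charTwo (F := F) m
  Finite.surjective_of_injective (sig_injective m)

end Finite

end Cfsg.Agent.Lib.Helper37.Suz
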