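import Cfsg.Agent.Lib.Helper37.Suzuki.CN
import Cfsg.Prelude.Def_Transfer

/-!
# Elementary abelian TI-subgroups of the Suzuki group correspond to subfields
-/

set_option autoImplicit false

namespace Cfsg.Agent.Lib.Helper37.Suz

open Matrix
open scoped LinearAlgebra.Projectivization Pointwise

variable {F : Type*} [Field F] [Fintype F] (m : ℕ) [SzField F m]

theorem TS0_mul (b c : F) : TS m 0 b * TS m 0 c = TS m 0 (b + c) := by
  rw [TS_mul]; simp

theorem TS0_ne_one {b : F} (hb : b ≠ 0) : TS m 0 b ≠ 1 := by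
  intro h
  rw [← TS_zero m] at h
  exact hb (TS_injective m h).2

/-- elements fixing `∞` act on the centre of `Q` by scalars -/
theorem fix_inf_conj (x : Cfsg.Sz F m) (hx : x.1 • (inf : ℙ F (Fin 4 → F)) = inf) :
    ∃ κ : F, κ ≠ 0 ∧ ∀ b, x * TS m 0 b * x⁻¹ = TS m 0 (κ * b) := by
  obtain ⟨c, d, k, hk⟩ := inf_stab m x.2 hx
  refine ⟨sig m (k : F) * k, mul_ne_zero (sig_ne_zero m k.ne_zero) k.ne_zero, fun b => ?_⟩
  apply Subtype.ext
  show x.1 * T m 0 b * x.1⁻¹ = T m 0 _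
  rw [hk, conj_QH]
  simp

theorem conj_fix (x : Cfsg.Sz F m) {b b' : F} (hb : b ≠ 0) (h : x * TS m 0 b' * x⁻¹ = TS m 0 b) :
    x.1 • (inf : ℙ F (Fin 4 → F)) = inf := by
  have h1 : x.1 * T m 0 b' * x.1⁻¹ = T m 0 b := congrArg Subtype.val h
  apply T_fix m (a := 0) (b := b) (fun hh => hb hh.2) (smul_mem_of_mem_Sz m x.2 (inf_mem m))
  rw [← h1, ← mul_smul, inv_mul_cancel_right, mul_smul, T_smul_inf]

theorem exists_torus_conj {κ : F} (hκ : κ ≠ 0) :
    ∃ y : Cfsg.Sz F m, ∀ b, y * TS m 0 b * y⁻¹ = TS m 0 (κ * b) := by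
  obtain ⟨k, hk⟩ := sig_mul_self_surjective m κ
  simp only at hk
  have hk0 : k ≠ 0 := by
    rintro rfl
    apply hκ
    rw [← hk]; simp
  refine ⟨hS m (Units.mk0 k hk0), fun b => ?_⟩
  apply Subtype.ext
  show hh m (Units.mk0 k hk0) * T m 0 b * (hh m (Units.mk0 k hk0))⁻¹ = T m 0 _
  rw [hh_conj_T]
  simp [hk]

/-- the subgroup of the centre of `Q` attached to a subfield -/
def ESub (K : Subfield F) : Subgroup (Cfsg.Sz F m) where
  carrier := {g | ∃ b ∈ K, g = TS m 0 b}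
  mul_mem' := by
    rintro _ _ ⟨b, hb, rfl⟩ ⟨c, hc, rfl⟩
    exact ⟨b + c, K.add_mem hb hc, TS0_mul m b c⟩
  one_mem' := ⟨0, K.zero_mem, (TS_zero m).symm⟩
  inv_mem' := by
    rintro _ ⟨b, hb, rfl⟩
    refine ⟨b, hb, ?_⟩
    rw [TS_inv]; simp

theorem card_ESub (K : Subfield F) : Nat.card (ESub m K) = Nat.card K := by
  symm
  apply Nat.card_congr
  refine Equiv.ofBijective (fun b : K => ⟨TS m 0 b, b, b.2, rfl⟩) ⟨?_, ?_⟩
  · intro b c h
    exact Subtype.ext (TS_injective m (congrArg Subtype.val h)).2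
  · rintro ⟨_, b, hb, rfl⟩
    exact ⟨⟨b, hb⟩, rfl⟩

theorem ESub_elementary (K : Subfield F) : Cfsg.IsElementaryAbelian 2 (ESub m K) := by
  have hchar := charTwo (F := F) m
  refine ⟨⟨⟨?_⟩⟩, ?_⟩
  · rintro ⟨_, b, hb, rfl⟩ ⟨_, c, hc, rfl⟩
    apply Subtype.ext
    show TS m 0 b * TS m 0 c = TS m 0 c * TS m 0 b
    rw [TS0_mul, TS0_mul, add_comm]
  · rintro _ ⟨b, hb, rfl⟩
    rw [pow_two, TS0_mul, add_self', TS_zero]

theorem ESub_TI (K : Subfield F) (x : Cfsg.Sz F m)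
    (h : ESub m K ⊓ (ESub m K).map (MulAut.conj x).toMonoidHom ≠ ⊥) :
    x ∈ Subgroup.normalizer (ESub m K : Set (Cfsg.Sz F m)) := by
  obtain ⟨⟨e, he1, he2⟩, hne⟩ := Subgroup.ne_bot_iff_exists_ne_one.1 h
  have hne' : e ≠ 1 := fun h' => hne (Subtype.ext h')
  obtain ⟨b, hb, rfl⟩ := he1
  obtain ⟨_, ⟨b', hb', rfl⟩, h2⟩ := he2
  have h3 : x * TS m 0 b' * x⁻¹ = TS m 0 b := h2
  have hb0 : b ≠ 0 := by
    rintro rfl
    exact hne' (TS_zero m)
  obtain ⟨κ, hκ, hconj⟩ := fix_inf_conj m x (conj_fix m x hb0 h3)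
  rw [hconj] at h3
  have h4 : κ * b' = b := (TS_injective m h3).2
  have hb'0 : b' ≠ 0 := by
    rintro rfl
    apply hb0
    rw [← h4, mul_zero]
  have hκK : κ ∈ K := by
    have : κ = b * b'⁻¹ := by rw [← h4]; field_simp
    rw [this]
    exact K.mul_mem hb (K.inv_mem hb')
  rw [Subgroup.mem_normalizer_iff]
  intro g
  constructor
  · rintro ⟨c, hc, rfl⟩
    exact ⟨κ * c, K.mul_mem hκK hc, hconj c⟩
  · rintro ⟨c, hc, hg⟩
    refine ⟨κ⁻¹ * c, K.mul_mem (K.inv_mem hκK) hc, ?_⟩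
    have h5 := hconj (κ⁻¹ * c)
    rw [mul_inv_cancel_left₀ hκ, ← hg] at h5
    exact (mul_left_cancel (mul_right_cancel h5)).symm

/-- from a TI-subgroup to a subfield -/
theorem exists_subfield_of_TI (n : ℕ) (hn : 1 ≤ n) (E : Subgroup (Cfsg.Sz F m))
    (hE : Cfsg.IsElementaryAbelian 2 E) (hcard : Nat.card E = 2 ^ n)
    (hTI : ∀ x : Cfsg.Sz F m, E ⊓ E.map (MulAut.conj x).toMonoidHom ≠ ⊥ →
      x ∈ Subgroup.normalizer (E : Set (Cfsg.Sz F m))) :
    ∃ K : Subfield F, Nat.card K = 2 ^ n := by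
  have hchar := charTwo (F := F) m
  have hEp : IsPGroup 2 E := IsPGroup.of_card hcard
  obtain ⟨P, hP⟩ := hEp.exists_le_sylow
  obtain ⟨x, hx⟩ := exists_conj_mem_Q m P
  -- the additive group
  have hform : ∀ e ∈ E, ∃ b, e = x * TS m 0 b * x⁻¹ := by
    intro e he
    obtain ⟨a, b, hab⟩ := (hx e).1 (hP he)
    have hsq : (x⁻¹ * e * x) ^ 2 = 1 := by
      have : (x⁻¹ * e * x) ^ 2 = x⁻¹ * e ^ 2 * x := by
        rw [pow_two, pow_two]; group
      rw [this, hE.2 e he]; group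
    rw [hab, pow_two, TS_mul, ← TS_zero m] at hsq
    obtain ⟨-, h2⟩ := TS_injective m hsq
    have ha : a = 0 := by
      have h3 : sig m a * a = 0 := by
        rw [add_self', zero_add] at h2
        exact h2
      apply sig_mul_self_injective m
      simp only [sig_zero, mul_zero]
      exact h3
    subst ha
    exact ⟨b, by rw [← hab]; group⟩
  set A : Set F := {b | x * TS m 0 b * x⁻¹ ∈ E} with hA
  have hAadd : ∀ b ∈ A, ∀ c ∈ A, b + c ∈ A := by
    intro b hb c hc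
    have := E.mul_mem hb hc
    have e1 : x * TS m 0 b * x⁻¹ * (x * TS m 0 c * x⁻¹) = x * TS m 0 (b + c) * x⁻¹ := by
      rw [← TS0_mul]; group
    rwa [e1] at this
  have hA0 : (0 : F) ∈ A := by
    show x * TS m 0 0 * x⁻¹ ∈ E
    rw [TS_zero]; simp [E.one_mem]
  have hAcard : Nat.card A = 2 ^ n := by
    rw [← hcard]
    apply Nat.card_congr
    refine Equiv.ofBijective (fun b : A => (⟨x * TS m 0 (b : F) * x⁻¹, b.2⟩ : E)) ⟨?_, ?_⟩
    · intro b c h
      have h1 : x * TS m 0 (b : F) * x⁻¹ = x * TS m 0 (c : F) * x⁻¹ := congrArg Subtype.val h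
      exact Subtype.ext (TS_injective m (mul_left_cancel (mul_right_cancel h1))).2
    · rintro ⟨e, he⟩
      obtain ⟨b, rfl⟩ := hform e he
      exact ⟨⟨b, he⟩, rfl⟩
  -- the key closure property
  have hkey : ∀ κ : F, κ ≠ 0 → (∃ b ∈ A, b ≠ 0 ∧ κ * b ∈ A) → ∀ c ∈ A, κ * c ∈ A := by
    rintro κ hκ ⟨b, hb, hb0, hκb⟩ c hc
    obtain ⟨y, hy⟩ := exists_torus_conj m hκ
    have hconj : ∀ d, (x * y * x⁻¹) * (x * TS m 0 d * x⁻¹) * (x * y * x⁻¹)⁻¹
        = x * TS m 0 (κ * d) * x⁻¹ := by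
      intro d
      rw [← hy]; group
    have hnorm := hTI (x * y * x⁻¹) (by
      rw [Subgroup.ne_bot_iff_exists_ne_one]
      refine ⟨⟨x * TS m 0 (κ * b) * x⁻¹, hκb, ⟨x * TS m 0 b * x⁻¹, hb, hconj b⟩⟩, ?_⟩
      intro h
      have h1 : x * TS m 0 (κ * b) * x⁻¹ = 1 := congrArg Subtype.val h
      have h2 : TS m 0 (κ * b) = 1 := by
        have : TS m 0 (κ * b) = x⁻¹ * (x * TS m 0 (κ * b) * x⁻¹) * x := by group
        rw [this, h1]; group
      exact TS0_ne_one m (mul_ne_zero hκ hb0) h2)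
    have := (Subgroup.mem_normalizer_iff.1 hnorm _).1 hc
    rwa [hconj] at this
  -- a nonzero element
  obtain ⟨a0, ha0, ha00⟩ : ∃ a0 ∈ A, a0 ≠ 0 := by
    by_contra hcon
    push Not at hcon
    have : A = {0} := by
      ext b
      constructor
      · intro hb; exact hcon b hb
      · rintro rfl; exact hA0
    rw [this] at hAcard
    simp only [Nat.card_eq_fintype_card, Fintype.card_unique] at hAcard
    have : 2 ≤ 2 ^ n := by
      calc 2 = 2 ^ 1 := by norm_num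
        _ ≤ 2 ^ n := Nat.pow_le_pow_right (by norm_num) hn
    omega
  let K : Subfield F :=
    { carrier := {c | c * a0 ∈ A}
      mul_mem' := by
        intro c d hc hd
        by_cases hc0 : c = 0
        · subst hc0
          show 0 * d * a0 ∈ A
          simpa using hA0
        · show c * d * a0 ∈ A
          rw [mul_assoc]
          exact hkey c hc0 ⟨a0, ha0, ha00, hc⟩ _ hd
      one_mem' := by
        show 1 * a0 ∈ A
        rwa [one_mul]
      add_mem' := by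
        intro c d hc hd
        show (c + d) * a0 ∈ A
        rw [add_mul]
        exact hAadd _ hc _ hd
      zero_mem' := by
        show 0 * a0 ∈ A
        rwa [zero_mul]
      neg_mem' := by
        intro c hc
        show -c * a0 ∈ A
        rw [CharTwo.neg_eq]
        exact hc
      inv_mem' := by
        intro c hc
        by_cases hc0 : c = 0
        · subst hc0
          show (0 : F)⁻¹ * a0 ∈ A
          simpa using hA0
        · exact hkey c⁻¹ (inv_ne_zero hc0) ⟨c * a0, hc, mul_ne_zero hc0 ha00,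
            by rw [inv_mul_cancel_left₀ hc0]; exact ha0⟩ _ ha0 }
  refine ⟨K, ?_⟩
  rw [← hAcard]
  apply Nat.card_congr
  refine Equiv.ofBijective (fun c : K => (⟨(c : F) * a0, c.2⟩ : A)) ⟨?_, ?_⟩
  · intro c d h
    have h1 : (c : F) * a0 = (d : F) * a0 := congrArg Subtype.val h
    exact Subtype.ext (mul_right_cancel₀ ha00 h1)
  · rintro ⟨b, hb⟩
    refine ⟨⟨b * a0⁻¹, ?_⟩, ?_⟩
    · show b * a0⁻¹ * a0 ∈ A
      rwa [inv_mul_cancel_right₀ ha00]
    · apply Subtype.ext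
      show b * a0⁻¹ * a0 = b
      rw [inv_mul_cancel_right₀ ha00]

include m in
theorem exists_subfield_iff (n : ℕ) (hn : n ≠ 0) :
    (∃ K : Subfield F, Nat.card K = 2 ^ n) ↔ n ∣ 2 * m + 1 := by
  have hchar := charTwo (F := F) m
  constructor
  · rintro ⟨K, hK⟩
    have h1 := Module.natCard_eq_pow_finrank (K := K) (V := F)
    rw [hK, Nat.card_eq_fintype_card, SzField.card (F := F) (m := m), ← pow_mul] at h1
    exact ⟨_, Nat.pow_right_injective (le_refl 2) h1⟩
  · intro hdiv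
    let _ : Algebra (ZMod 2) F := ZMod.algebra F 2
    have hfr : Module.finrank (ZMod 2) F = 2 * m + 1 := by
      have := FiniteField.pow_finrank_eq_card 2 F
      rw [SzField.card (F := F) (m := m)] at this
      exact Nat.pow_right_injective (le_refl 2) this
    obtain ⟨f⟩ := FiniteField.nonempty_algHom_of_finrank_dvd (F := ZMod 2) (K := GaloisField 2 n)
      (L := F) (by rw [GaloisField.finrank 2 hn, hfr]; exact hdiv)
    refine ⟨f.toRingHom.fieldRange, ?_⟩
    rw [← GaloisField.card 2 n hn]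
    symm
    apply Nat.card_congr
    have e := Equiv.ofInjective f f.toRingHom.injective
    refine e.trans (Equiv.setCongr ?_)
    rw [RingHom.coe_fieldRange]
    rfl

theorem TI_iff (n : ℕ) (hn : 2 ≤ n) :
    (∃ E : Subgroup ↥(Cfsg.Sz F m), Cfsg.IsElementaryAbelian 2 E ∧ Nat.card ↥E = 2 ^ n ∧
      ∀ x : ↥(Cfsg.Sz F m), E ⊓ E.map (MulAut.conj x).toMonoidHom ≠ ⊥ →
        x ∈ Subgroup.normalizer (E : Set ↥(Cfsg.Sz F m))) ↔ n ∣ 2 * m + 1 := by
  rw [← exists_subfield_iff (F := F) m n (by omega)]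
  constructor
  · rintro ⟨E, hE, hcard, hTI⟩
    exact exists_subfield_of_TI m n (by omega) E hE hcard hTI
  · rintro ⟨K, hK⟩
    exact ⟨ESub m K, ESub_elementary m K, by rw [card_ESub, hK], ESub_TI m K⟩

end Cfsg.Agent.Lib.Helper37.Suz
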