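import Cfsg.Agent.Lib.Helper37.Suzuki.OddSub
import Cfsg.Agent.Lib.Helper37.Suzuki.TI

/-!
# Transitive actions of the Suzuki groups with fixity two
-/

set_option autoImplicit false

namespace Cfsg.Agent.Lib.Helper37.Suz

open Matrix TICount
open scoped LinearAlgebra.Projectivization

section General

variable {G Ω : Type*} [Group G] [MulAction G Ω]

theorem index_stab_le (A : Subgroup G) (Y : Set Ω) (hfin : Y.Finite)
    (hinv : ∀ a ∈ A, ∀ ω ∈ Y, a • ω ∈ Y) {α : Ω} (hα : α ∈ Y) :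
    ((MulAction.stabilizer G α).subgroupOf A).index ≤ Y.ncard := by
  have e : MulAction.stabilizer A α = (MulAction.stabilizer G α).subgroupOf A := by
    ext a
    rfl
  rw [← e, MulAction.index_stabilizer]
  apply Set.ncard_le_ncard _ hfin
  rintro _ ⟨a, rfl⟩
  exact hinv a a.2 α hα

theorem le_stab_of_no_index_two [Finite G] (A : Subgroup G) (Y : Set Ω) (hfin : Y.Finite)
    (hY2 : Y.ncard ≤ 2) (hinv : ∀ a ∈ A, ∀ ω ∈ Y, a • ω ∈ Y) {α : Ω} (hα : α ∈ Y)
    (hno : ∀ K : Subgroup A, K.index ≠ 2) : A ≤ MulAction.stabilizer G α := by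
  have h1 := index_stab_le A Y hfin hinv hα
  have h2 := hno ((MulAction.stabilizer G α).subgroupOf A)
  have h3 : ((MulAction.stabilizer G α).subgroupOf A).index ≠ 0 := Subgroup.index_ne_zero_of_finite
  have h4 : ((MulAction.stabilizer G α).subgroupOf A).index = 1 := by omega
  exact Subgroup.subgroupOf_eq_top.1 (Subgroup.index_eq_one.1 h4)

theorem no_index_two_of_odd [Finite G] (A : Subgroup G) (hodd : ¬ 2 ∣ Nat.card A)
    (K : Subgroup A) : K.index ≠ 2 := by
  intro h
  apply hodd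
  rw [← h]
  exact Subgroup.index_dvd_card K

end General

variable {F : Type*} [Field F] [Fintype F] {m : ℕ} [SzField F m]

theorem Binf_no_index_two (K : Subgroup (Binf F m)) : K.index ≠ 2 := by
  intro hK
  have hn : K.Normal := Subgroup.normal_of_index_eq_two hK
  have hH : ∀ k : Fˣ, (⟨hS m k, hh_smul_inf m k⟩ : Binf F m) ∈ K := by
    intro k
    obtain ⟨l, hl⟩ := exists_unit_sq m k
    have := Subgroup.sq_mem_of_index_two hK (⟨hS m l⁻¹, hh_smul_inf m l⁻¹⟩ : Binf F m)
    have e : (⟨hS m l⁻¹, hh_smul_inf m l⁻¹⟩ : Binf F m) ^ 2 = ⟨hS m k, hh_smul_inf m k⟩ := by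
      apply Subtype.ext
      show hS m l⁻¹ ^ 2 = hS m k
      rw [pow_two, ← hS_mul, hl]
    rwa [e] at this
  have hT : ∀ a b : F, (⟨TS m a b, T_smul_inf m a b⟩ : Binf F m) ∈ K := by
    intro a b
    obtain ⟨k, hk⟩ := exists_unit_ne_one (F := F) m
    obtain ⟨c, d, hcd⟩ := exists_comm_eq m 0 0 hk a b
    rw [T_zero, one_mul] at hcd
    have h1 := hH k
    have h2 := hn.conj_mem _ (inv_mem h1) (⟨TS m c d, T_smul_inf m c d⟩ : Binf F m)
    have h3 := mul_mem h1 h2
    have e : (⟨hS m k, hh_smul_inf m k⟩ : Binf F m) * ((⟨TS m c d, T_smul_inf m c d⟩ : Binf F m) *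
        (⟨hS m k, hh_smul_inf m k⟩ : Binf F m)⁻¹ * (⟨TS m c d, T_smul_inf m c d⟩ : Binf F m)⁻¹) =
        ⟨TS m a b, T_smul_inf m a b⟩ := by
      apply Subtype.ext
      apply Subtype.ext
      show hh m k * (T m c d * (hh m k)⁻¹ * (T m c d)⁻¹) = T m a b
      rw [← hcd]; group
    rwa [e] at h3
  have htop : K = ⊤ := by
    rw [eq_top_iff]
    rintro ⟨x, hx⟩ -
    obtain ⟨a, b, k, hk⟩ := inf_stab m x.2 hx
    have e : (⟨x, hx⟩ : Binf F m) = ⟨TS m a b, T_smul_inf m a b⟩ * ⟨hS m k, hh_smul_inf m k⟩ := by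
      apply Subtype.ext
      apply Subtype.ext
      exact hk
    rw [e]
    exact mul_mem (hT a b) (hH k)
  rw [htop, Subgroup.index_top] at hK
  omega

theorem invol_conj {z : Cfsg.Sz F m} (hz : orderOf z = 2) :
    ∃ (x : Cfsg.Sz F m) (b : F), b ≠ 0 ∧ x⁻¹ * z * x = TS m 0 b := by
  have hchar := charTwo (F := F) m
  have : Fact (Nat.Prime 2) := ⟨Nat.prime_two⟩
  have hz1 : z ≠ 1 := by
    intro h
    rw [h, orderOf_one] at hz
    omega
  have hzp : IsPGroup 2 (Subgroup.zpowers z) := by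
    apply IsPGroup.of_card (n := 1)
    rw [Nat.card_zpowers, hz, pow_one]
  obtain ⟨P, hP⟩ := hzp.exists_le_sylow
  obtain ⟨x, hx⟩ := exists_conj_mem_Q m P
  obtain ⟨a, b, hab⟩ := (hx z).1 (hP (Subgroup.mem_zpowers z))
  have hsq : (x⁻¹ * z * x) ^ 2 = 1 := by
    have : (x⁻¹ * z * x) ^ 2 = x⁻¹ * z ^ 2 * x := by
      rw [pow_two, pow_two]; group
    rw [this, ← hz, pow_orderOf_eq_one]; group
  rw [hab, pow_two, TS_mul, ← TS_zero m] at hsq
  obtain ⟨-, h2⟩ := TS_injective m hsq
  have ha : a = 0 := by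
    have h3 : sig m a * a = 0 := by
      rw [add_self', zero_add] at h2
      exact h2
    apply sig_mul_self_injective m
    simp only [sig_zero, mul_zero]
    exact h3
  subst ha
  refine ⟨x, b, ?_, hab⟩
  rintro rfl
  apply hz1
  rw [TS_zero] at hab
  have : z = x * 1 * x⁻¹ := by rw [← hab]; group
  rw [this]; group

section Action

variable {Ω : Type*} [Finite Ω] [MulAction (Cfsg.Sz F m) Ω]

theorem Binf_le_stab (hfix : ∀ g : Cfsg.Sz F m, g ≠ 1 → (MulAction.fixedBy Ω g).ncard ≤ 2)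
    {α : Ω} {b : F} (hb : b ≠ 0) (ht : TS m 0 b • α = α) :
    Binf F m ≤ MulAction.stabilizer (Cfsg.Sz F m) α := by
  have hchar := charTwo (F := F) m
  have ht1 : TS m 0 b ≠ 1 := TS0_ne_one m hb
  -- squares of elements of `Q` fix `α`
  have h1 := index_stab_le (Qsub F m) (MulAction.fixedBy Ω (TS m 0 b)) (Set.toFinite _)
    (by
      rintro _ ⟨c, d, rfl⟩ ω hω
      rw [MulAction.mem_fixedBy] at hω ⊢
      rw [← mul_smul, ← TS_comm_zero, mul_smul, hω]) (α := α) ht
  have h2 := h1.trans (hfix _ ht1)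
  have hsq : ∀ u : Qsub F m, ((u : Cfsg.Sz F m) ^ 2) • α = α := by
    intro u
    have h3 : ((MulAction.stabilizer (Cfsg.Sz F m) α).subgroupOf (Qsub F m)).index ≠ 0 :=
      Subgroup.index_ne_zero_of_finite
    have h4 : ((MulAction.stabilizer (Cfsg.Sz F m) α).subgroupOf (Qsub F m)).index = 1 ∨
        ((MulAction.stabilizer (Cfsg.Sz F m) α).subgroupOf (Qsub F m)).index = 2 := by omega
    rcases h4 with h4 | h4
    · have h5 := Subgroup.subgroupOf_eq_top.1 (Subgroup.index_eq_one.1 h4)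
      exact h5 (pow_mem u.2 2)
    · exact Subgroup.sq_mem_of_index_two h4 u
  have hZ : ∀ c : F, TS m 0 c • α = α := by
    intro c
    obtain ⟨a, ha⟩ := sig_mul_self_surjective (F := F) m c
    have := hsq ⟨TS m a 0, TS_mem m a 0⟩
    simp only at ha
    rw [pow_two, TS_mul, add_self', add_zero, zero_add, ha] at this
    exact this
  apply le_stab_of_no_index_two (Binf F m) {ω : Ω | ∀ c : F, TS m 0 c • ω = ω} (Set.toFinite _)
    _ _ hZ Binf_no_index_two
  · refine (Set.ncard_le_ncard ?_ (Set.toFinite _)).trans (hfix _ ht1)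
    intro ω hω
    exact hω b
  · intro x hx ω hω c
    obtain ⟨κ, -, hκ⟩ := fix_inf_conj m x⁻¹ (inv_mem hx)
    have e : TS m 0 c * x = x * (x⁻¹ * TS m 0 c * x⁻¹⁻¹) := by group
    rw [← mul_smul, e, hκ, mul_smul, hω]

theorem isCoatom_Binf : IsCoatom (Binf F m) := by
  have := (borel_Q (F := F) m).1
  rwa [normalizer_Q] at this

theorem index_Binf : (Binf F m).index = Fintype.card F ^ 2 + 1 := by
  have h1 := Subgroup.card_mul_index (Binf F m)
  rw [card_inf_stab, card_Sz] at h1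
  have h8 := eight_le_card (F := F) m
  have hpos : 0 < Fintype.card F ^ 2 * (Fintype.card F - 1) := by
    have : 0 < Fintype.card F - 1 := by omega
    positivity
  apply Nat.eq_of_mul_eq_mul_left hpos
  rw [h1]; ring

theorem two_transitive_of_stab [MulAction.IsPretransitive (Cfsg.Sz F m) Ω] {α : Ω}
    (hα : MulAction.stabilizer (Cfsg.Sz F m) α = Binf F m) :
    MulAction.IsMultiplyPretransitive (Cfsg.Sz F m) Ω 2 := by
  have hB : ∀ x ∈ Binf F m, x • α = α := by
    intro x hx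
    rw [← hα] at hx
    exact hx
  have key : ∀ ω : Ω, ω ≠ α → ∃ a b : F, ω = TS m a b • ((wS m : Cfsg.Sz F m) • α) := by
    intro ω hω
    obtain ⟨g, rfl⟩ := MulAction.exists_smul_eq (Cfsg.Sz F m) α ω
    rcases normal_form_S g with ⟨a, b, l, rfl⟩ | ⟨a, b, c, d, l, rfl⟩
    · exfalso
      apply hω
      apply hB
      exact mul_mem (T_smul_inf m a b) (hh_smul_inf m l)
    · refine ⟨a, b, ?_⟩
      rw [mul_smul, hB _ (mul_mem (T_smul_inf m c d) (hh_smul_inf m l)), mul_smul]
  rw [MulAction.is_two_pretransitive_iff]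
  intro a b c d hab hcd
  obtain ⟨g₁, hg₁⟩ := MulAction.exists_smul_eq (Cfsg.Sz F m) a α
  obtain ⟨g₂, hg₂⟩ := MulAction.exists_smul_eq (Cfsg.Sz F m) c α
  have h1 : g₁ • b ≠ α := by
    rw [← hg₁]
    exact fun h => hab (smul_left_cancel g₁ h).symm
  have h2 : g₂ • d ≠ α := by
    rw [← hg₂]
    exact fun h => hcd (smul_left_cancel g₂ h).symm
  obtain ⟨a₁, b₁, e₁⟩ := key _ h1
  obtain ⟨a₂, b₂, e₂⟩ := key _ h2
  have hB1 : (TS m a₁ b₁)⁻¹ • α = α := hB _ (inv_mem (T_smul_inf m a₁ b₁))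
  have hB2 : TS m a₂ b₂ • α = α := hB _ (T_smul_inf m a₂ b₂)
  refine ⟨g₂⁻¹ * (TS m a₂ b₂ * (TS m a₁ b₁)⁻¹) * g₁, ?_, ?_⟩
  · rw [mul_smul, mul_smul, mul_smul, hg₁, hB1, hB2, inv_smul_eq_iff, hg₂]
  · rw [mul_smul, mul_smul, mul_smul, e₁, inv_smul_smul, ← e₂, inv_smul_smul]

theorem fixity_two [MulAction.IsPretransitive (Cfsg.Sz F m) Ω]
    (hfix : ∀ g : Cfsg.Sz F m, g ≠ 1 → (MulAction.fixedBy Ω g).ncard ≤ 2)
    (hex : ∃ g : Cfsg.Sz F m, g ≠ 1 ∧ (MulAction.fixedBy Ω g).ncard = 2) :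
    (Nat.card Ω = Fintype.card F ^ 2 + 1 ∧ MulAction.IsMultiplyPretransitive (Cfsg.Sz F m) Ω 2) ∨
    (Nat.card Ω = Fintype.card F ^ 2 * (Fintype.card F ^ 2 + 1) ∧
      ∀ α : Ω, Nat.card (MulAction.stabilizer (Cfsg.Sz F m) α) = Fintype.card F - 1) := by
  obtain ⟨g₀, hg₀, hg₀2⟩ := hex
  have hΩ2 : 2 ≤ Nat.card Ω := by
    rw [← hg₀2, ← Set.ncard_univ]
    exact Set.ncard_le_ncard (Set.subset_univ _) (Set.toFinite _)
  obtain ⟨ω₀, hω₀⟩ : (MulAction.fixedBy Ω g₀).Nonempty := by
    rw [← Set.ncard_pos (Set.toFinite _)]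
    omega
  by_cases heven : ∃ α : Ω, 2 ∣ Nat.card (MulAction.stabilizer (Cfsg.Sz F m) α)
  · left
    obtain ⟨α, hα⟩ := heven
    have : Fact (Nat.Prime 2) := ⟨Nat.prime_two⟩
    obtain ⟨t, ht⟩ := exists_prime_orderOf_dvd_card' 2 hα
    have ht' : orderOf (t : Cfsg.Sz F m) = 2 := by rw [Subgroup.orderOf_coe, ht]
    obtain ⟨x, b, hb, hxb⟩ := invol_conj ht'
    have hfixα : TS m 0 b • (x⁻¹ • α) = x⁻¹ • α := by
      rw [← hxb, mul_smul, mul_smul, smul_inv_smul]
      congr 1
      exact t.2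
    have hle := Binf_le_stab hfix hb hfixα
    have hne : MulAction.stabilizer (Cfsg.Sz F m) (x⁻¹ • α) ≠ ⊤ := by
      intro htop
      have h1 := MulAction.index_stabilizer_of_transitive (Cfsg.Sz F m) (x⁻¹ • α)
      rw [htop, Subgroup.index_top] at h1
      omega
    have heq : MulAction.stabilizer (Cfsg.Sz F m) (x⁻¹ • α) = Binf F m := by
      by_contra hcon
      exact hne (isCoatom_Binf.2 _ (lt_of_le_of_ne hle (Ne.symm hcon)))
    refine ⟨?_, two_transitive_of_stab heq⟩
    rw [← MulAction.index_stabilizer_of_transitive (Cfsg.Sz F m) (x⁻¹ • α), heq, index_Binf]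
  · right
    push Not at heven
    have key : ∀ α : Ω, Nat.card (MulAction.stabilizer (Cfsg.Sz F m) α) = Fintype.card F - 1 := by
      intro α
      obtain ⟨x, hx⟩ := MulAction.exists_smul_eq (Cfsg.Sz F m) ω₀ α
      set g := x * g₀ * x⁻¹ with hg
      have hgα : g ∈ MulAction.stabilizer (Cfsg.Sz F m) α := by
        rw [MulAction.mem_stabilizer_iff, hg, ← hx, mul_smul, mul_smul, inv_smul_smul]
        congr 1
      have hg1 : g ≠ 1 := by
        intro h
        apply hg₀
        have : g₀ = x⁻¹ * g * x := by rw [hg]; group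
        rw [this, h]; group
      have hoddM : Odd (Nat.card (MulAction.stabilizer (Cfsg.Sz F m) α)) :=
        Nat.odd_iff.2 (Nat.two_dvd_ne_zero.1 (heven α))
      have hle1 := odd_subgroup_le_Tor _ hoddM hgα hg1
      have hO : OddT g := by
        apply OddT.of_odd hg1
        have : orderOf g ∣ Nat.card (MulAction.stabilizer (Cfsg.Sz F m) α) := by
          have := orderOf_dvd_natCard (⟨g, hgα⟩ : MulAction.stabilizer (Cfsg.Sz F m) α)
          rwa [← Subgroup.orderOf_coe] at this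
        exact Odd.of_dvd_nat hoddM this
      have hle2 : Tor m g ≤ MulAction.stabilizer (Cfsg.Sz F m) α := by
        apply le_stab_of_no_index_two (Tor m g) (MulAction.fixedBy Ω g) (Set.toFinite _)
          (hfix g hg1) _ hgα (no_index_two_of_odd _ hO.odd_card)
        intro a ha ω hω
        rw [MulAction.mem_fixedBy] at hω ⊢
        rw [← mul_smul, ← mem_Tor.1 ha, mul_smul, hω]
      have heq : MulAction.stabilizer (Cfsg.Sz F m) α = Tor m g := le_antisymm hle1 hle2
      rcases hO.cases with h | h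
      · obtain ⟨y, hy⟩ := Tor_of_mem_cl_H h
        rw [heq, hy, card_map_conj, card_Hsub]
      · exfalso
        have hN := card_normalizer_Tor_eq h
        have hidx := index_stab_le (Subgroup.normalizer (Tor m g : Set (Cfsg.Sz F m)))
          {ω : Ω | ∀ u ∈ Tor m g, u • ω = ω} (Set.toFinite _)
          (by
            intro n hn ω hω u hu
            have h1 : n⁻¹ * u * n ∈ Tor m g := by
              have := (Subgroup.mem_normalizer_iff.1 (inv_mem hn) u).1 hu
              rwa [inv_inv] at this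
            have e : u * n = n * (n⁻¹ * u * n) := by group
            rw [← mul_smul, e, mul_smul, hω _ h1]) (α := α)
          (by
            intro u hu
            exact hle2 hu)
        have hY : ({ω : Ω | ∀ u ∈ Tor m g, u • ω = ω}).ncard ≤ 2 := by
          refine (Set.ncard_le_ncard ?_ (Set.toFinite _)).trans (hfix g hg1)
          intro ω hω
          exact hω g (self_mem_Tor g)
        have h1 := Subgroup.card_mul_index ((MulAction.stabilizer (Cfsg.Sz F m) α).subgroupOf
          (Subgroup.normalizer (Tor m g : Set (Cfsg.Sz F m))))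
        have hleN : MulAction.stabilizer (Cfsg.Sz F m) α ≤
            Subgroup.normalizer (Tor m g : Set (Cfsg.Sz F m)) := by
          rw [heq]; exact Subgroup.le_normalizer
        rw [Nat.card_congr (Subgroup.subgroupOfEquivOfLe hleN).toEquiv, hN, heq] at h1
        have hpos : 0 < Nat.card (Tor m g) := Nat.card_pos
        have h2 : ((Tor m g).subgroupOf (Subgroup.normalizer (Tor m g : Set (Cfsg.Sz F m)))).index = 4 := by
          apply Nat.eq_of_mul_eq_mul_left hpos
          rw [h1]; ring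
        rw [heq] at hidx
        omega
    refine ⟨?_, key⟩
    have h1 := Subgroup.card_mul_index (MulAction.stabilizer (Cfsg.Sz F m) ω₀)
    rw [MulAction.index_stabilizer_of_transitive, key, card_Sz] at h1
    have h8 := eight_le_card (F := F) m
    have hpos : 0 < Fintype.card F - 1 := by omega
    apply Nat.eq_of_mul_eq_mul_left hpos
    rw [h1]; ring

end Action

end Cfsg.Agent.Lib.Helper37.Suz
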