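import Cfsg.Agent.Lib.Helper37.Suzuki.Structure

/-!
# The two-point stabiliser as a group; the invariant symplectic form
-/

set_option autoImplicit false

namespace Cfsg.Agent.Lib.Helper37.Suz

open Matrix
open scoped LinearAlgebra.Projectivization Pointwise

variable {F : Type*} [Field F] [Fintype F] (m : ℕ) [SzField F m]

/-- the torus as a homomorphism into the Suzuki group -/
def hSHom : Fˣ →* Cfsg.Sz F m where
  toFun := hS m
  map_one' := Subtype.ext (hh_one m)
  map_mul' k l := Subtype.ext (hh_mul m k l)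

theorem hSHom_injective : Function.Injective (hSHom (F := F) m) := by
  intro k l h
  exact hh_injective m (congrArg Subtype.val h)

theorem hSHom_range : (hSHom (F := F) m).range =
    MulAction.stabilizer (Cfsg.Sz F m) (Cfsg.suzukiPointInfinity F) ⊓
        MulAction.stabilizer (Cfsg.Sz F m) (Cfsg.suzukiPointZero F) := by
  ext g
  rw [Subgroup.mem_inf, MulAction.mem_stabilizer_iff, MulAction.mem_stabilizer_iff, ← inf_eq, ← pt_zero_eq m,
    Sz_smul_def, Sz_smul_def]
  constructor
  · rintro ⟨k, rfl⟩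
    constructor
    · exact hh_smul_inf m k
    · show hh m k • pt m (0 : F) 0 = pt m 0 0
      rw [hh_smul_pt]; simp
  · rintro ⟨h1, h2⟩
    obtain ⟨k, hk⟩ := two_point_stab m g.2 h1 h2
    exact ⟨k, Subtype.ext hk.symm⟩

theorem two_point_stab_equiv :
    Nonempty (↥(MulAction.stabilizer (Cfsg.Sz F m) (Cfsg.suzukiPointInfinity F) ⊓
        MulAction.stabilizer (Cfsg.Sz F m) (Cfsg.suzukiPointZero F)) ≃* Fˣ) := by
  rw [← hSHom_range]
  exact ⟨(MonoidHom.ofInjective (hSHom_injective m)).symm⟩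

/-- the property of preserving the form -/
def PresJ (M : Matrix (Fin 4) (Fin 4) F) : Prop := Mᵀ * Cfsg.suzukiForm F * M = Cfsg.suzukiForm F

omit [Fintype F] in
theorem PresJ.mul {M N : Matrix (Fin 4) (Fin 4) F} (hM : PresJ M) (hN : PresJ N) : PresJ (M * N) := by
  unfold PresJ at *
  rw [Matrix.transpose_mul]
  calc Nᵀ * Mᵀ * Cfsg.suzukiForm F * (M * N) = Nᵀ * (Mᵀ * Cfsg.suzukiForm F * M) * N := by
        simp only [Matrix.mul_assoc]
    _ = _ := by rw [hM, hN]

theorem presJ_T (a b : F) : PresJ (Tmat m a b) := by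
  have := charTwo (F := F) m
  have h2 : (2 : F) = 0 := two_eq_zero'
  unfold PresJ
  ext i j
  fin_cases i <;> fin_cases j <;>
    simp [Tmat, Cfsg.suzukiForm, Matrix.mul_apply, Fin.sum_univ_four] <;> grind

omit [Fintype F] [SzField F m] in
theorem presJ_h (k : Fˣ) : PresJ (hmat m k) := by
  unfold PresJ
  have hk : (k : F) ≠ 0 := k.ne_zero
  have hK : (k : F) ^ 2 ^ m ≠ 0 := pow_ne_zero _ hk
  rw [hmat, Matrix.diagonal_transpose]
  ext i j
  rw [Matrix.mul_diagonal, Matrix.diagonal_mul]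
  fin_cases i <;> fin_cases j <;> simp [Cfsg.suzukiForm]

omit [Fintype F] in
theorem presJ_w : PresJ (wmat : Matrix (Fin 4) (Fin 4) F) := by
  unfold PresJ
  ext i j
  fin_cases i <;> fin_cases j <;>
    simp [wmat, Cfsg.suzukiForm, Matrix.mul_apply, Fin.sum_univ_four]

theorem presJ_of_mem {g : Matrix.SpecialLinearGroup (Fin 4) F} (hg : g ∈ Cfsg.Sz F m) :
    PresJ (g : Matrix (Fin 4) (Fin 4) F) := by
  rcases normal_form m hg with ⟨a, b, k, rfl⟩ | ⟨a, b, c, d, k, rfl⟩
  · rw [Matrix.SpecialLinearGroup.coe_mul]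
    exact (presJ_T m a b).mul (presJ_h m k)
  · simp only [Matrix.SpecialLinearGroup.coe_mul]
    exact ((presJ_T m a b).mul presJ_w).mul ((presJ_T m c d).mul (presJ_h m k))

end Cfsg.Agent.Lib.Helper37.Suz
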