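import Cfsg.Agent.Lib.Helper37.Suzuki.Form
import Cfsg.Prelude.Def_Sz

/-!
# The matrix model `Cfsg.Lie.Sz` of the Suzuki group coincides with the ovoid model `Cfsg.Sz`
-/

set_option autoImplicit false

namespace Cfsg.Agent.Lib.Helper37.Suz

open Matrix
open scoped LinearAlgebra.Projectivization Pointwise

section General

variable {F : Type*} [Field F]

theorem J_mul_J : Cfsg.suzukiForm F * Cfsg.suzukiForm F = 1 := by
  ext i j
  fin_cases i <;> fin_cases j <;>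
    simp [Cfsg.suzukiForm, Matrix.mul_apply, Fin.sum_univ_four]

/-- `g J gᵀ = J` -/
theorem PresJ.transpose {M : Matrix (Fin 4) (Fin 4) F} (hM : PresJ M) :
    M * Cfsg.suzukiForm F * Mᵀ = Cfsg.suzukiForm F := by
  unfold PresJ at hM
  have h1 : (Cfsg.suzukiForm F * Mᵀ * Cfsg.suzukiForm F) * M = 1 := by
    calc (Cfsg.suzukiForm F * Mᵀ * Cfsg.suzukiForm F) * M
        = Cfsg.suzukiForm F * (Mᵀ * Cfsg.suzukiForm F * M) := by simp only [Matrix.mul_assoc]
      _ = 1 := by rw [hM, J_mul_J]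
  have h2 : M * (Cfsg.suzukiForm F * Mᵀ * Cfsg.suzukiForm F) = 1 := _root_.mul_eq_one_comm.1 h1
  calc M * Cfsg.suzukiForm F * Mᵀ
      = M * (Cfsg.suzukiForm F * Mᵀ * Cfsg.suzukiForm F) * Cfsg.suzukiForm F := by
        simp only [Matrix.mul_assoc, J_mul_J, Matrix.mul_one]
    _ = _ := by rw [h2, Matrix.one_mul]

theorem PresJ.col {M : Matrix (Fin 4) (Fin 4) F} (hM : PresJ M) (i j : Fin 4) :
    M 0 i * M 3 j + M 1 i * M 2 j + M 2 i * M 1 j + M 3 i * M 0 j = Cfsg.suzukiForm F i j := by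
  unfold PresJ at hM
  rw [← hM]
  simp [Matrix.mul_apply, Fin.sum_univ_four, Cfsg.suzukiForm]
  ring

theorem PresJ.row {M : Matrix (Fin 4) (Fin 4) F} (hM : PresJ M) (i j : Fin 4) :
    M i 0 * M j 3 + M i 1 * M j 2 + M i 2 * M j 1 + M i 3 * M j 0 = Cfsg.suzukiForm F i j := by
  rw [← hM.transpose]
  simp [Matrix.mul_apply, Fin.sum_univ_four, Cfsg.suzukiForm]
  ring

theorem pairOf_zero : Cfsg.Lie.pairOf 0 = (0, 1) := rfl
theorem pairOf_one : Cfsg.Lie.pairOf 1 = (0, 2) := rfl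
theorem pairOf_two : Cfsg.Lie.pairOf 2 = (1, 3) := rfl
theorem pairOf_three : Cfsg.Lie.pairOf 3 = (2, 3) := rfl

theorem star4_apply (g : Matrix (Fin 4) (Fin 4) F) (p r : Fin 4) :
    Cfsg.Lie.star4 g p r = g (Cfsg.Lie.pairOf p).1 (Cfsg.Lie.pairOf r).1 * g (Cfsg.Lie.pairOf p).2 (Cfsg.Lie.pairOf r).2
      - g (Cfsg.Lie.pairOf p).2 (Cfsg.Lie.pairOf r).1 * g (Cfsg.Lie.pairOf p).1 (Cfsg.Lie.pairOf r).2 := rfl

theorem J_pair (p : Fin 4) :
    Cfsg.suzukiForm F (Cfsg.Lie.pairOf p).1 (Cfsg.Lie.pairOf p).2 = 0 := by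
  fin_cases p <;> simp [Cfsg.suzukiForm, Cfsg.Lie.pairOf]

/-- Cauchy–Binet for `2 × 2` minors, modulo the two omitted pairs -/
theorem cauchy_binet (h2 : (2 : F) = 0) (a b c d : Fin 4 → F)
    (hab : a 0 * b 3 + a 1 * b 2 + a 2 * b 1 + a 3 * b 0 = 0)
    (hcd : c 0 * d 3 + c 1 * d 2 + c 2 * d 1 + c 3 * d 0 = 0) :
    (a 0 * c 0 + a 1 * c 1 + a 2 * c 2 + a 3 * c 3) * (b 0 * d 0 + b 1 * d 1 + b 2 * d 2 + b 3 * d 3)
      - (b 0 * c 0 + b 1 * c 1 + b 2 * c 2 + b 3 * c 3) * (a 0 * d 0 + a 1 * d 1 + a 2 * d 2 + a 3 * d 3)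
    = (a 0 * b 1 - b 0 * a 1) * (c 0 * d 1 - c 1 * d 0) + (a 0 * b 2 - b 0 * a 2) * (c 0 * d 2 - c 2 * d 0)
      + (a 1 * b 3 - b 1 * a 3) * (c 1 * d 3 - c 3 * d 1) + (a 2 * b 3 - b 2 * a 3) * (c 2 * d 3 - c 3 * d 2) := by
  linear_combination (a 0 * b 3 - b 0 * a 3) * hcd + (c 1 * d 2 - c 2 * d 1) * hab
    - ((a 0 * b 3 - b 0 * a 3) * (c 3 * d 0 + c 2 * d 1 + (c 1 * d 2 - c 2 * d 1))
        + (a 3 * b 0 + a 2 * b 1) * (c 1 * d 2 - c 2 * d 1)) * h2

theorem star4_mul (h2 : (2 : F) = 0) {g h : Matrix (Fin 4) (Fin 4) F} (hg : PresJ g) (hh : PresJ h) :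
    Cfsg.Lie.star4 (g * h) = Cfsg.Lie.star4 g * Cfsg.Lie.star4 h := by
  ext p r
  have hab := hg.row (Cfsg.Lie.pairOf p).1 (Cfsg.Lie.pairOf p).2
  have hcd := hh.col (Cfsg.Lie.pairOf r).1 (Cfsg.Lie.pairOf r).2
  rw [J_pair] at hab hcd
  have key := cauchy_binet h2 (fun s => g (Cfsg.Lie.pairOf p).1 s) (fun s => g (Cfsg.Lie.pairOf p).2 s)
    (fun s => h s (Cfsg.Lie.pairOf r).1) (fun s => h s (Cfsg.Lie.pairOf r).2) hab hcd
  simp only [star4_apply, Matrix.mul_apply, Fin.sum_univ_four]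
  rw [key]
  simp only [pairOf_zero, pairOf_one, pairOf_two, pairOf_three]

theorem star4_one : Cfsg.Lie.star4 (1 : Matrix (Fin 4) (Fin 4) F) = 1 := by
  ext p r
  fin_cases p <;> fin_cases r <;>
    simp [star4_apply, pairOf_zero, pairOf_one, pairOf_two, pairOf_three, Matrix.one_apply]

end General

variable {F : Type*} [Field F] [Fintype F] (m : ℕ) [SzField F m]

/-- the Tits endomorphism as a ring homomorphism -/
def sigHom : F →+* F where
  toFun := sig m
  map_one' := sig_one m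
  map_mul' := sig_mul m
  map_zero' := sig_zero m
  map_add' := by
    have := charTwo (F := F) m
    exact sig_add m

theorem sigHom_coe : ⇑(sigHom (F := F) m) = sig m := rfl

/-- membership in the defining set of `Cfsg.Lie.Sz` -/
def InX (g : Matrix (Fin 4) (Fin 4) F) : Prop :=
  PresJ g ∧ Cfsg.Lie.star4 g = g.map (sig m)

theorem InX.mul {g h : Matrix (Fin 4) (Fin 4) F} (hg : InX m g) (hh : InX m h) : InX m (g * h) := by
  have := charTwo (F := F) m
  refine ⟨hg.1.mul hh.1, ?_⟩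
  rw [star4_mul two_eq_zero' hg.1 hh.1, hg.2, hh.2, ← sigHom_coe, Matrix.map_mul]

theorem InX.one : InX m (1 : Matrix (Fin 4) (Fin 4) F) := by
  refine ⟨by unfold PresJ; simp, ?_⟩
  rw [star4_one, ← sigHom_coe, Matrix.map_one _ (map_zero _) (map_one _)]

theorem InX.pow {g : Matrix (Fin 4) (Fin 4) F} (hg : InX m g) (n : ℕ) : InX m (g ^ n) := by
  induction n with
  | zero => rw [pow_zero]; exact InX.one m
  | succ n ih => rw [pow_succ]; exact ih.mul m hg

theorem inX_T (a b : F) : InX m (Tmat m a b) := by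
  have := charTwo (F := F) m
  have h2 : (2 : F) = 0 := two_eq_zero'
  refine ⟨presJ_T m a b, ?_⟩
  ext p r
  fin_cases p <;> fin_cases r <;>
    simp [star4_apply, pairOf_zero, pairOf_one, pairOf_two, pairOf_three, Tmat, ff, sig_add, sig_mul,
      sig_sig, sig_pow] <;> grind

theorem inX_w : InX m (wmat : Matrix (Fin 4) (Fin 4) F) := by
  have := charTwo (F := F) m
  have h2 : (2 : F) = 0 := two_eq_zero'
  refine ⟨presJ_w, ?_⟩
  ext p r
  fin_cases p <;> fin_cases r <;>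
    simp [star4_apply, pairOf_zero, pairOf_one, pairOf_two, pairOf_three, wmat] <;> grind

theorem sig_pow_two_pow (x : F) : sig m (x ^ (2 ^ m)) = x := by
  unfold sig
  rw [← pow_mul, ← pow_add]
  have : m + (m + 1) = 2 * m + 1 := by ring
  rw [this, ← SzField.card (F := F) (m := m), FiniteField.pow_card]

theorem inX_h (k : Fˣ) : InX m (hmat m k) := by
  refine ⟨presJ_h m k, ?_⟩
  have hk : (k : F) ≠ 0 := k.ne_zero
  have hK : (k : F) ^ 2 ^ m ≠ 0 := pow_ne_zero _ hk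
  have e1 := sig_pow_two_pow m (k : F)
  have e2 := sig_eq_sq m (k : F)
  ext p r
  fin_cases p <;> fin_cases r <;>
    simp [star4_apply, pairOf_zero, pairOf_one, pairOf_two, pairOf_three, hmat, pow_succ, sig_mul,
      sig_inv, e1, e2] <;> field_simp

theorem inX_of_mem {g : Matrix.SpecialLinearGroup (Fin 4) F} (hg : g ∈ Cfsg.Sz F m) :
    InX m (g : Matrix (Fin 4) (Fin 4) F) := by
  rcases normal_form m hg with ⟨a, b, k, rfl⟩ | ⟨a, b, c, d, k, rfl⟩
  · rw [Matrix.SpecialLinearGroup.coe_mul]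
    exact (inX_T m a b).mul m (inX_h m k)
  · simp only [Matrix.SpecialLinearGroup.coe_mul]
    exact ((inX_T m a b).mul m (inX_w m)).mul m ((inX_T m c d).mul m (inX_h m k))

theorem det_eq_one_of_inX {g : Matrix (Fin 4) (Fin 4) F} (hg : InX m g) : g.det = 1 := by
  have := charTwo (F := F) m
  have h2 : (2 : F) = 0 := two_eq_zero'
  have h1 := congrArg Matrix.det hg.1
  have hJ : (Cfsg.suzukiForm F).det = 1 := det_wmat
  rw [Matrix.det_mul, Matrix.det_mul, Matrix.det_transpose, hJ, mul_one] at h1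
  have h3 : (g.det - 1) ^ 2 = 0 := by
    linear_combination h1 + (1 - g.det) * h2
  exact sub_eq_zero.1 (pow_eq_zero_iff (by norm_num) |>.1 h3)

/-- the first column of an element of the defining set lies on the ovoid -/
theorem smul_inf_mem_of_inX {g : Matrix.SpecialLinearGroup (Fin 4) F}
    (hg : InX m (g : Matrix (Fin 4) (Fin 4) F)) :
    g • (inf : ℙ F (Fin 4 → F)) ∈ Cfsg.suzukiOvoid F m := by
  have := charTwo (F := F) m
  have h2 : (2 : F) = 0 := two_eq_zero'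
  have E0 := congrFun (congrFun hg.2 0) 0
  have E1 := congrFun (congrFun hg.2 1) 0
  have E2 := congrFun (congrFun hg.2 2) 0
  have E3 := congrFun (congrFun hg.2 3) 0
  have B := hg.1.col 0 1
  simp only [star4_apply, pairOf_zero, pairOf_one, pairOf_two, pairOf_three, Matrix.map_apply] at E0 E1 E2 E3
  have hJ01 : Cfsg.suzukiForm F 0 1 = 0 := by simp [Cfsg.suzukiForm]
  rw [hJ01] at B
  rw [mem_ovoid_iff]
  have e : g • (inf : ℙ F (Fin 4 → F))
      = Projectivization.mk F (g.1 *ᵥ e0) ((smul_ne_zero_iff_ne g).mpr e0_ne_zero) :=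
    smul_mk' g e0 e0_ne_zero
  rw [e]
  by_cases h3 : g.1 3 0 = 0
  · left
    rw [mk_eq_inf_iff]
    simp only [mulVec_e0_apply]
    rw [h3] at E2 E3 B
    simp only [sig_zero, zero_mul, sub_zero, add_zero] at E2 E3 B
    by_cases hd : g.1 3 1 = 0
    · rw [hd, mul_zero] at E2
      have c2 : g.1 2 0 = 0 := (sig_eq_zero m).1 E2.symm
      rw [c2] at E1 B
      rw [hd] at B
      simp only [zero_mul, sub_zero, add_zero, mul_zero, zero_add] at E1 B
      refine ⟨?_, c2, h3⟩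
      by_contra c1
      have hd2 : g.1 2 1 = 0 := (mul_eq_zero.1 B).resolve_left c1
      rw [hd2, mul_zero] at E1
      exact c1 ((sig_eq_zero m).1 E1.symm)
    · have c2 : g.1 2 0 = 0 := (mul_eq_zero.1 E3).resolve_right hd
      rw [c2, sig_zero] at E2
      exact ⟨(mul_eq_zero.1 E2).resolve_right hd, c2, h3⟩
  · right
    refine ⟨g.1 2 0 / g.1 3 0, g.1 1 0 / g.1 3 0, ?_⟩
    rw [mk_eq_pt_iff]
    have hs3 : sig m (g.1 3 0) ≠ 0 := sig_ne_zero m h3
    have key : g.1 3 0 ^ 2 * sig m (g.1 1 0) = sig m (g.1 3 0) * (g.1 0 0 * g.1 3 0 + g.1 1 0 * g.1 2 0)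
        + g.1 2 0 ^ 2 * sig m (g.1 2 0) := by
      grind
    ext i
    fin_cases i
    · simp only [mulVec_e0_apply, vec, ff, sig_div, Pi.smul_apply, smul_eq_mul]
      simp
      field_simp
      grind
    · simp [mulVec_e0_apply, vec]
      field_simp
    · simp [mulVec_e0_apply, vec]
      field_simp
    · simp [mulVec_e0_apply, vec]

theorem smul_mem_of_inX {g : Matrix.SpecialLinearGroup (Fin 4) F}
    (hg : InX m (g : Matrix (Fin 4) (Fin 4) F)) {p : ℙ F (Fin 4 → F)}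
    (hp : p ∈ Cfsg.suzukiOvoid F m) : g • p ∈ Cfsg.suzukiOvoid F m := by
  rcases (mem_ovoid_iff m p).1 hp with rfl | ⟨x, y, rfl⟩
  · exact smul_inf_mem_of_inX m hg
  · have e : pt m x y = (T m x y * w) • (inf : ℙ F (Fin 4 → F)) := by
      rw [mul_smul, w_smul_inf m, T_smul_zero]
    rw [e, ← mul_smul]
    apply smul_inf_mem_of_inX
    simp only [Matrix.SpecialLinearGroup.coe_mul]
    exact hg.mul m ((inX_T m x y).mul m (inX_w m))

theorem mem_Sz_of_inX {g : Matrix.SpecialLinearGroup (Fin 4) F}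
    (hg : InX m (g : Matrix (Fin 4) (Fin 4) F)) : g ∈ Cfsg.Sz F m := by
  have hinv : InX m ((g⁻¹ : Matrix.SpecialLinearGroup (Fin 4) F) : Matrix (Fin 4) (Fin 4) F) := by
    have e : g⁻¹ = g ^ (orderOf g - 1) := by
      apply inv_eq_of_mul_eq_one_right
      rw [← pow_succ', Nat.sub_add_cancel (orderOf_pos g), pow_orderOf_eq_one]
    rw [e, Matrix.SpecialLinearGroup.coe_pow]
    exact hg.pow m _
  exact mem_Sz_of m g (fun p hp => smul_mem_of_inX m hg hp) (fun p hp => smul_mem_of_inX m hinv hp)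

omit [Fintype F] in
theorem altForm4_eq (u v : Fin 4 → F) :
    Cfsg.Lie.altForm4 u v = u ⬝ᵥ (Cfsg.suzukiForm F *ᵥ v) := by
  simp [Cfsg.Lie.altForm4, Cfsg.suzukiForm, dotProduct, Matrix.mulVec, Fin.sum_univ_four]

omit [Fintype F] in
theorem mem_Sp4_iff (g : GL (Fin 4) F) :
    g ∈ Cfsg.Lie.Sp4 F ↔ PresJ (g : Matrix (Fin 4) (Fin 4) F) := by
  have key : ∀ u v : Fin 4 → F,
      Cfsg.Lie.altForm4 ((g : Matrix (Fin 4) (Fin 4) F) *ᵥ u) ((g : Matrix (Fin 4) (Fin 4) F) *ᵥ v)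
        = u ⬝ᵥ (((g : Matrix (Fin 4) (Fin 4) F)ᵀ * Cfsg.suzukiForm F * (g : Matrix (Fin 4) (Fin 4) F)) *ᵥ v) := by
    intro u v
    rw [altForm4_eq, ← Matrix.mulVec_mulVec, ← Matrix.mulVec_mulVec,
      Matrix.dotProduct_mulVec u (g : Matrix (Fin 4) (Fin 4) F)ᵀ, Matrix.vecMul_transpose]
  constructor
  · intro h
    unfold PresJ
    ext i j
    have h1 : Cfsg.Lie.altForm4 ((g : Matrix (Fin 4) (Fin 4) F) *ᵥ Pi.single i 1)
        ((g : Matrix (Fin 4) (Fin 4) F) *ᵥ Pi.single j 1)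
        = Cfsg.Lie.altForm4 (Pi.single i 1 : Fin 4 → F) (Pi.single j 1) := h _ _
    rw [key, altForm4_eq] at h1
    simpa using h1
  · intro h u v
    show Cfsg.Lie.altForm4 ((g : Matrix (Fin 4) (Fin 4) F) *ᵥ u) ((g : Matrix (Fin 4) (Fin 4) F) *ᵥ v)
      = Cfsg.Lie.altForm4 u v
    rw [key, h, altForm4_eq]

/-- the embedding of the ovoid model into `GL₄` -/
noncomputable def toLie : Cfsg.Sz F m →* GL (Fin 4) F :=
  Matrix.SpecialLinearGroup.toGL.comp (Cfsg.Sz F m).subtype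

theorem toLie_coe (g : Cfsg.Sz F m) :
    (toLie m g : Matrix (Fin 4) (Fin 4) F) = (g.1 : Matrix (Fin 4) (Fin 4) F) := rfl

theorem toLie_injective : Function.Injective (toLie (F := F) m) := by
  intro a b h
  apply Subtype.ext
  apply Subtype.ext
  have := congrArg (fun x : GL (Fin 4) F => (x : Matrix (Fin 4) (Fin 4) F)) h
  exact this

theorem range_toLie : (toLie (F := F) m).range = Cfsg.Lie.Sz F (2 ^ (m + 1)) := by
  apply le_antisymm
  · rintro _ ⟨g, rfl⟩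
    apply Subgroup.subset_closure
    have h := inX_of_mem m g.2
    exact ⟨(mem_Sp4_iff _).2 h.1, h.2⟩
  · unfold Cfsg.Lie.Sz
    rw [Subgroup.closure_le]
    rintro g ⟨h1, h2⟩
    have hX : InX m (g : Matrix (Fin 4) (Fin 4) F) := ⟨(mem_Sp4_iff g).1 h1, h2⟩
    have hdet := det_eq_one_of_inX m hX
    let g' : Matrix.SpecialLinearGroup (Fin 4) F := ⟨(g : Matrix (Fin 4) (Fin 4) F), hdet⟩
    have hg' : g' ∈ Cfsg.Sz F m := mem_Sz_of_inX m hX
    exact ⟨⟨g', hg'⟩, Units.ext rfl⟩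

/-- the two models of the Suzuki group are isomorphic -/
noncomputable def lieEquiv : Cfsg.Sz F m ≃* Cfsg.Lie.Sz F (2 ^ (m + 1)) :=
  (MonoidHom.ofInjective (toLie_injective m)).trans (MulEquiv.subgroupCongr (range_toLie m))

end Cfsg.Agent.Lib.Helper37.Suz
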