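import Cfsg.Agent.Lib.Helper37.Suzuki.Biadd
import Cfsg.Agent.Lib.Helper37.Suzuki.Cyclic
import Cfsg.Agent.Lib.Helper37.CentralExt

/-!
# The Schur multiplier of `Sz(q)`, `q ≥ 32`, is trivial
-/

set_option autoImplicit false

namespace Cfsg.Agent.Lib.Helper37.Suz

open scoped commutatorElement
open Cfsg.Agent.Lib.Helper37.CentralExt

variable {F : Type*} [Field F] [Fintype F] (m : ℕ) [SzField F m]

theorem hS_conj_TS (k : Fˣ) (a b : F) :
    hS m k * TS m a b * (hS m k)⁻¹ = TS m (k * a) (sig m (k : F) * k * b) :=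
  Subtype.ext (hh_conj_T m k a b)

theorem TS_mul_zero (a b y : F) : TS m a b * TS m 0 y = TS m a (b + y) := by
  rw [TS_mul]; simp

theorem TS_comm_zero (a b y : F) : TS m a b * TS m 0 y = TS m 0 y * TS m a b := by
  rw [TS_mul, TS_mul]; simp [add_comm]

theorem TS_commutator (a b c d : F) :
    ⁅TS m a b, TS m c d⁆ = TS m 0 (sig m a * c + sig m c * a) := by
  have := congrArg Subtype.val (TQ_comm m a b c d)
  rw [commutatorElement_def]
  exact this

open scoped IsMulCommutative in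
include m in
/-- the norm argument -/
theorem pow_card_eq_one_of_mem_closure {A : Type*} [Group A] [IsMulCommutative A]
    (φ : Fˣ → (A →* A)) (γ : F → F → A)
    (hl : ∀ x x' y, γ (x + x') y = γ x y * γ x' y) (hr : ∀ x y y', γ x (y + y') = γ x y * γ x y')
    (heq : ∀ (k : Fˣ) (a a' : F), φ k (γ a a') = γ (k * a) (k * a'))
    (x : A) (hx : x ∈ Subgroup.closure (Set.range (fun p : F × F => γ p.1 p.2)))
    (hfix : ∀ k, φ k x = x) : x ^ (Fintype.card F - 1) = 1 := by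
  classical
  let N : A →* A := ∏ k, φ k
  have hN : ∀ y, N y = ∏ k, φ k y := fun y => by
    simp only [N, MonoidHom.finsetProd_apply]
  have hδ : ∀ a a', N (γ a a') = 1 := by
    apply biadd_eq_one_A m (fun a a' => N (γ a a'))
    · intro x x' y
      simp only [hl, map_mul]
    · intro x y y'
      simp only [hr, map_mul]
    · intro μ hμ a a'
      simp only [hN, heq]
      let l : Fˣ := Units.mk0 μ hμ
      refine Fintype.prod_equiv (Equiv.mulRight l) _ _ ?_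
      intro k
      simp only [Equiv.coe_mulRight, Units.val_mul, l, Units.val_mk0, mul_assoc]
  have hle : Subgroup.closure (Set.range (fun p : F × F => γ p.1 p.2)) ≤ N.ker := by
    rw [Subgroup.closure_le]
    rintro _ ⟨p, rfl⟩
    exact hδ p.1 p.2
  have h1 : N x = 1 := hle hx
  rw [hN] at h1
  simp only [hfix, Finset.prod_const, Finset.card_univ, Fintype.card_units] at h1
  exact h1

/-- the subgroup `Z(Q)` -/
def Zsub (F : Type*) [Field F] [Fintype F] (m : ℕ) [SzField F m] : Subgroup (Cfsg.Sz F m) where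
  carrier := {g | ∃ y, g = TS m 0 y}
  one_mem' := ⟨0, (TS_zero m).symm⟩
  mul_mem' := by
    rintro _ _ ⟨y, rfl⟩ ⟨y', rfl⟩
    exact ⟨y + y', TS_mul_zero m 0 y y'⟩
  inv_mem' := by
    rintro _ ⟨y, rfl⟩
    exact ⟨y, by rw [TS_inv]; simp⟩

theorem pow_eq_one_of_mem_ker_two (hm2 : 2 ≤ m) {Γ : Type*} [Group Γ] (σ : Γ →* Cfsg.Sz F m)
    (hs : Function.Surjective σ) (hc : σ.ker ≤ Subgroup.center Γ) {z : Γ} (hz : z ∈ σ.ker)
    (hz' : z ∈ ⁅(Qsub F m).comap σ, (Qsub F m).comap σ⁆) : z ^ (Fintype.card F - 1) = 1 := by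
  have := charTwo (F := F) m
  let s := Function.surjInv hs
  have hs' : ∀ g, σ (s g) = g := Function.surjInv_eq hs
  let tt : F → F → Γ := fun a b => s (TS m a b)
  let ee : Fˣ → Γ := fun k => s (hS m k)
  have htt : ∀ a b, σ (tt a b) = TS m a b := fun a b => hs' _
  have hee : ∀ k, σ (ee k) = hS m k := fun k => hs' _
  have hcen : ∀ u v : Γ, σ u * σ v = σ v * σ u → ⁅u, v⁆ ∈ Subgroup.center Γ := by
    intro u v h
    apply hc
    rw [MonoidHom.mem_ker, map_commutatorElement, commutatorElement_eq_one_iff_mul_comm]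
    exact h
  have hL : ∀ u u' u'' v : Γ, σ u'' = σ u * σ u' → u * ⁅u', v⁆ = ⁅u', v⁆ * u →
      ⁅u', v⁆ * ⁅u, v⁆ = ⁅u, v⁆ * ⁅u', v⁆ → ⁅u'', v⁆ = ⁅u, v⁆ * ⁅u', v⁆ := by
    intro u u' u'' v h h1 h2
    rw [comm_congr σ hc (u := u'') (u' := u * u') (v := v) (v' := v) (by rw [h, map_mul]) rfl,
      comm_mul_left, h1, mul_inv_cancel_right, h2]
  have hR : ∀ u v v' v'' : Γ, σ v'' = σ v * σ v' → v * ⁅u, v'⁆ = ⁅u, v'⁆ * v →
      ⁅u, v''⁆ = ⁅u, v⁆ * ⁅u, v'⁆ := by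
    intro u v v' v'' h h1
    rw [comm_congr σ hc (u := u) (u' := u) (v := v'') (v' := v * v') rfl (by rw [h, map_mul]),
      comm_mul_right, h1, mul_inv_cancel_right]
  have hC : ∀ x u v u1 v1 : Γ, σ u1 = σ x * σ u * (σ x)⁻¹ → σ v1 = σ x * σ v * (σ x)⁻¹ →
      ⁅u1, v1⁆ = x * ⁅u, v⁆ * x⁻¹ := by
    intro x u v u1 v1 hu hv
    rw [conj_comm]
    exact comm_congr σ hc (by simp [hu]) (by simp [hv])
  have hconjc : ∀ x c : Γ, c ∈ Subgroup.center Γ → x * c * x⁻¹ = c := by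
    intro x c hcc
    rw [Subgroup.mem_center_iff.1 hcc x, mul_inv_cancel_right]
  -- all commutators [Q, Z] are central
  have hcz : ∀ a b y, ⁅tt a b, tt 0 y⁆ ∈ Subgroup.center Γ := fun a b y =>
    hcen _ _ (by rw [htt, htt]; exact TS_comm_zero m a b y)
  have hLz : ∀ a b a' b' a'' b'' y, TS m a'' b'' = TS m a b * TS m a' b' →
      ⁅tt a'' b'', tt 0 y⁆ = ⁅tt a b, tt 0 y⁆ * ⁅tt a' b', tt 0 y⁆ := by
    intro a b a' b' a'' b'' y h
    exact hL _ _ _ _ (by rw [htt, htt, htt, h]) (Subgroup.mem_center_iff.1 (hcz a' b' y) _)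
      (Subgroup.mem_center_iff.1 (hcz a b y) _)
  have hRz : ∀ a b y y', ⁅tt a b, tt 0 (y + y')⁆ = ⁅tt a b, tt 0 y⁆ * ⁅tt a b, tt 0 y'⁆ := by
    intro a b y y'
    exact hR _ _ _ _ (by rw [htt, htt, htt, TS_mul_zero]) (Subgroup.mem_center_iff.1 (hcz a b y') _)
  have hCz : ∀ (k : Fˣ) a b y, ⁅tt (k * a) (sig m (k : F) * k * b), tt 0 (sig m (k : F) * k * y)⁆
      = ⁅tt a b, tt 0 y⁆ := by
    intro k a b y
    rw [hC (ee k) (tt a b) (tt 0 y) _ _ (by rw [htt, htt, hee, hS_conj_TS])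
      (by rw [htt, htt, hee, hS_conj_TS, mul_zero]), hconjc _ _ (hcz a b y)]
  -- Step 1
  have h1 : ∀ x y, ⁅tt 0 x, tt 0 y⁆ = 1 := by
    apply biadd_eq_one_A m (fun x y => ⁅tt 0 x, tt 0 y⁆)
    · intro x x' y
      exact hLz 0 x 0 x' 0 (x + x') y (TS_mul_zero m 0 x x').symm
    · intro x y y'
      exact hRz 0 x y y'
    · intro μ hμ x y
      obtain ⟨k0, hk0⟩ := sig_mul_self_surjective (F := F) m μ
      have hk00 : k0 ≠ 0 := by
        rintro rfl
        apply hμ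
        rw [← hk0]; simp
      have := hCz (Units.mk0 k0 hk00) 0 x y
      simp only [Units.val_mk0, mul_zero] at this
      simp only at hk0
      rw [hk0] at this
      exact this
  -- Step 2
  have hind : ∀ a b y, ⁅tt a b, tt 0 y⁆ = ⁅tt a 0, tt 0 y⁆ := by
    intro a b y
    rw [hLz a 0 0 b a b y (by rw [TS_mul_zero, zero_add]), h1, mul_one]
  have h2 : ∀ a y, ⁅tt a 0, tt 0 y⁆ = 1 := by
    apply biadd_eq_one_B m hm2 (fun a y => ⁅tt a 0, tt 0 y⁆)
    · intro a a' y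
      show ⁅tt (a + a') 0, tt 0 y⁆ = _
      rw [← hind (a + a') (sig m a * a') y]
      exact hLz a 0 a' 0 _ _ y (by rw [TS_mul]; simp)
    · intro a y y'
      exact hRz a 0 y y'
    · intro k0 hk0 a y
      have := hCz (Units.mk0 k0 hk0) a 0 y
      simp only [Units.val_mk0, mul_zero] at this
      exact this
  have hQZ : ∀ u v : Γ, σ u ∈ Qsub F m → σ v ∈ Zsub F m → u * v = v * u := by
    rintro u v ⟨a, b, hu⟩ ⟨y, hv⟩
    rw [← commutatorElement_eq_one_iff_mul_comm,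
      comm_congr σ hc (u := u) (u' := tt a b) (v := v) (v' := tt 0 y) (by rw [hu, htt])
        (by rw [hv, htt]), hind, h2]
  have hZQ : Zsub F m ≤ Qsub F m := by
    rintro _ ⟨y, rfl⟩
    exact TS_mem m 0 y
  -- Step 3
  have hγZ : ∀ u v : Γ, σ u ∈ Qsub F m → σ v ∈ Qsub F m → σ ⁅u, v⁆ ∈ Zsub F m := by
    rintro u v ⟨a, b, hu⟩ ⟨a', b', hv⟩
    rw [map_commutatorElement, hu, hv, TS_commutator]
    exact ⟨_, rfl⟩
  have httQ : ∀ a b, σ (tt a b) ∈ Qsub F m := fun a b => by rw [htt]; exact TS_mem m a b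
  have hLq : ∀ a b a' b' a'' b'' c d, TS m a'' b'' = TS m a b * TS m a' b' →
      ⁅tt a'' b'', tt c d⁆ = ⁅tt a b, tt c d⁆ * ⁅tt a' b', tt c d⁆ := by
    intro a b a' b' a'' b'' c d h
    exact hL _ _ _ _ (by rw [htt, htt, htt, h])
      (hQZ _ _ (httQ a b) (hγZ _ _ (httQ a' b') (httQ c d)))
      (hQZ _ _ (hZQ (hγZ _ _ (httQ a' b') (httQ c d))) (hγZ _ _ (httQ a b) (httQ c d)))
  have hRq : ∀ a b c d c' d' c'' d'', TS m c'' d'' = TS m c d * TS m c' d' →
      ⁅tt a b, tt c'' d''⁆ = ⁅tt a b, tt c d⁆ * ⁅tt a b, tt c' d'⁆ := by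
    intro a b c d c' d' c'' d'' h
    exact hR _ _ _ _ (by rw [htt, htt, htt, h])
      (hQZ _ _ (httQ c d) (hγZ _ _ (httQ a b) (httQ c' d')))
  have hz1 : ∀ a b y, ⁅tt a b, tt 0 y⁆ = 1 := fun a b y => by rw [hind, h2]
  have hz2 : ∀ a b y, ⁅tt 0 y, tt a b⁆ = 1 := fun a b y => by
    rw [← commutatorElement_inv, hz1, inv_one]
  have hindq : ∀ a b c d, ⁅tt a b, tt c d⁆ = ⁅tt a 0, tt c 0⁆ := by
    intro a b c d
    rw [hLq a 0 0 b a b c d (by rw [TS_mul_zero, zero_add]), hz2, mul_one,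
      hRq a 0 c 0 0 d c d (by rw [TS_mul_zero, zero_add]), hz1, mul_one]
  let Zh : Subgroup Γ := (Zsub F m).comap σ
  have hZc : IsMulCommutative Zh := ⟨⟨fun x y => Subtype.ext (hQZ _ _ (hZQ x.2) y.2)⟩⟩
  let γ : F → F → Zh := fun a c => ⟨⁅tt a 0, tt c 0⁆, hγZ _ _ (httQ a 0) (httQ c 0)⟩
  have hnorm : ∀ (k : Fˣ) (x : Γ), x ∈ Zh → ee k * x * (ee k)⁻¹ ∈ Zh := by
    rintro k x ⟨y, hy⟩
    show σ _ ∈ Zsub F m
    rw [map_mul, map_mul, map_inv, hy, hee, hS_conj_TS, mul_zero]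
    exact ⟨_, rfl⟩
  let φ : Fˣ → (Zh →* Zh) := fun k =>
    { toFun := fun x => ⟨ee k * x * (ee k)⁻¹, hnorm k x x.2⟩
      map_one' := by apply Subtype.ext; simp
      map_mul' := fun x y => by apply Subtype.ext; simp }
  have hle : ⁅(Qsub F m).comap σ, (Qsub F m).comap σ⁆
      ≤ (Subgroup.closure (Set.range (fun p : F × F => γ p.1 p.2))).map Zh.subtype := by
    rw [Subgroup.commutator_le]
    rintro u ⟨a, b, hu⟩ v ⟨c, d, hv⟩
    refine ⟨γ a c, Subgroup.subset_closure ⟨(a, c), rfl⟩, ?_⟩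
    show ⁅tt a 0, tt c 0⁆ = ⁅u, v⁆
    rw [← hindq a b c d]
    exact comm_congr σ hc (by rw [hu, htt]) (by rw [hv, htt])
  obtain ⟨x, hx, hxz⟩ := hle hz'
  have hxz' : (x : Γ) = z := hxz
  have key := pow_card_eq_one_of_mem_closure m φ γ
    (by
      intro a a' c
      apply Subtype.ext
      show ⁅tt (a + a') 0, tt c 0⁆ = ⁅tt a 0, tt c 0⁆ * ⁅tt a' 0, tt c 0⁆
      rw [← hindq (a + a') (sig m a * a') c 0]
      exact hLq a 0 a' 0 _ _ c 0 (by rw [TS_mul]; simp))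
    (by
      intro a c c'
      apply Subtype.ext
      show ⁅tt a 0, tt (c + c') 0⁆ = ⁅tt a 0, tt c 0⁆ * ⁅tt a 0, tt c' 0⁆
      rw [← hindq a 0 (c + c') (sig m c * c')]
      exact hRq a 0 c 0 c' 0 _ _ (by rw [TS_mul]; simp))
    (by
      intro k a c
      apply Subtype.ext
      show ee k * ⁅tt a 0, tt c 0⁆ * (ee k)⁻¹ = ⁅tt (k * a) 0, tt (k * c) 0⁆
      rw [hC (ee k) (tt a 0) (tt c 0) (tt (k * a) 0) (tt (k * c) 0)
        (by rw [htt, htt, hee, hS_conj_TS, mul_zero])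
        (by rw [htt, htt, hee, hS_conj_TS, mul_zero])])
    x hx
    (by
      intro k
      apply Subtype.ext
      show ee k * x * (ee k)⁻¹ = x
      rw [hxz']
      exact hconjc _ _ (hc hz))
  have := congrArg Subtype.val key
  rw [Subgroup.coe_pow, hxz'] at this
  exact this

end Cfsg.Agent.Lib.Helper37.Suz
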