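import Cfsg.Agent.Lib.Helper37.Suzuki.CN
import Cfsg.Agent.Lib.Helper37.Suzuki.LieModel
import Cfsg.Agent.Lib.Helper37.NilCover

/-!
# The Suzuki groups have no nilpotent minimal cover
-/

set_option autoImplicit false

namespace Cfsg.Agent.Lib.Helper37.Suz

open Matrix
open scoped LinearAlgebra.Projectivization Pointwise

variable {F : Type*} [Field F] [Fintype F] (m : ℕ) [SzField F m]

/-- data attached to a pair of distinct points of the ovoid -/
theorem pair_data {a b : ℙ F (Fin 4 → F)} (ha : a ∈ Cfsg.suzukiOvoid F m)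
    (hb : b ∈ Cfsg.suzukiOvoid F m) (hab : a ≠ b) :
    ∃ h : Cfsg.Sz F m, h ≠ 1 ∧ h.1 • a = a ∧ h.1 • b = b ∧
      (∀ g : Cfsg.Sz F m, g.1 • a = a → g.1 • b = b → g ∈ Subgroup.zpowers h) ∧
      (∀ p ∈ Cfsg.suzukiOvoid F m, h.1 • p = p → p = a ∨ p = b) ∧
      (∀ z : Cfsg.Sz F m, z ≠ 1 → z.1 • a = a → z.1 • b = b → ∀ c : Cfsg.Sz F m, c * z = z * c →
        c.1 • a = a ∧ c.1 • b = b) := by
  obtain ⟨x, hx, xa, xb⟩ := exists_smul_eq_inf_zero m ha hb hab
  have xa' : x⁻¹ • (inf : ℙ F (Fin 4 → F)) = a := by rw [inv_smul_eq_iff, xa]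
  have xb' : x⁻¹ • pt m (0 : F) 0 = b := by rw [inv_smul_eq_iff, xb]
  set X : Cfsg.Sz F m := ⟨x, hx⟩ with hX
  have hfixk : ∀ k : Fˣ, (X⁻¹ * hS m k * X).1 • a = a ∧ (X⁻¹ * hS m k * X).1 • b = b := by
    intro k
    constructor
    · show (x⁻¹ * hh m k * x) • a = a
      rw [mul_smul, mul_smul, xa, hh_smul_inf, xa']
    · show (x⁻¹ * hh m k * x) • b = b
      rw [mul_smul, mul_smul, xb, hh_smul_pt]
      simpa using xb'
  have key : ∀ g : Cfsg.Sz F m, g.1 • a = a → g.1 • b = b → ∃ k : Fˣ, g = X⁻¹ * hS m k * X := by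
    intro g ga gb
    obtain ⟨k, hk⟩ := two_point_stab m (X * g * X⁻¹).2
      (by
        show (x * g.1 * x⁻¹) • (inf : ℙ F (Fin 4 → F)) = inf
        rw [mul_smul, mul_smul, xa', ga, xa])
      (by
        show (x * g.1 * x⁻¹) • pt m (0 : F) 0 = pt m 0 0
        rw [mul_smul, mul_smul, xb', gb, xb])
    have h1 : X * g * X⁻¹ = hS m k := Subtype.ext hk
    exact ⟨k, by rw [← h1]; group⟩
  obtain ⟨ζ, hζ⟩ := IsCyclic.exists_generator (α := Fˣ)
  have hζ1 : ζ ≠ 1 := by
    rintro rfl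
    obtain ⟨k, hk⟩ := exists_unit_ne_one (F := F) m
    apply hk
    obtain ⟨n, hn⟩ := Subgroup.mem_zpowers_iff.1 (hζ k)
    rw [← hn, _root_.one_zpow]
  have hne : ∀ k : Fˣ, k ≠ 1 → X⁻¹ * hS m k * X ≠ 1 := by
    intro k hk h
    apply hk
    have h1 : hS m k = 1 := by
      have : hS m k = X * (X⁻¹ * hS m k * X) * X⁻¹ := by group
      rw [this, h]; group
    apply hh_injective m
    rw [hh_one]
    exact congrArg Subtype.val h1
  refine ⟨X⁻¹ * hS m ζ * X, hne ζ hζ1, (hfixk ζ).1, (hfixk ζ).2, ?_, ?_, ?_⟩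
  · intro g ga gb
    obtain ⟨k, rfl⟩ := key g ga gb
    obtain ⟨n, hn⟩ := Subgroup.mem_zpowers_iff.1 (hζ k)
    rw [Subgroup.mem_zpowers_iff]
    refine ⟨n, ?_⟩
    have e1 : (X⁻¹ * hS m ζ * X) ^ n = X⁻¹ * (hS m ζ) ^ n * X := by
      have := conj_zpow (a := X⁻¹) (b := hS m ζ) (i := n)
      simpa using this
    have e2 : (hS m ζ) ^ n = hS m (ζ ^ n) := ((hSHom (F := F) m).map_zpow ζ n).symm
    rw [e1, e2, hn]
  · intro p hp hfix
    have h1 : hh m ζ • (x • p) = x • p := by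
      have h2 : (x⁻¹ * hh m ζ * x) • p = p := hfix
      rw [mul_smul, mul_smul, inv_smul_eq_iff] at h2
      exact h2
    rcases (hh_fix_iff m hζ1 (smul_mem_of_mem_Sz m hx hp)).1 h1 with h3 | h3
    · left; rw [← xa', ← h3, inv_smul_smul]
    · right; rw [← xb', ← h3, inv_smul_smul]
  · intro z hz za zb c hc
    obtain ⟨k, rfl⟩ := key z za zb
    have hk1 : k ≠ 1 := by
      rintro rfl
      apply hz
      have : hS m (1 : Fˣ) = 1 := (hSHom (F := F) m).map_one
      rw [this]; group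
    have h1 : hS m k * (X * c * X⁻¹) = (X * c * X⁻¹) * hS m k := by
      have e1 : hS m k * (X * c * X⁻¹) = X * ((X⁻¹ * hS m k * X) * c) * X⁻¹ := by group
      have e2 : (X * c * X⁻¹) * hS m k = X * (c * (X⁻¹ * hS m k * X)) * X⁻¹ := by group
      rw [e1, e2, hc]
    obtain ⟨l, hl⟩ := centralizer_hh m hk1 (X * c * X⁻¹).2 (congrArg Subtype.val h1)
    have h2 : X * c * X⁻¹ = hS m l := Subtype.ext hl
    have h3 : c = X⁻¹ * hS m l * X := by rw [← h2]; group
    rw [h3]
    exact hfixk l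

/-- pointwise stabiliser of a finite set of ovoid points -/
def fixS (S : Finset (Cfsg.suzukiOvoid F m)) : Subgroup (Cfsg.Sz F m) where
  carrier := {g | ∀ p ∈ S, g.1 • (p : ℙ F (Fin 4 → F)) = p}
  mul_mem' := by
    intro a b ha hb p hp
    show (a.1 * b.1) • (p : ℙ F (Fin 4 → F)) = p
    rw [mul_smul, hb p hp, ha p hp]
  one_mem' := by
    intro p _
    exact one_smul _ _
  inv_mem' := by
    intro a ha p hp
    show a.1⁻¹ • (p : ℙ F (Fin 4 → F)) = p
    rw [inv_smul_eq_iff, ha p hp]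

theorem mem_fixS (S : Finset (Cfsg.suzukiOvoid F m)) (g : Cfsg.Sz F m) :
    g ∈ fixS m S ↔ ∀ p ∈ S, g.1 • (p : ℙ F (Fin 4 → F)) = p := Iff.rfl

theorem fixS_singleton_ne_top (p : Cfsg.suzukiOvoid F m) : fixS m {p} ≠ ⊤ := by
  intro htop
  have hall : ∀ g : Cfsg.Sz F m, g.1 • (p : ℙ F (Fin 4 → F)) = p := by
    intro g
    have : g ∈ fixS m {p} := by rw [htop]; trivial
    exact this p (Finset.mem_singleton_self p)
  by_cases hp : (p : ℙ F (Fin 4 → F)) = inf
  · have := hall (wS m)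
    rw [hp] at this
    have h2 : (w : Matrix.SpecialLinearGroup (Fin 4) F) • (inf : ℙ F (Fin 4 → F)) = inf := this
    rw [w_smul_inf m] at h2
    exact pt_ne_inf m 0 0 h2
  · obtain ⟨g, hg, hgp⟩ := exists_smul_eq_inf m p.2
    have := hall ⟨g, hg⟩
    exact hp (this.symm.trans hgp)

theorem not_hasNilMinCover_Sz : ¬ NilCover.HasNilMinCover (Cfsg.Sz F m) := by
  classical
  have : Finite (Cfsg.suzukiOvoid F m) := Finite.of_equiv _ (ovoidEquiv F m)
  have : Fintype (Cfsg.suzukiOvoid F m) := Fintype.ofFinite _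
  have hcardO : Fintype.card (Cfsg.suzukiOvoid F m) = Fintype.card F ^ 2 + 1 := by
    rw [← Nat.card_eq_fintype_card, card_ovoid]
  apply NilCover.not_hasNilMinCover
    ((Finset.univ.powersetCard 2 : Finset (Finset (Cfsg.suzukiOvoid F m))).image (fixS m))
    ((Finset.univ : Finset (Cfsg.suzukiOvoid F m)).image (fun p => fixS m {p}))
  · intro H hH
    obtain ⟨S, hS, rfl⟩ := Finset.mem_image.1 hH
    obtain ⟨a, b, hab, rfl⟩ := Finset.card_eq_two.1 (Finset.mem_powersetCard.1 hS).2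
    obtain ⟨h, h1, h2, h3, h4, -, -⟩ := pair_data m a.2 b.2 (fun e => hab (Subtype.ext e))
    refine ⟨h, ?_, h1, ?_⟩
    · intro p hp
      rcases Finset.mem_insert.1 hp with rfl | hp
      · exact h2
      · rw [Finset.mem_singleton.1 hp]; exact h3
    · intro g hg
      exact h4 g (hg a (by simp)) (hg b (by simp))
  · intro H hH
    obtain ⟨S, hS, rfl⟩ := Finset.mem_image.1 hH
    obtain ⟨a, b, hab, rfl⟩ := Finset.card_eq_two.1 (Finset.mem_powersetCard.1 hS).2
    obtain ⟨h, -, -, -, -, -, h6⟩ := pair_data m a.2 b.2 (fun e => hab (Subtype.ext e))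
    intro z hz hz1 c hc
    obtain ⟨c1, c2⟩ := h6 z hz1 (hz a (by simp)) (hz b (by simp)) c hc
    intro p hp
    rcases Finset.mem_insert.1 hp with rfl | hp
    · exact c1
    · rw [Finset.mem_singleton.1 hp]; exact c2
  · intro H hH
    obtain ⟨S, hS, rfl⟩ := Finset.mem_image.1 hH
    obtain ⟨a, b, hab, rfl⟩ := Finset.card_eq_two.1 (Finset.mem_powersetCard.1 hS).2
    refine ⟨fixS m {a}, Finset.mem_image_of_mem _ (Finset.mem_univ a), ?_⟩
    intro g hg p hp
    rw [Finset.mem_singleton.1 hp]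
    exact hg a (by simp)
  · have hinj : Set.InjOn (fixS (F := F) m)
        (↑(Finset.univ.powersetCard 2 : Finset (Finset (Cfsg.suzukiOvoid F m))) :
          Set (Finset (Cfsg.suzukiOvoid F m))) := by
      intro S hS S' hS' hSS'
      have hS2 := (Finset.mem_powersetCard.1 (Finset.mem_coe.1 hS)).2
      have hS'2 := (Finset.mem_powersetCard.1 (Finset.mem_coe.1 hS')).2
      obtain ⟨a, b, hab, rfl⟩ := Finset.card_eq_two.1 hS2
      obtain ⟨h, -, h2, h3, -, h5, -⟩ := pair_data m a.2 b.2 (fun e => hab (Subtype.ext e))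
      have hmem : h ∈ fixS m {a, b} := by
        intro p hp
        rcases Finset.mem_insert.1 hp with rfl | hp
        · exact h2
        · rw [Finset.mem_singleton.1 hp]; exact h3
      rw [hSS'] at hmem
      have hsub : S' ⊆ {a, b} := by
        intro p hp
        rcases h5 p p.2 (hmem p hp) with h | h
        · rw [Subtype.ext h]; simp
        · rw [Subtype.ext h]; simp
      exact (Finset.eq_of_subset_of_card_le hsub (by rw [hS2, hS'2])).symm
    rw [Finset.card_image_of_injOn hinj, Finset.card_powersetCard, Finset.card_univ, hcardO]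
    refine lt_of_le_of_lt Finset.card_image_le ?_
    rw [Finset.card_univ, hcardO, Nat.choose_two_right, Nat.add_sub_cancel]
    have h8 := eight_le_card (F := F) m
    set q := Fintype.card F
    have hQ : 64 ≤ q ^ 2 := by nlinarith
    generalize q ^ 2 = Q at hQ ⊢
    rw [Nat.lt_iff_add_one_le, Nat.le_div_iff_mul_le (by norm_num)]
    nlinarith
  · intro B hB
    obtain ⟨p, -, rfl⟩ := Finset.mem_image.1 hB
    exact fixS_singleton_ne_top m p

theorem not_hasNilMinCover_Lie : ¬ NilCover.HasNilMinCover (Cfsg.Lie.Sz F (2 ^ (m + 1))) := by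
  intro h
  exact not_hasNilMinCover_Sz m (h.of_equiv (lieEquiv (F := F) m).symm)

end Cfsg.Agent.Lib.Helper37.Suz
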