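import Cfsg.Agent.Lib.Helper37.Suzuki.Partition
import Cfsg.Agent.Lib.Helper37.TICount2

/-!
# Subgroups of odd order of the Suzuki groups are contained in tori
-/

set_option autoImplicit false

namespace Cfsg.Agent.Lib.Helper37.Suz

open Matrix TICount
open scoped LinearAlgebra.Projectivization

variable {F : Type*} [Field F] [Fintype F] {m : ℕ} [SzField F m]

theorem OddT.of_odd {g : Cfsg.Sz F m} (hg1 : g ≠ 1) (hodd : Odd (orderOf g)) : OddT g := by
  refine ⟨hg1, fun hQ => hg1 ?_⟩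
  have h4 := pow_eq_one_of_mem_cl hQ (pow_four_of_mem_Q m)
  have hcop : Nat.Coprime 4 (orderOf g) := by
    have h2 : Nat.Coprime 2 (orderOf g) := (Nat.coprime_two_left).2 hodd
    exact Nat.Coprime.pow_left 2 h2
  have h8 : orderOf g = 1 := Nat.eq_one_of_dvd_coprimes hcop (orderOf_dvd_of_pow_eq_one h4) dvd_rfl
  exact orderOf_eq_one_iff.1 h8

theorem mem_Tor_of_odd {g x : Cfsg.Sz F m} (hg : OddT g)
    (hx : x ∈ Subgroup.normalizer (Tor m g : Set (Cfsg.Sz F m))) (hodd : Odd (orderOf x)) :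
    x ∈ Tor m g := by
  have hn : ((Tor m g).subgroupOf (Subgroup.normalizer (Tor m g : Set (Cfsg.Sz F m)))).Normal :=
    Subgroup.normal_in_normalizer
  have hle : Tor m g ≤ Subgroup.normalizer (Tor m g : Set (Cfsg.Sz F m)) := Subgroup.le_normalizer
  have h1 := Subgroup.card_mul_index
    ((Tor m g).subgroupOf (Subgroup.normalizer (Tor m g : Set (Cfsg.Sz F m))))
  rw [Nat.card_congr (Subgroup.subgroupOfEquivOfLe hle).toEquiv] at h1
  have hpos : 0 < Nat.card (Tor m g) := Nat.card_pos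
  have hidx : ((Tor m g).subgroupOf (Subgroup.normalizer (Tor m g : Set (Cfsg.Sz F m)))).index ∣ 4 := by
    rcases hg.card_normalizer with h | h
    · rw [h, mul_comm] at h1
      rw [Nat.eq_of_mul_eq_mul_right hpos h1]
      norm_num
    · rw [h, mul_comm] at h1
      rw [Nat.eq_of_mul_eq_mul_right hpos h1]
  have h2 := Subgroup.pow_index_mem
    ((Tor m g).subgroupOf (Subgroup.normalizer (Tor m g : Set (Cfsg.Sz F m)))) ⟨x, hx⟩
  have h4 : x ^ 4 ∈ Tor m g := by
    obtain ⟨k, hk⟩ := hidx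
    have e : x ^ 4 = (x ^ ((Tor m g).subgroupOf
        (Subgroup.normalizer (Tor m g : Set (Cfsg.Sz F m)))).index) ^ k := by
      rw [← pow_mul, ← hk]
    rw [e]
    exact pow_mem h2 k
  have hcop : Nat.Coprime 4 (orderOf x) := by
    have h2 : Nat.Coprime 2 (orderOf x) := (Nat.coprime_two_left).2 hodd
    exact Nat.Coprime.pow_left 2 h2
  obtain ⟨k, hk⟩ := exists_pow_eq_self_of_coprime hcop
  rw [← hk]
  exact pow_mem h4 k

theorem odd_subgroup_le_Tor (M : Subgroup (Cfsg.Sz F m)) (hodd : Odd (Nat.card M))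
    {g : Cfsg.Sz F m} (hg : g ∈ M) (hg1 : g ≠ 1) : M ≤ Tor m g := by
  have hord : ∀ h ∈ M, Odd (orderOf h) := by
    intro h hh
    have : orderOf h ∣ Nat.card M := by
      have := orderOf_dvd_natCard (⟨h, hh⟩ : M)
      rwa [← Subgroup.orderOf_coe] at this
    exact Odd.of_dvd_nat hodd this
  have hO : ∀ h ∈ M, h ≠ 1 → OddT h := fun h hh h1 => OddT.of_odd h1 (hord h hh)
  have key := eq_of_partition M (fun h => Tor m h ⊓ M)
    (fun h hh _ => ⟨self_mem_Tor h, hh⟩)
    (fun h _ _ => inf_le_right)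
    (by
      intro h hh h1
      have hd : Nat.card (Tor m h ⊓ M : Subgroup (Cfsg.Sz F m)) ∣ Nat.card M :=
        Subgroup.card_dvd_of_le inf_le_right
      have ho : Odd (Nat.card (Tor m h ⊓ M : Subgroup (Cfsg.Sz F m))) := Odd.of_dvd_nat hodd hd
      have hne : Nat.card (Tor m h ⊓ M : Subgroup (Cfsg.Sz F m)) ≠ 1 := by
        intro hc
        have h2 : h ∈ (Tor m h ⊓ M : Subgroup (Cfsg.Sz F m)) := ⟨self_mem_Tor h, hh⟩
        rw [Subgroup.card_eq_one.1 hc, Subgroup.mem_bot] at h2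
        exact h1 h2
      have hpos : 0 < Nat.card (Tor m h ⊓ M : Subgroup (Cfsg.Sz F m)) := Nat.card_pos
      obtain ⟨k, hk⟩ := ho
      omega)
    (by
      intro h hh h1 x hx a ha ha1 hxa
      exact ⟨mem_Tor_of_odd (hO h hh h1) ((hO h hh h1).TI x a ha.1 ha1 hxa.1) (hord x hx), hx⟩)
    (by
      intro h hh h1 a ha ha1
      show Tor m a ⊓ M = Tor m h ⊓ M
      rw [((hO h hh h1).Tor_eq ha.1 ha1).1])
    (by
      intro h hh h1 x hx c
      show c ∈ Tor m (x * h * x⁻¹) ⊓ M ↔ x⁻¹ * c * x ∈ Tor m h ⊓ M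
      rw [Subgroup.mem_inf, Subgroup.mem_inf, mem_Tor_conj]
      have : c ∈ M ↔ x⁻¹ * c * x ∈ M := by
        constructor
        · intro hc
          exact mul_mem (mul_mem (inv_mem hx) hc) hx
        · intro hc
          have e : c = x * (x⁻¹ * c * x) * x⁻¹ := by group
          rw [e]
          exact mul_mem (mul_mem hx hc) (inv_mem hx)
      rw [this])
    hg hg1
  intro c hc
  rw [key] at hc
  exact hc.1

end Cfsg.Agent.Lib.Helper37.Suz
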