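import Cfsg.Agent.Lib.Helper37.Suzuki.TorusCount

/-!
# Centralisers of elements of odd order in the Suzuki groups, and the partition
-/

set_option autoImplicit false

namespace Cfsg.Agent.Lib.Helper37.Suz

open Matrix TICount
open scoped LinearAlgebra.Projectivization

variable {F : Type*} [Field F] [Fintype F] {m : ℕ} [SzField F m]

theorem Tor_hS {k : Fˣ} (hk : k ≠ 1) : Tor m (hS m k) = Hsub F m := by
  ext c
  rw [mem_Tor]
  constructor
  · intro h
    obtain ⟨l, hl⟩ := centralizer_hh m hk c.2 (congrArg Subtype.val h.symm)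
    exact ⟨l, Subtype.ext hl.symm⟩
  · rintro ⟨l, rfl⟩
    show hS m l * hS m k = hS m k * hS m l
    rw [← hS_mul, ← hS_mul, mul_comm]

omit [Fintype F] [SzField F m] in
theorem Tor_conj_eq_map (x g : Cfsg.Sz F m) :
    Tor m (g * x * g⁻¹) = (Tor m x).map (MulAut.conj g).toMonoidHom := by
  ext c
  rw [mem_Tor_conj]
  constructor
  · intro h
    exact ⟨_, h, by simp [mul_assoc]⟩
  · rintro ⟨d, hd, rfl⟩
    have : g⁻¹ * ((MulAut.conj g).toMonoidHom d) * g = d := by simp [mul_assoc]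
    rwa [this]

theorem Tor_of_mem_cl_H {g : Cfsg.Sz F m} (hg : g ∈ cl (Hsub F m)) :
    ∃ x, Tor m g = (Hsub F m).map (MulAut.conj x).toMonoidHom := by
  obtain ⟨x, _, ⟨k, rfl⟩, h1, rfl⟩ := hg
  refine ⟨x, ?_⟩
  have hk : k ≠ 1 := by
    rintro rfl
    exact h1 (hS_one m)
  have : hSHom m k = hS m k := rfl
  rw [this, Tor_conj_eq_map, Tor_hS hk]

/-- non-identity elements that are not `2`-elements -/
def OddT (g : Cfsg.Sz F m) : Prop := g ≠ 1 ∧ g ∉ cl (Qsub F m)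

theorem OddT.cases {g : Cfsg.Sz F m} (hg : OddT g) : g ∈ cl (Hsub F m) ∨ g ∈ XS m := by
  by_cases h : g ∈ cl (Hsub F m)
  · exact Or.inl h
  · exact Or.inr ⟨hg.1, hg.2, h⟩

theorem OddT.of_XS {g : Cfsg.Sz F m} (hg : g ∈ XS m) : OddT g := ⟨hg.1, hg.2.1⟩

theorem OddT.of_cl_H {g : Cfsg.Sz F m} (hg : g ∈ cl (Hsub F m)) : OddT g :=
  ⟨ne_one_of_mem_cl hg, fun h => Set.disjoint_left.1 (disjoint_cl_Q_H m) h hg⟩

theorem isCyclic_map_conj {G : Type*} [Group G] (A : Subgroup G) [IsCyclic A] (x : G) :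
    IsCyclic (A.map (MulAut.conj x).toMonoidHom) :=
  isCyclic_of_surjective ((MulAut.conj x).toMonoidHom.subgroupMap A)
    ((MulAut.conj x).toMonoidHom.subgroupMap_surjective A)

theorem OddT.isCyclic {g : Cfsg.Sz F m} (hg : OddT g) : IsCyclic (Tor m g) := by
  rcases hg.cases with h | h
  · obtain ⟨x, hx⟩ := Tor_of_mem_cl_H h
    rw [hx]
    exact isCyclic_map_conj _ x
  · exact isCyclic_Tor h

theorem OddT.card {g : Cfsg.Sz F m} (hg : OddT g) :
    Nat.card (Tor m g) = Fintype.card F - 1 ∨ Nat.card (Tor m g) = Fintype.card F + 2 ^ (m + 1) + 1 ∨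
      Nat.card (Tor m g) + 2 ^ (m + 1) = Fintype.card F + 1 := by
  rcases hg.cases with h | h
  · obtain ⟨x, hx⟩ := Tor_of_mem_cl_H h
    left
    rw [hx, card_map_conj, card_Hsub]
  · exact Or.inr (card_Tor_cases h)

theorem OddT.card_normalizer {g : Cfsg.Sz F m} (hg : OddT g) :
    Nat.card (Subgroup.normalizer (Tor m g : Set (Cfsg.Sz F m))) = 2 * Nat.card (Tor m g) ∨
    Nat.card (Subgroup.normalizer (Tor m g : Set (Cfsg.Sz F m))) = 4 * Nat.card (Tor m g) := by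
  rcases hg.cases with h | h
  · obtain ⟨x, hx⟩ := Tor_of_mem_cl_H h
    left
    rw [hx, card_map_conj, card_normalizer_map_conj, card_normalizer_H, card_Hsub]
  · exact Or.inr (card_normalizer_Tor_eq h)

theorem OddT.Tor_eq {g y : Cfsg.Sz F m} (hg : OddT g) (hy : y ∈ Tor m g) (hy1 : y ≠ 1) :
    Tor m y = Tor m g ∧ OddT y := by
  rcases hg.cases with h | h
  · obtain ⟨x, hx⟩ := Tor_of_mem_cl_H h
    rw [hx] at hy ⊢
    obtain ⟨_, ⟨k, rfl⟩, rfl⟩ := hy
    have hk : k ≠ 1 := by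
      rintro rfl
      apply hy1
      simp
    have e : (MulAut.conj x).toMonoidHom (hSHom m k) = x * hS m k * x⁻¹ := rfl
    rw [e, Tor_conj_eq_map, Tor_hS hk]
    exact ⟨rfl, OddT.of_cl_H ⟨x, hS m k, hS_mem m k, hS_ne_one hk, rfl⟩⟩
  · exact ⟨Suz.Tor_eq h hy hy1, OddT.of_XS (mem_XS_of_mem_Tor h hy hy1)⟩

include m in
theorem s_le_card : 2 ^ (m + 1) + 4 ≤ Fintype.card F := by
  have hm : 1 ≤ m := SzField.hm F
  rw [SzField.card (F := F) (m := m)]
  have e : 2 ^ (2 * m + 1) = 2 ^ (m + 1) * 2 ^ m := by rw [← pow_add]; congr 1; omega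
  have h1 : 2 ≤ 2 ^ m := by
    calc 2 = 2 ^ 1 := by norm_num
      _ ≤ 2 ^ m := Nat.pow_le_pow_right (by norm_num) hm
  have h2 : 4 ≤ 2 ^ (m + 1) := by
    calc 4 = 2 ^ 2 := by norm_num
      _ ≤ 2 ^ (m + 1) := Nat.pow_le_pow_right (by norm_num) (by omega)
  rw [e]
  nlinarith

include m in
theorem even_card : 2 ∣ Fintype.card F := by
  rw [SzField.card (F := F) (m := m)]
  exact dvd_pow_self 2 (by omega)

theorem OddT.odd_card {g : Cfsg.Sz F m} (hg : OddT g) : ¬ 2 ∣ Nat.card (Tor m g) := by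
  have h1 := even_card (F := F) (m := m)
  have h2 : 2 ∣ 2 ^ (m + 1) := dvd_pow_self 2 (by omega)
  have h3 := s_le_card (F := F) (m := m)
  obtain ⟨u, hu⟩ := h1
  obtain ⟨v, hv⟩ := h2
  rcases hg.card with h | h | h <;> omega

theorem OddT.TI {g : Cfsg.Sz F m} (hg : OddT g) : IsTI (Tor m g) := by
  intro x a ha h1 hxa
  have hxa1 : x * a * x⁻¹ ≠ 1 := by
    intro h
    apply h1
    have : a = x⁻¹ * (x * a * x⁻¹) * x := by group
    rw [this, h]; group
  have e1 : Tor m a = Tor m g := (hg.Tor_eq ha h1).1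
  have e2 : Tor m (x * a * x⁻¹) = Tor m g := (hg.Tor_eq hxa hxa1).1
  rw [Subgroup.mem_normalizer_iff]
  intro c
  have h3 : x * c * x⁻¹ ∈ Tor m (x * a * x⁻¹) ↔ c ∈ Tor m a := by
    rw [mem_Tor_conj]
    have : x⁻¹ * (x * c * x⁻¹) * x = c := by group
    rw [this]
  rw [e1, e2] at h3
  exact h3.symm

/-- Sylow `2`-subgroups have trivial intersection -/
theorem sylow_two_unique {P P' : Sylow 2 (Cfsg.Sz F m)} {g : Cfsg.Sz F m} (hg1 : g ≠ 1)
    (h : g ∈ P) (h' : g ∈ P') : P = P' := by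
  obtain ⟨x, hx⟩ := exists_conj_mem_Q m P
  obtain ⟨y, hy⟩ := exists_conj_mem_Q m P'
  have hn : y⁻¹ * x ∈ Subgroup.normalizer (Qsub F m : Set (Cfsg.Sz F m)) := by
    apply TI_Q m _ (x⁻¹ * g * x) ((hx g).1 h)
    · intro h1
      apply hg1
      have : g = x * (x⁻¹ * g * x) * x⁻¹ := by group
      rw [this, h1]; group
    · have : y⁻¹ * x * (x⁻¹ * g * x) * (y⁻¹ * x)⁻¹ = y⁻¹ * g * y := by group
      rw [this]
      exact (hy g).1 h'
  ext c
  show c ∈ P ↔ c ∈ P'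
  rw [hx c, hy c, Subgroup.mem_normalizer_iff.1 hn (x⁻¹ * c * x)]
  have : y⁻¹ * x * (x⁻¹ * c * x) * (y⁻¹ * x)⁻¹ = y⁻¹ * c * y := by group
  rw [this]

theorem mem_cl_Q_iff {g : Cfsg.Sz F m} (hg1 : g ≠ 1) :
    g ∈ cl (Qsub F m) ↔ ∃ P : Sylow 2 (Cfsg.Sz F m), g ∈ P := by
  constructor
  · intro h
    have h4 := pow_eq_one_of_mem_cl h (pow_four_of_mem_Q m)
    have hzp : IsPGroup 2 (Subgroup.zpowers g) := by
      have h5 : orderOf g ∣ 2 ^ 2 := orderOf_dvd_of_pow_eq_one h4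
      obtain ⟨k, -, hk⟩ := (Nat.dvd_prime_pow Nat.prime_two).1 h5
      apply IsPGroup.of_card (n := k)
      rw [Nat.card_zpowers, hk]
    obtain ⟨P, hP⟩ := hzp.exists_le_sylow
    exact ⟨P, hP (Subgroup.mem_zpowers g)⟩
  · rintro ⟨P, hP⟩
    obtain ⟨x, hx⟩ := exists_conj_mem_Q m P
    exact mem_cl_of_conj_mem ((hx g).1 hP) hg1


theorem K_dvd {q s k k' j : ℕ} (hs : s = 2 ^ j) (h4 : 4 ≤ s) (h2s : 2 * s ≤ q) (hq : 2 ∣ q)
    (hk : k = q - 1 ∨ k = q + s + 1 ∨ k + s = q + 1)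
    (hk' : k' = q - 1 ∨ k' = q + s + 1 ∨ k' + s = q + 1) (hd : k ∣ k') : k = k' := by
  have hle : k ≤ k' := Nat.le_of_dvd (by omega) hd
  rcases hk with hk | hk | hk <;> rcases hk' with hk' | hk' | hk'
  · omega
  · exfalso
    have h1 : k ∣ k' - k := Nat.dvd_sub hd (dvd_refl k)
    have h2 : k' - k = s + 2 := by omega
    rw [h2] at h1
    have := Nat.le_of_dvd (by omega) h1
    omega
  · omega
  · omega
  · omega
  · omega
  · exfalso
    have h1 : k ∣ k' - k := Nat.dvd_sub hd (dvd_refl k)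
    have h2 : k' - k = s - 2 := by omega
    rw [h2] at h1
    have := Nat.le_of_dvd (by omega) h1
    omega
  · exfalso
    have h1 : k ∣ k' - k := Nat.dvd_sub hd (dvd_refl k)
    have h2 : k' - k = 2 ^ (j + 1) := by rw [pow_succ, ← hs]; omega
    rw [h2] at h1
    obtain ⟨i, -, hi⟩ := (Nat.dvd_prime_pow Nat.prime_two).1 h1
    have hs2 : 2 ∣ s := by
      rw [hs]
      apply dvd_pow_self
      rintro rfl
      omega
    rcases Nat.eq_zero_or_pos i with rfl | hi0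
    · rw [pow_zero] at hi
      omega
    · have : 2 ∣ k := by rw [hi]; exact dvd_pow_self 2 (by omega)
      obtain ⟨a, ha⟩ := this
      obtain ⟨b, hb⟩ := hs2
      obtain ⟨c, hc⟩ := hq
      omega
  · omega

include m in
theorem two_s_le_card : 2 * 2 ^ (m + 1) ≤ Fintype.card F := by
  have hm : 1 ≤ m := SzField.hm F
  rw [SzField.card (F := F) (m := m), ← pow_succ']
  exact Nat.pow_le_pow_right (by norm_num) (by omega)

theorem four_le_s' (hm : 1 ≤ m) : 4 ≤ 2 ^ (m + 1) := by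
  calc 4 = 2 ^ 2 := by norm_num
    _ ≤ 2 ^ (m + 1) := Nat.pow_le_pow_right (by norm_num) (by omega)

/-- a cyclic subgroup of toral order containing an element of odd order is its centraliser -/
theorem eq_Tor_of_cyclic {g : Cfsg.Sz F m} (hg : OddT g) (U : Subgroup (Cfsg.Sz F m))
    (hU : IsCyclic U) (hgU : g ∈ U)
    (hk : Nat.card U = Fintype.card F - 1 ∨ Nat.card U = Fintype.card F + 2 ^ (m + 1) + 1 ∨
      Nat.card U + 2 ^ (m + 1) = Fintype.card F + 1) : U = Tor m g := by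
  have hle : U ≤ Tor m g := by
    intro c hc
    rw [mem_Tor]
    have h := IsCyclic.commGroup.mul_comm (⟨c, hc⟩ : U) ⟨g, hgU⟩
    exact congrArg Subtype.val h
  have hcard : Nat.card U = Nat.card (Tor m g) :=
    K_dvd rfl (four_le_s' (SzField.hm F)) (two_s_le_card (F := F) (m := m))
      (even_card (F := F) (m := m)) hk hg.card (Subgroup.card_dvd_of_le hle)
  exact Subgroup.eq_of_le_of_card_ge hle hcard.ge

theorem partition (g : Cfsg.Sz F m) (hg : g ≠ 1) :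
    ∃! U : Subgroup (Cfsg.Sz F m), ((∃ P : Sylow 2 (Cfsg.Sz F m), U = (P : Subgroup (Cfsg.Sz F m))) ∨
      (IsCyclic U ∧ (Nat.card U = Fintype.card F - 1 ∨ Nat.card U = Fintype.card F + 2 ^ (m + 1) + 1 ∨
      Nat.card U + 2 ^ (m + 1) = Fintype.card F + 1))) ∧ g ∈ U := by
  by_cases hQ : g ∈ cl (Qsub F m)
  · obtain ⟨P, hP⟩ := (mem_cl_Q_iff hg).1 hQ
    refine ⟨P, ⟨Or.inl ⟨P, rfl⟩, hP⟩, ?_⟩
    rintro U ⟨⟨P', rfl⟩ | ⟨hcyc, hk⟩, hgU⟩
    · rw [sylow_two_unique hg hP hgU]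
    · exfalso
      have h4 := pow_eq_one_of_mem_cl hQ (pow_four_of_mem_Q m)
      have h5 : g ^ Nat.card U = 1 := congrArg Subtype.val (pow_card_eq_one' (G := U) (x := ⟨g, hgU⟩))
      have hodd : ¬ 2 ∣ Nat.card U := by
        obtain ⟨u, hu⟩ := even_card (F := F) (m := m)
        obtain ⟨v, hv⟩ : 2 ∣ 2 ^ (m + 1) := dvd_pow_self 2 (by omega)
        have h3 := s_le_card (F := F) (m := m)
        rcases hk with h | h | h <;> omega
      have hcop : Nat.Coprime 4 (Nat.card U) := by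
        have h2 : Nat.Coprime 2 (Nat.card U) := (Nat.Prime.coprime_iff_not_dvd Nat.prime_two).2 hodd
        exact Nat.Coprime.pow_left 2 h2
      have h8 : orderOf g = 1 := Nat.eq_one_of_dvd_coprimes hcop (orderOf_dvd_of_pow_eq_one h4)
        (orderOf_dvd_of_pow_eq_one h5)
      exact hg (orderOf_eq_one_iff.1 h8)
  · have hO : OddT g := ⟨hg, hQ⟩
    refine ⟨Tor m g, ⟨Or.inr ⟨hO.isCyclic, hO.card⟩, self_mem_Tor g⟩, ?_⟩
    rintro U ⟨⟨P', rfl⟩ | ⟨hcyc, hk⟩, hgU⟩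
    · exact absurd ((mem_cl_Q_iff hg).2 ⟨P', hgU⟩) hQ
    · exact eq_Tor_of_cyclic hO U hcyc hgU hk

end Cfsg.Agent.Lib.Helper37.Suz
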