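import Cfsg.Agent.Lib.Helper37.Suzuki.Simple

/-!
# Fixed points of translations; real 2-elements; Sylow 2-subgroups as conjugates of `Q`
-/

set_option autoImplicit false

namespace Cfsg.Agent.Lib.Helper37.Suz

open Matrix
open scoped LinearAlgebra.Projectivization Pointwise

variable {F : Type*} [Field F] [Fintype F] (m : ℕ) [SzField F m]

/-- a non-trivial translation fixes only `∞` -/
theorem T_fix {a b : F} (h : ¬ (a = 0 ∧ b = 0)) {p : ℙ F (Fin 4 → F)} (hp : p ∈ Cfsg.suzukiOvoid F m)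
    (hfix : T m a b • p = p) : p = inf := by
  rcases (mem_ovoid_iff m p).1 hp with rfl | ⟨x, y, rfl⟩
  · rfl
  · exfalso
    rw [T_smul_pt] at hfix
    obtain ⟨h1, h2⟩ := pt_injective m hfix
    have ha : a = 0 := by simpa using h1
    subst ha
    apply h
    refine ⟨rfl, ?_⟩
    simpa using h2

theorem conj_QH (c' d' : F) (k : Fˣ) (a b : F) :
    (T m c' d' * hh m k) * T m a b * (T m c' d' * hh m k)⁻¹ =
      T m (k * a) (sig m (k : F) * k * b + sig m c' * (k * a) + sig m (k * a) * c') := by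
  have e1 : (T m c' d' * hh m k) * T m a b * (T m c' d' * hh m k)⁻¹ =
      T m c' d' * (hh m k * T m a b * (hh m k)⁻¹) * (T m c' d')⁻¹ := by
    rw [_root_.mul_inv_rev]; simp only [mul_assoc]
  rw [e1, hh_conj_T, T_conj_T]

/-- elements of order 4 are not real -/
theorem not_real {a b : F} (ha : a ≠ 0) {c : Matrix.SpecialLinearGroup (Fin 4) F} (hc : c ∈ Cfsg.Sz F m) :
    c * T m a b * c⁻¹ ≠ (T m a b)⁻¹ := by
  have hchar := charTwo (F := F) m
  intro h
  have hfix : (T m a b)⁻¹ • (c • (inf : ℙ F (Fin 4 → F))) = c • inf := by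
    rw [← h, ← mul_smul, inv_mul_cancel_right, mul_smul, T_smul_inf]
  rw [T_inv] at hfix
  have hcinf := T_fix m (fun hh => ha hh.1) (smul_mem_of_mem_Sz m hc (inf_mem m)) hfix
  obtain ⟨c', d', k, rfl⟩ := inf_stab m hc hcinf
  rw [conj_QH, T_inv] at h
  obtain ⟨h1, h2⟩ := T_injective m h
  have hk : (k : F) = 1 := by
    have : (k : F) * a = 1 * a := by rw [h1, one_mul]
    exact mul_right_cancel₀ ha this
  rw [hk] at h2
  simp only [sig_one, one_mul] at h2
  have hsa := sig_ne_zero m ha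
  apply sig_add_self_add_one_ne_zero m (c' / a)
  rw [sig_div]
  have h3 : sig m c' * a + sig m a * c' = sig m a * a := by
    have : b + (sig m c' * a + sig m a * c') = b + sig m a * a := by rw [← h2]; ring
    exact add_left_cancel this
  field_simp
  have h4 : sig m c' * a + sig m a * c' + sig m a * a = 0 := by rw [h3, add_self']
  linear_combination h4

/-- every Sylow 2-subgroup is a conjugate of `Q` -/
theorem exists_conj_mem_Q (P : Sylow 2 (Cfsg.Sz F m)) :
    ∃ x : Cfsg.Sz F m, ∀ g : Cfsg.Sz F m, g ∈ P ↔ x⁻¹ * g * x ∈ Qsub F m := by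
  obtain ⟨x, hx⟩ := MulAction.exists_smul_eq (Cfsg.Sz F m) (QSylow F m) P
  refine ⟨x, fun g => ?_⟩
  rw [← hx]
  show g ∈ ((x • QSylow F m : Sylow 2 (Cfsg.Sz F m)) : Subgroup (Cfsg.Sz F m)) ↔ _
  rw [Sylow.coe_subgroup_smul, Subgroup.mem_pointwise_smul_iff_inv_smul_mem, coe_QSylow]
  simp [MulAut.smul_def, MulAut.conj_inv_apply]

theorem real_iff (P : Sylow 2 (Cfsg.Sz F m)) (g : Cfsg.Sz F m) (hg : g ∈ P) (h1 : g ≠ 1) :
    IsConj g g⁻¹ ↔ orderOf g = 2 := by
  constructor
  · intro hconj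
    obtain ⟨x, hx⟩ := exists_conj_mem_Q m P
    obtain ⟨a, b, hab⟩ := (hx g).1 hg
    have hg' : g = x * TS m a b * x⁻¹ := by rw [← hab]; group
    by_cases ha : a = 0
    · subst ha
      apply orderOf_eq_prime
      · rw [hg', conj_pow, pow_two, TS_mul]
        have := charTwo (F := F) m
        simp [add_self', TS_zero]
      · exact h1
    · exfalso
      rw [isConj_iff] at hconj
      obtain ⟨c, hc⟩ := hconj
      apply not_real m (b := b) ha (x⁻¹ * c * x).2
      have h2 : (x⁻¹ * c * x) * TS m a b * (x⁻¹ * c * x)⁻¹ = (TS m a b)⁻¹ := by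
        have h3 : TS m a b = x⁻¹ * g * x := hab.symm
        rw [h3]
        have h4 : x⁻¹ * c * x * (x⁻¹ * g * x) * (x⁻¹ * c * x)⁻¹ = x⁻¹ * (c * g * c⁻¹) * x := by group
        rw [h4, hc]
        group
      exact congrArg Subtype.val h2
  · intro h
    have h2 : g ^ 2 = 1 := by rw [← h]; exact pow_orderOf_eq_one g
    have h3 : g⁻¹ = g := by
      rw [inv_eq_iff_mul_eq_one, ← pow_two, h2]
    rw [h3]

end Cfsg.Agent.Lib.Helper37.Suz
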