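import Cfsg.Agent.Lib.Helper37.Suzuki.SzMap
import Cfsg.Agent.Lib.Helper37.Suzuki.Multiplier

/-!
# Rigidity of embeddings of Suzuki groups, part 1: normalisation on the Borel subgroup
-/

set_option autoImplicit false

namespace Cfsg.Agent.Lib.Helper37.Suz

open Matrix
open scoped LinearAlgebra.Projectivization

variable {K : Type*} [Field K] [Fintype K] {k : ℕ} [SzField K k]
variable {F : Type*} [Field F] [Fintype F] {m : ℕ} [SzField F m]

/-- conjugate of a homomorphism -/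
def cj (c : Cfsg.Sz F m) (α : Cfsg.Sz K k →* Cfsg.Sz F m) : Cfsg.Sz K k →* Cfsg.Sz F m :=
  (MulAut.conj c).toMonoidHom.comp α

theorem cj_apply (c : Cfsg.Sz F m) (α : Cfsg.Sz K k →* Cfsg.Sz F m) (x : Cfsg.Sz K k) :
    cj c α x = c * α x * c⁻¹ := rfl

theorem cj_injective (c : Cfsg.Sz F m) {α : Cfsg.Sz K k →* Cfsg.Sz F m}
    (hα : Function.Injective α) : Function.Injective (cj c α) :=
  (MulAut.conj c).injective.comp hα

/-- `α` is standard up to conjugacy -/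
def Std (α : Cfsg.Sz K k →* Cfsg.Sz F m) : Prop :=
  ∃ (ι : K →+* F) (hι : Compat k m ι) (g : Cfsg.Sz F m), ∀ x, α x = g * szMap ι hι x * g⁻¹

theorem Std.of_cj {c : Cfsg.Sz F m} {α : Cfsg.Sz K k →* Cfsg.Sz F m} (h : Std (cj c α)) :
    Std α := by
  obtain ⟨ι, hι, g, hg⟩ := h
  refine ⟨ι, hι, c⁻¹ * g, fun x => ?_⟩
  have := hg x
  rw [cj_apply] at this
  calc α x = c⁻¹ * (c * α x * c⁻¹) * c := by group
    _ = c⁻¹ * g * szMap ι hι x * (c⁻¹ * g)⁻¹ := by rw [this]; group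

/-- `α` maps `Q` into `Q` -/
def MapsQ (α : Cfsg.Sz K k →* Cfsg.Sz F m) : Prop := ∀ a b, ∃ a' b', α (TS k a b) = TS m a' b'

/-- `α` maps `H` into `H` -/
def MapsH (α : Cfsg.Sz K k →* Cfsg.Sz F m) : Prop := ∀ l, ∃ l', α (hS k l) = hS m l'

theorem exists_cj_mapsQ (α : Cfsg.Sz K k →* Cfsg.Sz F m) : ∃ c, MapsQ (cj c α) := by
  have hP : IsPGroup 2 ((Qsub K k).map α) := (isPGroup_Qsub k).map α
  have hidx : ¬ 2 ∣ (Qsub F m).index := by
    have := (QSylow F m).not_dvd_index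
    rwa [coe_QSylow] at this
  obtain ⟨x, hx⟩ := exists_conj_le (Qsub F m) _ hP hidx
  refine ⟨x⁻¹, fun a b => ?_⟩
  have := hx (α (TS k a b)) ⟨_, TS_mem k a b, rfl⟩
  rw [cj_apply, inv_inv]
  exact this

theorem TS_ne_one {a b : F} (h : ¬ (a = 0 ∧ b = 0)) : TS m a b ≠ 1 := by
  intro h1
  rw [← TS_zero m] at h1
  exact h (TS_injective m h1)

theorem fix_inf_of_mapsQ {α : Cfsg.Sz K k →* Cfsg.Sz F m} (hα : Function.Injective α)
    (hQ : MapsQ α) (l : Kˣ) : (α (hS k l)).1 • (inf : ℙ F (Fin 4 → F)) = inf := by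
  obtain ⟨a1, b1, h1⟩ := hQ 1 0
  obtain ⟨a2, b2, h2⟩ := hQ (l * 1) (sig k (l : K) * l * 0)
  have hne : ¬ (a2 = 0 ∧ b2 = 0) := by
    rintro ⟨rfl, rfl⟩
    rw [TS_zero, ← map_one α] at h2
    have := hα h2
    rw [← TS_zero k] at this
    have h3 := (TS_injective k this).1
    simp at h3
  have hconj : α (hS k l) * TS m a1 b1 * (α (hS k l))⁻¹ = TS m a2 b2 := by
    rw [← h1, ← map_inv, ← map_mul, ← map_mul, hS_conj_TS, h2]
  apply T_fix m hne (smul_mem_of_mem_Sz m (α (hS k l)).2 (inf_mem m))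
  have h3 : T m a2 b2 = (α (hS k l)).1 * T m a1 b1 * (α (hS k l)).1⁻¹ :=
    (congrArg Subtype.val hconj).symm
  rw [h3, ← mul_smul, inv_mul_cancel_right, mul_smul, T_smul_inf]

theorem hS_ne_one {l : Fˣ} (hl : l ≠ 1) : hS m l ≠ 1 := by
  intro h
  apply hl
  apply hSHom_injective m
  rw [map_one]
  exact h

theorem hS_pow_four_ne_one {l : Fˣ} (hl : l ≠ 1) : hS m l ^ 4 ≠ 1 := by
  have := charTwo (F := F) m
  intro h
  have h1 : hSHom m (l ^ 4) = 1 := by rw [map_pow]; exact h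
  have h2 : l ^ 4 = 1 := hSHom_injective m (by rw [h1, map_one])
  apply hl
  apply Units.ext
  apply pow_four_eq_one
  have := congrArg Units.val h2
  simpa using this

theorem TS_pow_four (a b : F) : TS m a b ^ 4 = 1 := congrArg Subtype.val (TQ_pow_four m a b)

theorem exists_cj_mapsH {α : Cfsg.Sz K k →* Cfsg.Sz F m} (hα : Function.Injective α)
    (hQ : MapsQ α) : ∃ c, MapsQ (cj c α) ∧ MapsH (cj c α) := by
  have := charTwo (F := F) m
  have h2 : (2 : F) = 0 := two_eq_zero'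
  obtain ⟨l0, hl0⟩ := exists_unit_ne_one (F := K) k
  obtain ⟨a0, b0, c0, h0⟩ := inf_stab m (α (hS k l0)).2 (fix_inf_of_mapsQ hα hQ l0)
  have hc0 : c0 ≠ 1 := by
    rintro rfl
    rw [hh_one, mul_one] at h0
    have h0' : α (hS k l0) = TS m a0 b0 := Subtype.ext h0
    apply hS_pow_four_ne_one (m := k) hl0
    apply hα
    rw [map_pow, h0', TS_pow_four, map_one]
  have hd1 := unit_add_one_ne_zero m hc0
  have hd2 := sig_unit_mul_add_one_ne_zero m hc0
  obtain ⟨x, hx⟩ : ∃ x : F, (c0 + 1) * x = a0 := ⟨a0 / (c0 + 1), by field_simp⟩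
  obtain ⟨y, hy⟩ : ∃ y : F, (sig m (c0 : F) * c0 + 1) * y = b0 + sig m a0 * (c0 * x) :=
    ⟨(b0 + sig m a0 * (c0 * x)) / (sig m (c0 : F) * c0 + 1), by field_simp⟩
  have hfix : (α (hS k l0)).1 • pt m x y = pt m x y := by
    rw [h0, mul_smul, hh_smul_pt, T_smul_pt]
    congr 1
    · linear_combination -hx + (c0 * x) * h2
    · linear_combination -hy + (sig m (c0 : F) * c0 * y) * h2
  let c : Cfsg.Sz F m := (TS m x y)⁻¹
  have hcQ : MapsQ (cj c α) := by
    intro a b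
    obtain ⟨a', b', h⟩ := hQ a b
    have : cj c α (TS k a b) ∈ Qsub F m := by
      rw [cj_apply, h]
      exact mul_mem (mul_mem (inv_mem (TS_mem m x y)) (TS_mem m a' b')) (inv_mem (inv_mem (TS_mem m x y)))
    exact this
  have hc1 : (cj c α (hS k l0)).1 • (inf : ℙ F (Fin 4 → F)) = inf :=
    fix_inf_of_mapsQ (cj_injective c hα) hcQ l0
  have hc2 : (cj c α (hS k l0)).1 • pt m (0 : F) 0 = pt m 0 0 := by
    have e : (cj c α (hS k l0)).1 = (T m x y)⁻¹ * (α (hS k l0)).1 * T m x y := by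
      rw [cj_apply]
      simp [c, TS]
    rw [e, mul_smul, mul_smul, T_smul_zero, hfix, inv_smul_eq_iff, T_smul_zero]
  obtain ⟨c1, hc1'⟩ := two_point_stab m (cj c α (hS k l0)).2 hc1 hc2
  have hc1ne : c1 ≠ 1 := by
    rintro rfl
    rw [hh_one] at hc1'
    have : cj c α (hS k l0) = 1 := Subtype.ext hc1'
    rw [← map_one (cj c α)] at this
    exact hS_ne_one hl0 (cj_injective c hα this)
  refine ⟨c, hcQ, fun l => ?_⟩
  have hcomm : hh m c1 * (cj c α (hS k l)).1 = (cj c α (hS k l)).1 * hh m c1 := by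
    rw [← hc1']
    have h3 : hS k l0 * hS k l = hS k l * hS k l0 := by
      show hSHom k l0 * hSHom k l = hSHom k l * hSHom k l0
      rw [← map_mul, ← map_mul, mul_comm]
    have h4 := congrArg (cj c α) h3
    rw [map_mul, map_mul] at h4
    exact congrArg Subtype.val h4
  obtain ⟨l', hl'⟩ := centralizer_hh m hc1ne (cj c α (hS k l)).2 hcomm
  exact ⟨l', Subtype.ext hl'⟩

theorem exists_cj_one {α : Cfsg.Sz K k →* Cfsg.Sz F m} (hα : Function.Injective α)
    (hQ : MapsQ α) (hH : MapsH α) :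
    ∃ c, MapsQ (cj c α) ∧ MapsH (cj c α) ∧ ∃ b1, cj c α (TS k 1 0) = TS m 1 b1 := by
  have := charTwo (F := F) m
  have := charTwo (F := K) k
  obtain ⟨a1, b1, h1⟩ := hQ 1 0
  have ha1 : a1 ≠ 0 := by
    rintro rfl
    have h3 : α (TS k 1 0 * TS k 1 0) = 1 := by
      rw [map_mul, h1, TS_mul_zero, add_self', TS_zero]
    rw [← map_one α] at h3
    have h4 := hα h3
    rw [TS_mul, ← TS_zero k] at h4
    have := (TS_injective k h4).2
    simp at this
  let u : Fˣ := Units.mk0 a1 ha1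
  refine ⟨hS m u⁻¹, ?_, ?_, ?_⟩
  · intro a b
    obtain ⟨a', b', h⟩ := hQ a b
    exact ⟨_, _, by rw [cj_apply, h, hS_conj_TS]⟩
  · intro l
    obtain ⟨l', h⟩ := hH l
    refine ⟨l', ?_⟩
    rw [cj_apply, h]
    show hSHom m u⁻¹ * hSHom m l' * (hSHom m u⁻¹)⁻¹ = hSHom m l'
    rw [← map_inv, ← map_mul, ← map_mul]
    congr 1
    rw [mul_comm, inv_inv, mul_inv_cancel_left]
  · refine ⟨sig m ((u⁻¹ : Fˣ) : F) * (u⁻¹ : Fˣ) * b1, ?_⟩
    rw [cj_apply, h1, hS_conj_TS]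
    congr 1
    simp [u]
    exact inv_mul_cancel₀ ha1

end Cfsg.Agent.Lib.Helper37.Suz
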