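import Cfsg.Agent.Lib.Helper37.Suzuki.Rigid1

/-!
# Rigidity of embeddings of Suzuki groups, part 2
-/

set_option autoImplicit false

namespace Cfsg.Agent.Lib.Helper37.Suz

open Matrix
open scoped LinearAlgebra.Projectivization

variable {K : Type*} [Field K] [Fintype K] {k : ℕ} [SzField K k]
variable {F : Type*} [Field F] [Fintype F] {m : ℕ} [SzField F m]

/-- on the Borel subgroup a normalised embedding is induced by a field embedding -/
theorem exists_field_hom (hcompat : ∀ ι : K →+* F, Compat k m ι)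
    {α : Cfsg.Sz K k →* Cfsg.Sz F m} (hα : Function.Injective α)
    (hQ : MapsQ α) (hH : MapsH α) {b1 : F} (h1 : α (TS k 1 0) = TS m 1 b1) :
    ∃ ι : K →+* F, (∀ a b, α (TS k a b) = TS m (ι a) (ι b)) ∧
      ∀ l, α (hS k l) = hS m (Units.map (ι : K →* F) l) := by
  have hF2 := charTwo (F := F) m
  have hK2 := charTwo (F := K) k
  choose A B hAB using hQ
  choose τ hτ using hH
  have P1 : ∀ a b c d, A (a + c) (b + d + sig k a * c) = A a b + A c d ∧
      B (a + c) (b + d + sig k a * c) = B a b + B c d + sig m (A a b) * A c d := by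
    intro a b c d
    have h := congrArg α (TS_mul k a b c d)
    rw [map_mul, hAB, hAB, hAB, TS_mul] at h
    exact TS_injective m h.symm
  have P2 : ∀ (l : Kˣ) a b, A (l * a) (sig k (l : K) * l * b) = τ l * A a b ∧
      B (l * a) (sig k (l : K) * l * b) = sig m (τ l : F) * τ l * B a b := by
    intro l a b
    have h := congrArg α (hS_conj_TS k l a b)
    rw [map_mul, map_mul, map_inv, hAB, hAB, hτ, hS_conj_TS] at h
    exact TS_injective m h.symm
  have hA1 : A 1 0 = 1 := by
    have := h1
    rw [hAB] at this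
    exact (TS_injective m this).1
  -- A 0 b = 0
  have hA0 : ∀ b, A 0 b = 0 := by
    intro b
    obtain ⟨a', ha'⟩ := sig_mul_self_surjective (F := K) k b
    have := (P1 a' 0 a' 0).1
    simp only [add_self', add_zero, zero_add] at this
    simp only at ha'
    rw [ha'] at this
    exact this
  have hAg : ∀ a b, A a b = A a 0 := by
    intro a b
    have := (P1 a 0 0 b).1
    simp only [add_zero, zero_add, mul_zero, hA0] at this
    exact this
  have gadd : ∀ a c, A (a + c) 0 = A a 0 + A c 0 := by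
    intro a c
    have := (P1 a 0 c 0).1
    rw [hAg] at this
    exact this
  have g0 : A 0 0 = 0 := hA0 0
  have gτ : ∀ (l : Kˣ) a, A (l * a) 0 = τ l * A a 0 := by
    intro l a
    have := (P2 l a 0).1
    rw [mul_zero] at this
    exact this
  have gτ1 : ∀ l : Kˣ, A l 0 = τ l := by
    intro l
    have := gτ l 1
    rwa [mul_one, hA1, mul_one] at this
  have gmul : ∀ a c, A (a * c) 0 = A a 0 * A c 0 := by
    intro a c
    by_cases ha : a = 0
    · subst ha; rw [zero_mul, g0, zero_mul]
    · have := gτ (Units.mk0 a ha) c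
      rw [← gτ1] at this
      exact this
  let ι : K →+* F :=
    { toFun := fun a => A a 0
      map_one' := hA1
      map_mul' := gmul
      map_zero' := g0
      map_add' := gadd }
  have hιA : ∀ a, ι a = A a 0 := fun a => rfl
  have hι := hcompat ι
  -- f = ι
  have hf : ∀ b, B 0 b = ι b := by
    intro b
    obtain ⟨a', ha'⟩ := sig_mul_self_surjective (F := K) k b
    have := (P1 a' 0 a' 0).2
    simp only [add_self', add_zero, zero_add] at this
    simp only at ha'
    rw [ha', ← hιA, ← hι, ← map_mul, ha'] at this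
    exact this
  have hBsplit : ∀ a b, B a b = B a 0 + ι b := by
    intro a b
    have := (P1 a 0 0 b).2
    simp only [add_zero, zero_add, mul_zero, hA0, hf] at this
    exact this
  have βadd : ∀ a c, B (a + c) 0 = B a 0 + B c 0 := by
    intro a c
    have := (P1 a 0 c 0).2
    rw [hBsplit, add_zero, zero_add, map_mul, hι, ← hιA, ← hιA] at this
    exact add_right_cancel this
  have βτ : ∀ l : Kˣ, B l 0 = sig m (ι l) * ι l * B 1 0 := by
    intro l
    have := (P2 l 1 0).2
    rw [mul_one, mul_zero, ← gτ1, ← hιA] at this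
    exact this
  have β1 : B 1 0 = 0 := by
    obtain ⟨l, hl0, hl1⟩ := exists_ne_zero_one (F := K) k
    have hl1' : 1 + l ≠ 0 := fun h => hl1 (CharTwo.add_eq_zero.1 h).symm
    have e1 := βτ (Units.mk0 l hl0)
    have e2 := βτ (Units.mk0 (1 + l) hl1')
    have e3 := βadd 1 l
    simp only [Units.val_mk0] at e1 e2
    rw [e1, e2, map_add, map_one, sig_add, sig_one] at e3
    have h2 : (2 : F) = 0 := two_eq_zero'
    have e4 : (sig m (ι l) + ι l) * B 1 0 = 0 := by
      linear_combination e3
    rcases mul_eq_zero.1 e4 with h | h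
    · exfalso
      have h5 : sig m (ι l) = ι l := CharTwo.add_eq_zero.1 h
      rcases (sig_eq_self_iff m _).1 h5 with h6 | h6
      · exact hl0 (ι.injective (by rw [h6, map_zero]))
      · exact hl1 (ι.injective (by rw [h6, map_one]))
    · exact h
  have β0 : ∀ a, B a 0 = 0 := by
    intro a
    by_cases ha : a = 0
    · subst ha
      rw [hf, map_zero]
    · have := βτ (Units.mk0 a ha)
      rw [β1, mul_zero] at this
      exact this
  refine ⟨ι, ?_, ?_⟩
  · intro a b
    rw [hAB, hAg, hBsplit, β0, zero_add]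
    rfl
  · intro l
    rw [hτ]
    congr 1
    apply Units.ext
    rw [← gτ1]
    rfl

theorem wS_conj_hS (l : Fˣ) : wS m * hS m l * (wS m)⁻¹ = hS m l⁻¹ := by
  apply Subtype.ext
  show w * hh m l * w⁻¹ = hh m l⁻¹
  rw [w_mul_hh, mul_inv_cancel_right]

/-- the image of `w` -/
theorem map_wS_eq {α : Cfsg.Sz K k →* Cfsg.Sz F m} (hα : Function.Injective α) (ι : K →+* F)
    (hT : ∀ a b, α (TS k a b) = TS m (ι a) (ι b))
    (hh' : ∀ l, α (hS k l) = hS m (Units.map (ι : K →* F) l)) : α (wS k) = wS m := by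
  have hF2 := charTwo (F := F) m
  have hK2 := charTwo (F := K) k
  obtain ⟨l0, hl0⟩ := exists_unit_ne_one (F := K) k
  set y := α (wS k) with hy
  have hτ0 : Units.map (ι : K →* F) l0 ≠ 1 := by
    intro h
    apply hl0
    apply Units.ext
    apply ι.injective
    have := congrArg Units.val h
    simpa using this
  have hτ0' : (Units.map (ι : K →* F) l0)⁻¹ ≠ 1 := fun h => hτ0 (inv_eq_one.1 h)
  have hconj : y * hS m (Units.map (ι : K →* F) l0) * y⁻¹ = hS m (Units.map (ι : K →* F) l0)⁻¹ := by
    rw [hy, ← hh', ← map_inv, ← map_mul, ← map_mul, wS_conj_hS, hh', map_inv]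
  have hconj' : hh m (Units.map (ι : K →* F) l0)⁻¹ = y.1 * hh m (Units.map (ι : K →* F) l0) * y.1⁻¹ :=
    (congrArg Subtype.val hconj).symm
  have hfix1 : hh m (Units.map (ι : K →* F) l0)⁻¹ • (y.1 • (inf : ℙ F (Fin 4 → F))) = y.1 • inf := by
    rw [hconj', ← mul_smul, inv_mul_cancel_right, mul_smul, hh_smul_inf]
  have hfix2 : hh m (Units.map (ι : K →* F) l0)⁻¹ • (y.1 • pt m (0 : F) 0) = y.1 • pt m 0 0 := by
    rw [hconj', ← mul_smul, inv_mul_cancel_right, mul_smul, hh_smul_pt]; simp
  have c1 := (hh_fix_iff m hτ0' (smul_mem_of_mem_Sz m y.2 (inf_mem m))).1 hfix1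
  have c2 := (hh_fix_iff m hτ0' (smul_mem_of_mem_Sz m y.2 (pt_mem m 0 0))).1 hfix2
  have hne : y.1 • (inf : ℙ F (Fin 4 → F)) ≠ y.1 • pt m 0 0 := fun h =>
    pt_ne_inf m 0 0 (smul_left_cancel y.1 h).symm
  have hinf : y.1 • (inf : ℙ F (Fin 4 → F)) = pt m 0 0 := by
    rcases c1 with c1 | c1
    · exfalso
      have c2' : y.1 • pt m (0 : F) 0 = pt m 0 0 := by
        rcases c2 with c2 | c2
        · exact absurd (c1.trans c2.symm) hne
        · exact c2
      obtain ⟨c, hc⟩ := two_point_stab m y.2 c1 c2'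
      rw [hc, hh_inv, ← hh_mul, ← hh_mul] at hconj'
      have := hh_injective m hconj'
      rw [mul_comm c, mul_inv_cancel_right] at this
      exact hτ0 (unit_sq_eq_one m this)
    · exact c1
  have hzero : y.1 • pt m (0 : F) 0 = inf := by
    rcases c2 with c2 | c2
    · exact c2
    · exact absurd (hinf.trans c2.symm) hne
  obtain ⟨c, hc⟩ := two_point_stab m (mul_mem (w_mem m) y.2)
    (by rw [mul_smul, hinf, w_smul_zero]) (by rw [mul_smul, hzero, w_smul_inf m])
  have hyc : y.1 = w * hh m c := by rw [← hc, ← mul_assoc, w_mul_w, one_mul]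
  -- the relation `w T(1,0) w = T(0,1) w T(c',d') h(e)`
  have hrel : ∃ (c' d' : K) (e : Kˣ),
      wS k * TS k 1 0 * wS k = TS k 0 1 * wS k * (TS k c' d' * hS k e) := by
    rcases normal_form_S (wS k * TS k (1 : K) 0 * wS k) with ⟨a, b, l, h⟩ | ⟨a, b, c', d', e, h⟩
    · exfalso
      have h3 := congrArg (fun g : Cfsg.Sz K k => g.1 • (inf : ℙ K (Fin 4 → K))) h
      simp only [wS, TS, hS, Subgroup.coe_mul, mul_smul, hh_smul_inf, T_smul_inf, w_smul_inf k,
        T_smul_zero] at h3
      rw [w_smul_pt k 1 0 (by simp [ff])] at h3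
      exact pt_ne_inf k _ _ h3
    · have h3 := congrArg (fun g : Cfsg.Sz K k => g.1 • (inf : ℙ K (Fin 4 → K))) h
      simp only [wS, TS, hS, Subgroup.coe_mul, mul_smul, hh_smul_inf, T_smul_inf, w_smul_inf k,
        T_smul_zero] at h3
      rw [w_smul_pt k 1 0 (by simp [ff])] at h3
      obtain ⟨ha, hb⟩ := pt_injective k h3
      simp [ff] at ha hb
      exact ⟨c', d', e, by rw [h, ← ha, ← hb]⟩
  obtain ⟨c', d', e, hrel⟩ := hrel
  have hrel2 := congrArg α hrel
  simp only [map_mul, hT, hh', map_one, map_zero, ← hy] at hrel2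
  have h3 := congrArg (fun g : Cfsg.Sz F m => g.1 • (inf : ℙ F (Fin 4 → F))) hrel2
  simp only [TS, hS, Subgroup.coe_mul, mul_smul, hh_smul_inf, T_smul_inf, hinf, T_smul_zero] at h3
  rw [hyc, mul_smul, hh_smul_pt, mul_one, mul_zero] at h3
  have hcne : (c : F) ≠ 0 := c.ne_zero
  have hff : ff m (c : F) 0 = sig m (c : F) * c ^ 2 := by simp [ff]
  have hffne : ff m (c : F) 0 ≠ 0 := by
    rw [hff]; exact mul_ne_zero (sig_ne_zero m hcne) (pow_ne_zero _ hcne)
  rw [w_smul_pt m _ _ hffne, hff] at h3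
  have h4 := (pt_injective m h3).2
  have h5 : sig m (c : F) * c = 1 := by
    have hs := sig_ne_zero m hcne
    field_simp at h4
    linear_combination -h4
  have h6 : (c : F) = 1 := by
    apply sig_mul_self_injective m
    simp only [sig_one, mul_one]
    exact h5
  have h7 : c = 1 := Units.ext h6
  apply Subtype.ext
  rw [hyc, h7, hh_one, mul_one]
  rfl

/-- **Rigidity**: an injective homomorphism between Suzuki groups is conjugate to the embedding
induced by a field embedding. -/
theorem rigid (hcompat : ∀ ι : K →+* F, Compat k m ι) (α : Cfsg.Sz K k →* Cfsg.Sz F m)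
    (hα : Function.Injective α) : Std α := by
  obtain ⟨c1, hQ1⟩ := exists_cj_mapsQ α
  apply Std.of_cj (c := c1)
  have hα1 := cj_injective c1 hα
  obtain ⟨c2, hQ2, hH2⟩ := exists_cj_mapsH hα1 hQ1
  apply Std.of_cj (c := c2)
  have hα2 := cj_injective c2 hα1
  obtain ⟨c3, hQ3, hH3, b1, h1⟩ := exists_cj_one hα2 hQ2 hH2
  apply Std.of_cj (c := c3)
  have hα3 := cj_injective c3 hα2
  obtain ⟨ι, hT, hh'⟩ := exists_field_hom hcompat hα3 hQ3 hH3 h1
  have hw := map_wS_eq hα3 ι hT hh'
  refine ⟨ι, hcompat ι, 1, fun x => ?_⟩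
  rw [one_mul, inv_one, mul_one]
  have : cj c3 (cj c2 (cj c1 α)) = szMap ι (hcompat ι) := by
    apply hom_ext
    · intro a b; rw [hT, szMap_TS]
    · intro l; rw [hh', szMap_hS]
    · rw [hw, szMap_wS]
  rw [this]

end Cfsg.Agent.Lib.Helper37.Suz
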