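import Cfsg.Agent.Lib.Helper37.Suzuki.Rigid2

/-!
# Rigidity of embeddings of Suzuki groups, part 3: field embeddings
-/

set_option autoImplicit false

namespace Cfsg.Agent.Lib.Helper37.Suz

open Matrix
open scoped LinearAlgebra.Projectivization

variable {K : Type*} [Field K] [Fintype K] {k : ℕ} [SzField K k]
variable {F : Type*} [Field F] [Fintype F] {m : ℕ} [SzField F m]

theorem szMap_injective (ι : K →+* F) (hι : Compat k m ι) : Function.Injective (szMap ι hι) := by
  intro x y h
  have h1 : Matrix.SpecialLinearGroup.map ι x.1 = Matrix.SpecialLinearGroup.map ι y.1 :=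
    congrArg Subtype.val h
  apply Subtype.ext
  ext i j
  have h2 := congrArg (fun g : Matrix.SpecialLinearGroup (Fin 4) F => g.1 i j) h1
  simp only [Matrix.SpecialLinearGroup.map_apply_coe, RingHom.mapMatrix_apply, Matrix.map_apply] at h2
  exact ι.injective h2

omit [Fintype F] [SzField F m] in
theorem compat_of_dvd (hdiv : 2 * k + 1 ∣ 2 * m + 1) (ι : K →+* F) : Compat k m ι := by
  intro x
  obtain ⟨c, hc⟩ := hdiv
  obtain ⟨j, rfl⟩ : ∃ j, c = 2 * j + 1 := by
    rcases Nat.even_or_odd' c with ⟨j, rfl | rfl⟩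
    · exfalso
      have : 2 * m + 1 = 2 * ((2 * k + 1) * j) := by rw [hc]; ring
      omega
    · exact ⟨j, rfl⟩
  have hm : m + 1 = (2 * k + 1) * j + (k + 1) := by
    have : 2 * m + 1 = 2 * ((2 * k + 1) * j) + (2 * k + 1) := by rw [hc]; ring
    omega
  have hcard : Fintype.card K = 2 ^ (2 * k + 1) := SzField.card
  have h3 : x ^ 2 ^ ((2 * k + 1) * j + (k + 1)) = x ^ 2 ^ (k + 1) := by
    rw [pow_add 2, pow_mul x, pow_mul 2, ← hcard, FiniteField.pow_card_pow]
  rw [sig_def, sig_def, ← map_pow, hm, h3]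

theorem exists_ringHom (hdiv : 2 * k + 1 ∣ 2 * m + 1) : Nonempty (K →+* F) := by
  have hF2 := charTwo (F := F) m
  have hK2 := charTwo (F := K) k
  have : Fact (Nat.Prime 2) := ⟨Nat.prime_two⟩
  let _ : Algebra (ZMod 2) K := ZMod.algebra _ _
  let _ : Algebra (ZMod 2) F := ZMod.algebra _ _
  have h1 : Module.finrank (ZMod 2) K = 2 * k + 1 := by
    have := FiniteField.pow_finrank_eq_card 2 K
    rw [SzField.card (F := K) (m := k)] at this
    exact Nat.pow_right_injective (le_refl 2) this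
  have h2 : Module.finrank (ZMod 2) F = 2 * m + 1 := by
    have := FiniteField.pow_finrank_eq_card 2 F
    rw [SzField.card (F := F) (m := m)] at this
    exact Nat.pow_right_injective (le_refl 2) this
  obtain ⟨f⟩ := FiniteField.nonempty_algHom_of_finrank_dvd (F := ZMod 2) (K := K) (L := F)
    (by rw [h1, h2]; exact hdiv)
  exact ⟨f.toRingHom⟩

omit [SzField K k] [SzField F m] [Fintype F] in
/-- two embeddings of a finite field have the same image -/
theorem exists_eq_of_ringHom (ι₁ ι₂ : K →+* F) (x : K) : ∃ y, ι₁ y = ι₂ x := by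
  classical
  let R : Finset F := (Polynomial.X ^ Fintype.card K - Polynomial.X : Polynomial F).roots.toFinset
  have hne : (Polynomial.X ^ Fintype.card K - Polynomial.X : Polynomial F) ≠ 0 :=
    FiniteField.X_pow_card_sub_X_ne_zero F Fintype.one_lt_card
  have hR : R.card ≤ Fintype.card K := by
    calc R.card ≤ Multiset.card (Polynomial.X ^ Fintype.card K - Polynomial.X : Polynomial F).roots :=
          Multiset.toFinset_card_le _
      _ ≤ (Polynomial.X ^ Fintype.card K - Polynomial.X : Polynomial F).natDegree :=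
          Polynomial.card_roots' _
      _ = Fintype.card K := FiniteField.X_pow_card_sub_X_natDegree_eq F Fintype.one_lt_card
  have hmem : ∀ (ι : K →+* F) (z : K), ι z ∈ R := by
    intro ι z
    rw [Multiset.mem_toFinset, Polynomial.mem_roots hne]
    simp only [Polynomial.IsRoot, Polynomial.eval_sub, Polynomial.eval_pow, Polynomial.eval_X]
    rw [← map_pow, FiniteField.pow_card, sub_self]
  have himg : Finset.univ.image ι₁ = R := by
    apply Finset.eq_of_subset_of_card_le
    · intro y hy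
      obtain ⟨z, -, rfl⟩ := Finset.mem_image.1 hy
      exact hmem ι₁ z
    · rw [Finset.card_image_of_injective _ ι₁.injective, Finset.card_univ]
      exact hR
  have := hmem ι₂ x
  rw [← himg] at this
  obtain ⟨y, -, hy⟩ := Finset.mem_image.1 this
  exact ⟨y, hy⟩

theorem range_szMap_le (ι₁ ι₂ : K →+* F) (h₁ : Compat k m ι₁) (h₂ : Compat k m ι₂) :
    (szMap ι₂ h₂).range ≤ (szMap ι₁ h₁).range := by
  have hT : ∀ a b, szMap ι₂ h₂ (TS k a b) ∈ (szMap ι₁ h₁).range := by
    intro a b
    obtain ⟨a', ha⟩ := exists_eq_of_ringHom ι₁ ι₂ a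
    obtain ⟨b', hb⟩ := exists_eq_of_ringHom ι₁ ι₂ b
    exact ⟨TS k a' b', by rw [szMap_TS, szMap_TS, ha, hb]⟩
  have hH : ∀ l, szMap ι₂ h₂ (hS k l) ∈ (szMap ι₁ h₁).range := by
    intro l
    obtain ⟨a', ha⟩ := exists_eq_of_ringHom ι₁ ι₂ (l : K)
    have ha0 : a' ≠ 0 := by
      rintro rfl
      rw [map_zero] at ha
      exact l.ne_zero (ι₂.injective (by rw [← ha, map_zero]))
    refine ⟨hS k (Units.mk0 a' ha0), ?_⟩
    rw [szMap_hS, szMap_hS]
    congr 1
    apply Units.ext
    simpa using ha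
  have hW : szMap ι₂ h₂ (wS k) ∈ (szMap ι₁ h₁).range := ⟨wS k, by rw [szMap_wS, szMap_wS]⟩
  rintro _ ⟨g, rfl⟩
  rcases normal_form_S g with ⟨a, b, l, rfl⟩ | ⟨a, b, c, d, l, rfl⟩
  · rw [map_mul]
    exact mul_mem (hT _ _) (hH _)
  · rw [map_mul, map_mul, map_mul]
    exact mul_mem (mul_mem (hT _ _) hW) (mul_mem (hT _ _) (hH _))

theorem range_szMap_eq (ι₁ ι₂ : K →+* F) (h₁ : Compat k m ι₁) (h₂ : Compat k m ι₂) :
    (szMap ι₂ h₂).range = (szMap ι₁ h₁).range :=
  le_antisymm (range_szMap_le _ _ _ _) (range_szMap_le _ _ _ _)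

end Cfsg.Agent.Lib.Helper37.Suz
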