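import Cfsg.Agent.Lib.Helper37.Suzuki.Sylow

/-!
# Simplicity of the Suzuki group
-/

set_option autoImplicit false

namespace Cfsg.Agent.Lib.Helper37.Suz

open Matrix
open scoped LinearAlgebra.Projectivization Pointwise

variable {F : Type*} [Field F] [Fintype F] (m : ℕ) [SzField F m]

theorem T_conj_T (a b c d : F) :
    T m a b * T m c d * (T m a b)⁻¹ = T m c (d + sig m a * c + sig m c * a) := by
  have := charTwo (F := F) m
  have h2 : (2 : F) = 0 := two_eq_zero'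
  rw [T_inv, T_mul, T_mul]
  congr 1
  · grind
  · simp only [sig_add]
    grind

include m in
theorem unit_add_one_ne_zero {k : Fˣ} (hk : k ≠ 1) : (k : F) + 1 ≠ 0 := by
  have := charTwo (F := F) m
  intro h
  exact hk (Units.ext (CharTwo.add_eq_zero.1 h))

theorem sig_unit_mul_add_one_ne_zero {k : Fˣ} (hk : k ≠ 1) : sig m (k : F) * k + 1 ≠ 0 := by
  have := charTwo (F := F) m
  intro h
  have h3 : sig m (k : F) * k = 1 := CharTwo.add_eq_zero.1 h
  have h4 : (fun x : F => sig m x * x) (k : F) = (fun x : F => sig m x * x) 1 := by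
    simp [h3]
  exact hk (Units.ext (sig_mul_self_injective m h4))

/-- every element of `Q` is a commutator with a given element of `Q H` with nontrivial torus part -/
theorem exists_comm_eq (a b : F) {k : Fˣ} (hk : k ≠ 1) (c' d' : F) :
    ∃ c d : F, (T m a b * hh m k) * T m c d * (T m a b * hh m k)⁻¹ * (T m c d)⁻¹ = T m c' d' := by
  have := charTwo (F := F) m
  have h2 : (2 : F) = 0 := two_eq_zero'
  have h1 := unit_add_one_ne_zero m hk
  have h3 := sig_unit_mul_add_one_ne_zero m hk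
  have key : ∀ c d : F, (T m a b * hh m k) * T m c d * (T m a b * hh m k)⁻¹ * (T m c d)⁻¹ =
      T m ((k + 1) * c) ((sig m (k : F) * k + 1) * d +
        (sig m a * k * c + sig m (k : F) * sig m c * a + sig m c * c + sig m (k : F) * sig m c * c)) := by
    intro c d
    have e1 : (T m a b * hh m k) * T m c d * (T m a b * hh m k)⁻¹ =
        T m a b * (hh m k * T m c d * (hh m k)⁻¹) * (T m a b)⁻¹ := by
      rw [_root_.mul_inv_rev]; simp only [mul_assoc]
    rw [e1, hh_conj_T, T_conj_T, T_inv, T_mul]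
    congr 1
    · ring
    · simp only [sig_mul]
      grind
  set c := c' / ((k : F) + 1) with hc
  refine ⟨c, (d' + (sig m a * k * c + sig m (k : F) * sig m c * a + sig m c * c
    + sig m (k : F) * sig m c * c)) / (sig m (k : F) * k + 1), ?_⟩
  rw [key]
  congr 1
  · rw [hc]; field_simp
  · rw [mul_div_cancel₀ _ h3, add_assoc, add_self', add_zero]

theorem exists_hh_mul_T (k : Fˣ) (a b : F) : ∃ a' b' : F, hh m k * T m a b = T m a' b' * hh m k :=
  ⟨_, _, hh_mul_T m k a b⟩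

/-- the commutator of `n = w T h` with a torus element -/
theorem comm_torus (c d : F) (k0 l : Fˣ) :
    ∃ a b : F, (w * T m c d * hh m k0)⁻¹ * hh m l * (w * T m c d * hh m k0) * (hh m l)⁻¹
      = T m a b * hh m (l⁻¹ * l⁻¹) := by
  have e1 : (w * T m c d * hh m k0)⁻¹ * hh m l * (w * T m c d * hh m k0) * (hh m l)⁻¹ =
      (hh m k0)⁻¹ * (T m c d)⁻¹ * (w * hh m l * w) * T m c d * hh m k0 * (hh m l)⁻¹ := by
    rw [_root_.mul_inv_rev, _root_.mul_inv_rev, w_inv]; simp only [mul_assoc]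
  have e2 : (w : Matrix.SpecialLinearGroup (Fin 4) F) * hh m l * w = hh m l⁻¹ := by
    rw [w_mul_hh, mul_assoc, w_mul_w, mul_one]
  rw [e1, e2, T_inv, hh_inv, hh_inv]
  obtain ⟨a1, b1, h1⟩ := exists_hh_mul_T m l⁻¹ c d
  obtain ⟨a2, b2, h2⟩ := exists_hh_mul_T m k0⁻¹ (c + a1) (d + sig m c * c + b1 + sig m c * a1)
  refine ⟨a2, b2, ?_⟩
  calc hh m k0⁻¹ * T m c (d + sig m c * c) * hh m l⁻¹ * T m c d * hh m k0 * hh m l⁻¹
      = hh m k0⁻¹ * T m c (d + sig m c * c) * (hh m l⁻¹ * T m c d) * hh m k0 * hh m l⁻¹ := by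
        simp only [mul_assoc]
    _ = hh m k0⁻¹ * (T m c (d + sig m c * c) * T m a1 b1) * (hh m l⁻¹ * hh m k0 * hh m l⁻¹) := by
        rw [h1]; simp only [mul_assoc]
    _ = T m a2 b2 * (hh m k0⁻¹ * (hh m l⁻¹ * hh m k0 * hh m l⁻¹)) := by
        rw [T_mul, h2]; simp only [mul_assoc]
    _ = T m a2 b2 * hh m (l⁻¹ * l⁻¹) := by
        rw [← hh_mul, ← hh_mul, ← hh_mul]
        congr 2
        rw [mul_comm l⁻¹ k0, mul_assoc, inv_mul_cancel_left]

include m in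
theorem unit_inv_sq_ne_one {l : Fˣ} (hl : l ≠ 1) : l⁻¹ * l⁻¹ ≠ 1 := by
  intro h
  apply hl
  apply unit_sq_eq_one m
  have : l⁻¹ = (l⁻¹)⁻¹ := eq_inv_of_mul_eq_one_left h
  rw [inv_inv] at this
  exact this

include m in
theorem exists_unit_sq (k : Fˣ) : ∃ l : Fˣ, l⁻¹ * l⁻¹ = k := by
  have hinj : Function.Injective (fun l : Fˣ => l⁻¹ * l⁻¹) := by
    intro a b h
    simp only at h
    by_contra hab
    have h1 : a * b⁻¹ ≠ 1 := fun h => hab (mul_inv_eq_one.1 h)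
    apply unit_inv_sq_ne_one m h1
    rw [_root_.mul_inv_rev, inv_inv]
    calc b * a⁻¹ * (b * a⁻¹) = (a⁻¹ * a⁻¹) * (b * b) := by
          rw [mul_mul_mul_comm, mul_comm]
      _ = 1 := by rw [h]; simp [mul_assoc]
  exact Finite.surjective_of_injective hinj k

/-- A non-trivial subgroup of `Sz` normalised by `Sz` is everything. -/
theorem normal_aux (N : Subgroup (Matrix.SpecialLinearGroup (Fin 4) F))
    (hnorm : ∀ g ∈ Cfsg.Sz F m, ∀ x ∈ N, g * x * g⁻¹ ∈ N) (hne : ∃ x ∈ N, x ∈ Cfsg.Sz F m ∧ x ≠ 1) :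
    Cfsg.Sz F m ≤ N := by
  obtain ⟨n0, hn0, hn0S, hn01⟩ := hne
  -- a moved point
  have hmove : ∃ p ∈ Cfsg.suzukiOvoid F m, n0 • p ≠ p := by
    by_contra hcon
    push Not at hcon
    exact hn01 (faithful m hn0S hcon)
  obtain ⟨p, hp, hnp⟩ := hmove
  obtain ⟨g, hg, g1, g2⟩ := exists_smul_eq_inf_zero m hp (smul_mem_of_mem_Sz m hn0S hp) (Ne.symm hnp)
  set n := g * n0 * g⁻¹ with hn
  have hnN : n ∈ N := hnorm g hg n0 hn0
  have hnS : n ∈ Cfsg.Sz F m := mul_mem (mul_mem hg hn0S) (inv_mem hg)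
  have hninf : n • (inf : ℙ F (Fin 4 → F)) = pt m 0 0 := by
    rw [hn, mul_smul, mul_smul, ← g1, inv_smul_smul, g2]
  obtain ⟨c, d, k0, hk0⟩ := inf_stab m (mul_mem (w_mem m) hnS)
    (by rw [mul_smul, hninf, w_smul_zero])
  have hn' : n = w * T m c d * hh m k0 := by
    rw [mul_assoc, ← hk0, ← mul_assoc, w_mul_w, one_mul]
  have hx : ∀ l : Fˣ, ∃ a b : F, T m a b * hh m (l⁻¹ * l⁻¹) ∈ N := by
    intro l
    obtain ⟨a, b, hab⟩ := comm_torus m c d k0 l
    refine ⟨a, b, ?_⟩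
    rw [← hab, ← hn']
    have : n⁻¹ * hh m l * n * (hh m l)⁻¹ = n⁻¹ * (hh m l * n * (hh m l)⁻¹) := by
      simp only [mul_assoc]
    rw [this]
    exact mul_mem (inv_mem hnN) (hnorm _ (hh_mem m l) _ hnN)
  have hQ : ∀ c' d' : F, T m c' d' ∈ N := by
    intro c' d'
    obtain ⟨l, hl⟩ := exists_unit_ne_one (F := F) m
    obtain ⟨a, b, hab⟩ := hx l
    obtain ⟨c1, d1, h1⟩ := exists_comm_eq m a b (unit_inv_sq_ne_one m hl) c' d'
    rw [← h1]
    have : T m a b * hh m (l⁻¹ * l⁻¹) * T m c1 d1 * (T m a b * hh m (l⁻¹ * l⁻¹))⁻¹ * (T m c1 d1)⁻¹ =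
        T m a b * hh m (l⁻¹ * l⁻¹) * (T m c1 d1 * (T m a b * hh m (l⁻¹ * l⁻¹))⁻¹ * (T m c1 d1)⁻¹) := by
      simp only [mul_assoc]
    rw [this]
    exact mul_mem hab (hnorm _ (T_mem m c1 d1) _ (inv_mem hab))
  have hH : ∀ k : Fˣ, hh m k ∈ N := by
    intro k
    obtain ⟨l, rfl⟩ := exists_unit_sq m k
    obtain ⟨a, b, hab⟩ := hx l
    have := mul_mem (inv_mem (hQ a b)) hab
    rwa [inv_mul_cancel_left] at this
  have hw : (w : Matrix.SpecialLinearGroup (Fin 4) F) ∈ N := by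
    have h1 : w = n * (hh m k0)⁻¹ * (T m c d)⁻¹ := by
      rw [hn']; simp [mul_assoc]
    rw [h1]
    exact mul_mem (mul_mem hnN (inv_mem (hH k0))) (inv_mem (hQ c d))
  intro x hxS
  rcases normal_form m hxS with ⟨a, b, k, rfl⟩ | ⟨a, b, c, d, k, rfl⟩
  · exact mul_mem (hQ a b) (hH k)
  · exact mul_mem (mul_mem (hQ a b) hw) (mul_mem (hQ c d) (hH k))

theorem normal_eq_top (N : Subgroup (Cfsg.Sz F m)) [hN : N.Normal] (hne : N ≠ ⊥) : N = ⊤ := by
  obtain ⟨x, hx, hx1⟩ : ∃ x ∈ N, x ≠ 1 := by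
    by_contra hcon
    push Not at hcon
    exact hne ((Subgroup.eq_bot_iff_forall N).2 hcon)
  have key := normal_aux m (N.map (Cfsg.Sz F m).subtype)
    (by
      rintro g hg _ ⟨y, hy, rfl⟩
      refine ⟨(⟨g, hg⟩ : Cfsg.Sz F m) * y * (⟨g, hg⟩ : Cfsg.Sz F m)⁻¹, hN.conj_mem y hy _, ?_⟩
      simp only [map_mul, map_inv, Subgroup.subtype_apply])
    ⟨x.1, ⟨x, hx, rfl⟩, x.2, fun h => hx1 (Subtype.ext h)⟩
  rw [eq_top_iff]
  intro y _
  obtain ⟨z, hz, hzy⟩ := key y.2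
  have : z = y := Subtype.ext hzy
  rwa [← this]

theorem isSimpleGroup_Sz : IsSimpleGroup (Cfsg.Sz F m) := by
  have : Nontrivial (Cfsg.Sz F m) := by
    refine ⟨⟨wS m, 1, ?_⟩⟩
    intro h
    have h1 : (w : Matrix.SpecialLinearGroup (Fin 4) F) = 1 := congrArg Subtype.val h
    have h2 := w_smul_inf (F := F) m
    rw [h1, one_smul] at h2
    exact pt_ne_inf m 0 0 h2.symm
  refine ⟨fun N hN => ?_⟩
  by_cases h : N = ⊥
  · left; exact h
  · right; exact normal_eq_top m N h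

end Cfsg.Agent.Lib.Helper37.Suz
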