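import Cfsg.Agent.Lib.Helper37.Suzuki.SubD

/-!
# Normalisers of tori in the Suzuki groups: involutions and elements of order four
-/

set_option autoImplicit false

namespace Cfsg.Agent.Lib.Helper37.Suz

open Matrix TICount
open scoped LinearAlgebra.Projectivization

section General

theorem bipartite_count {α β : Type*} [Finite α] [Finite β] (S : Set α) (T : Set β)
    (r : α → β → Prop) (n₁ n₂ : ℕ) (h1 : ∀ a ∈ S, {b | b ∈ T ∧ r a b}.ncard = n₁)
    (h2 : ∀ b ∈ T, {a | a ∈ S ∧ r a b}.ncard = n₂) : S.ncard * n₁ = T.ncard * n₂ := by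
  classical
  have : Fintype α := Fintype.ofFinite α
  have : Fintype β := Fintype.ofFinite β
  have key := Finset.sum_card_bipartiteAbove_eq_sum_card_bipartiteBelow (s := S.toFinset)
    (t := T.toFinset) r
  have e1 : ∀ a ∈ S.toFinset, (T.toFinset.bipartiteAbove r a).card = n₁ := by
    intro a ha
    rw [← h1 a (Set.mem_toFinset.1 ha), Set.ncard_eq_toFinset_card']
    congr 1
    ext b
    simp [Finset.bipartiteAbove]
  have e2 : ∀ b ∈ T.toFinset, (S.toFinset.bipartiteBelow r b).card = n₂ := by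
    intro b hb
    rw [← h2 b (Set.mem_toFinset.1 hb), Set.ncard_eq_toFinset_card']
    congr 1
    ext a
    simp [Finset.bipartiteBelow]
  rw [Finset.sum_congr rfl e1, Finset.sum_congr rfl e2, Finset.sum_const, Finset.sum_const,
    smul_eq_mul, smul_eq_mul] at key
  rw [Set.ncard_eq_toFinset_card', Set.ncard_eq_toFinset_card']
  exact key

end General

variable {F : Type*} [Field F] [Fintype F] {m : ℕ} [SzField F m]

theorem OddT.comm {t a b : Cfsg.Sz F m} (ht : OddT t) (ha : a ∈ Tor m t) (hb : b ∈ Tor m t) :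
    a * b = b * a := by
  have := ht.isCyclic
  have h := IsCyclic.commGroup.mul_comm (⟨a, ha⟩ : Tor m t) ⟨b, hb⟩
  exact congrArg Subtype.val h

theorem OddT.odd_orderOf_of_mem {t a : Cfsg.Sz F m} (ht : OddT t) (ha : a ∈ Tor m t) :
    Odd (orderOf a) := by
  have h1 : orderOf a ∣ Nat.card (Tor m t) := by
    have := orderOf_dvd_natCard (⟨a, ha⟩ : Tor m t)
    rwa [← Subgroup.orderOf_coe] at this
  exact Odd.of_dvd_nat (Nat.odd_iff.2 (Nat.two_dvd_ne_zero.1 ht.odd_card)) h1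

theorem OddT.odd_orderOf {t : Cfsg.Sz F m} (ht : OddT t) : Odd (orderOf t) :=
  ht.odd_orderOf_of_mem (self_mem_Tor t)

theorem conj_mem_of_normalizer {G : Type*} [Group G] {A : Subgroup G} {n a : G}
    (hn : n ∈ Subgroup.normalizer (A : Set G)) (ha : a ∈ A) : n * a * n⁻¹ ∈ A :=
  (Subgroup.mem_normalizer_iff.1 hn a).1 ha

/-- an involution normalising a torus inverts it -/
theorem OddT.invol_inverts {t i y : Cfsg.Sz F m} (ht : OddT t) (hi : orderOf i = 2)
    (hiN : i ∈ Subgroup.normalizer (Tor m t : Set (Cfsg.Sz F m))) (hy : y ∈ Tor m t) :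
    i * y * i⁻¹ = y⁻¹ := by
  have hii : i * i = 1 := by rw [← pow_two, ← hi, pow_orderOf_eq_one]
  have hinv : i⁻¹ = i := inv_eq_of_mul_eq_one_left hii
  have hy' := conj_mem_of_normalizer hiN hy
  set e := y * (i * y * i⁻¹) with he
  have heT : e ∈ Tor m t := mul_mem hy hy'
  have hcomm : i * e = e * i := by
    have h1 : i * e * i⁻¹ = (i * y * i⁻¹) * y := by
      rw [he, hinv]
      have : i * (y * (i * y * i)) * i = (i * y * i) * y * (i * i) := by group
      rw [this, hii, mul_one]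
    rw [← ht.comm hy hy', ← he] at h1
    exact mul_inv_eq_iff_eq_mul.1 h1
  by_cases he1 : e = 1
  · exact (inv_eq_of_mul_eq_one_right he1).symm
  · exfalso
    obtain ⟨h1, h2⟩ := ht.Tor_eq heT he1
    have h3 : i ∈ Tor m e := mem_Tor.2 hcomm
    have h4 := h2.odd_orderOf_of_mem h3
    rw [hi] at h4
    exact absurd h4 (by decide)

theorem OddT.invol_mul_mem {t i i' : Cfsg.Sz F m} (ht : OddT t) (hi : orderOf i = 2)
    (hi' : orderOf i' = 2) (hiN : i ∈ Subgroup.normalizer (Tor m t : Set (Cfsg.Sz F m)))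
    (hiN' : i' ∈ Subgroup.normalizer (Tor m t : Set (Cfsg.Sz F m))) : i * i' ∈ Tor m t := by
  rw [mem_Tor]
  have h1 := ht.invol_inverts hi' hiN' (self_mem_Tor t)
  have h2 := ht.invol_inverts hi hiN (inv_mem (self_mem_Tor t))
  rw [inv_inv] at h2
  have h3 : i * i' * t * (i * i')⁻¹ = t := by
    have : i * i' * t * (i * i')⁻¹ = i * (i' * t * i'⁻¹) * i⁻¹ := by group
    rw [this, h1, h2]
  exact mul_inv_eq_iff_eq_mul.1 h3

theorem OddT.two_dvd_card_normalizer {t : Cfsg.Sz F m} (ht : OddT t) :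
    2 ∣ Nat.card (Subgroup.normalizer (Tor m t : Set (Cfsg.Sz F m))) := by
  rcases ht.card_normalizer with h | h
  · rw [h]; exact Dvd.intro _ rfl
  · rw [h]; exact ⟨2 * Nat.card (Tor m t), by ring⟩

/-- the number of involutions in the normaliser of a torus -/
theorem OddT.ncard_invol {t : Cfsg.Sz F m} (ht : OddT t) :
    {i : Cfsg.Sz F m | i ∈ Subgroup.normalizer (Tor m t : Set (Cfsg.Sz F m)) ∧
      orderOf i = 2}.ncard = Nat.card (Tor m t) := by
  have : Fact (Nat.Prime 2) := ⟨Nat.prime_two⟩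
  obtain ⟨i₀, hi₀⟩ := exists_prime_orderOf_dvd_card' 2 ht.two_dvd_card_normalizer
  have hi₀' : orderOf (i₀ : Cfsg.Sz F m) = 2 := by rw [Subgroup.orderOf_coe, hi₀]
  have hii : (i₀ : Cfsg.Sz F m) * i₀ = 1 := by rw [← pow_two, ← hi₀', pow_orderOf_eq_one]
  have hinv : (i₀ : Cfsg.Sz F m)⁻¹ = i₀ := inv_eq_of_mul_eq_one_left hii
  have hle : Tor m t ≤ Subgroup.normalizer (Tor m t : Set (Cfsg.Sz F m)) := Subgroup.le_normalizer
  rw [← _root_.Nat.card_coe_set_eq]
  symm
  apply Nat.card_congr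
  refine Equiv.ofBijective (fun y : Tor m t => ⟨(i₀ : Cfsg.Sz F m) * y, mul_mem i₀.2 (hle y.2), ?_⟩)
    ⟨?_, ?_⟩
  · apply orderOf_eq_prime
    · have h1 := ht.invol_inverts hi₀' i₀.2 y.2
      rw [hinv] at h1
      have : ((i₀ : Cfsg.Sz F m) * y) ^ 2 = ((i₀ : Cfsg.Sz F m) * y * i₀) * y := by
        rw [pow_two]; group
      rw [this, h1, inv_mul_cancel]
    · intro h
      have h2 : (i₀ : Cfsg.Sz F m) = (y : Cfsg.Sz F m)⁻¹ := eq_inv_of_mul_eq_one_left h
      have h3 := ht.odd_orderOf_of_mem (inv_mem y.2)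
      rw [← h2, hi₀'] at h3
      exact absurd h3 (by decide)
  · intro y y' h
    apply Subtype.ext
    exact mul_left_cancel (congrArg Subtype.val h)
  · rintro ⟨i, hiN, hi⟩
    refine ⟨⟨(i₀ : Cfsg.Sz F m) * i, ht.invol_mul_mem hi₀' hi i₀.2 hiN⟩, ?_⟩
    apply Subtype.ext
    show (i₀ : Cfsg.Sz F m) * ((i₀ : Cfsg.Sz F m) * i) = i
    rw [← mul_assoc, hii, one_mul]

theorem orderOf_of_mem_cl_Q {x : Cfsg.Sz F m} (hx : x ∈ cl (Qsub F m)) :
    orderOf x = 2 ∨ orderOf x = 4 := by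
  have h4 := pow_eq_one_of_mem_cl hx (pow_four_of_mem_Q m)
  have h1 := ne_one_of_mem_cl hx
  have hd : orderOf x ∣ 2 ^ 2 := orderOf_dvd_of_pow_eq_one h4
  obtain ⟨k, hk, hk2⟩ := (Nat.dvd_prime_pow Nat.prime_two).1 hd
  have hk0 : k ≠ 0 := by
    rintro rfl
    rw [pow_zero, orderOf_eq_one_iff] at hk2
    exact h1 hk2
  have : k = 1 ∨ k = 2 := by omega
  rcases this with rfl | rfl
  · left; rw [hk2]; norm_num
  · right; rw [hk2]; norm_num

theorem mem_cl_Q_of_even {x : Cfsg.Sz F m} (hx : ¬ Odd (orderOf x)) : x ∈ cl (Qsub F m) := by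
  by_contra h
  have h1 : x ≠ 1 := by
    rintro rfl
    rw [orderOf_one] at hx
    exact hx (by decide)
  exact hx (OddT.odd_orderOf ⟨h1, h⟩)

/-- the number of elements of order four in the normaliser of a torus -/
theorem OddT.ncard_four {t : Cfsg.Sz F m} (ht : OddT t) :
    {u : Cfsg.Sz F m | u ∈ Subgroup.normalizer (Tor m t : Set (Cfsg.Sz F m)) ∧
      orderOf u = 4}.ncard + 2 * Nat.card (Tor m t) =
      Nat.card (Subgroup.normalizer (Tor m t : Set (Cfsg.Sz F m))) := by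
  have hle : Tor m t ≤ Subgroup.normalizer (Tor m t : Set (Cfsg.Sz F m)) := Subgroup.le_normalizer
  have hunion : ((Subgroup.normalizer (Tor m t : Set (Cfsg.Sz F m)) : Subgroup (Cfsg.Sz F m)) :
      Set (Cfsg.Sz F m)) =
      ({u : Cfsg.Sz F m | u ∈ Subgroup.normalizer (Tor m t : Set (Cfsg.Sz F m)) ∧ orderOf u = 4} ∪
      {i : Cfsg.Sz F m | i ∈ Subgroup.normalizer (Tor m t : Set (Cfsg.Sz F m)) ∧ orderOf i = 2}) ∪
      (Tor m t : Set (Cfsg.Sz F m)) := by
    ext x
    constructor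
    · intro hx
      by_cases hodd : Odd (orderOf x)
      · right
        exact mem_Tor_of_odd ht hx hodd
      · left
        rcases orderOf_of_mem_cl_Q (mem_cl_Q_of_even hodd) with h | h
        · right; exact ⟨hx, h⟩
        · left; exact ⟨hx, h⟩
    · rintro ((h | h) | h)
      · exact h.1
      · exact h.1
      · exact hle h
  have hd1 : Disjoint
      {u : Cfsg.Sz F m | u ∈ Subgroup.normalizer (Tor m t : Set (Cfsg.Sz F m)) ∧ orderOf u = 4}
      {i : Cfsg.Sz F m | i ∈ Subgroup.normalizer (Tor m t : Set (Cfsg.Sz F m)) ∧ orderOf i = 2} := by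
    rw [Set.disjoint_left]
    rintro x ⟨-, h1⟩ ⟨-, h2⟩
    omega
  have hd2 : Disjoint
      ({u : Cfsg.Sz F m | u ∈ Subgroup.normalizer (Tor m t : Set (Cfsg.Sz F m)) ∧ orderOf u = 4} ∪
      {i : Cfsg.Sz F m | i ∈ Subgroup.normalizer (Tor m t : Set (Cfsg.Sz F m)) ∧ orderOf i = 2})
      (Tor m t : Set (Cfsg.Sz F m)) := by
    rw [Set.disjoint_left]
    rintro x (⟨-, h1⟩ | ⟨-, h1⟩) h2
    · have := ht.odd_orderOf_of_mem h2
      rw [h1] at this
      exact absurd this (by decide)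
    · have := ht.odd_orderOf_of_mem h2
      rw [h1] at this
      exact absurd this (by decide)
  have hc := congrArg Set.ncard hunion
  rw [Set.ncard_union_eq hd2 (Set.toFinite _) (Set.toFinite _),
    Set.ncard_union_eq hd1 (Set.toFinite _) (Set.toFinite _), ht.ncard_invol] at hc
  have e1 : ((Subgroup.normalizer (Tor m t : Set (Cfsg.Sz F m)) : Subgroup (Cfsg.Sz F m)) :
      Set (Cfsg.Sz F m)).ncard = Nat.card (Subgroup.normalizer (Tor m t : Set (Cfsg.Sz F m))) :=
    (_root_.Nat.card_coe_set_eq _).symm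
  have e2 : (Tor m t : Set (Cfsg.Sz F m)).ncard = Nat.card (Tor m t) :=
    (_root_.Nat.card_coe_set_eq _).symm
  rw [e1, e2] at hc
  omega

end Cfsg.Agent.Lib.Helper37.Suz
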