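import Cfsg.Agent.Lib.Helper37.Suzuki.SolA

/-!
# Involutions and elements of order four of the Suzuki groups: numbers and conjugacy
-/

set_option autoImplicit false

namespace Cfsg.Agent.Lib.Helper37.Suz

open Matrix TICount
open scoped LinearAlgebra.Projectivization

variable {F : Type*} [Field F] [Fintype F] {m : ℕ} [SzField F m]

theorem card_Zsub : Nat.card (Zsub F m) = Fintype.card F := by
  rw [← Nat.card_eq_fintype_card]
  symm
  apply Nat.card_congr
  refine Equiv.ofBijective (fun b : F => (⟨TS m 0 b, b, rfl⟩ : Zsub F m)) ⟨?_, ?_⟩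
  · intro b c h
    exact (TS_injective m (congrArg Subtype.val h)).2
  · rintro ⟨_, b, rfl⟩
    exact ⟨b, rfl⟩

theorem normalizer_Z : Subgroup.normalizer (Zsub F m : Set (Cfsg.Sz F m)) = Binf F m := by
  apply le_antisymm
  · intro g hg
    have h1 : TS m 0 (1 : F) ∈ Zsub F m := ⟨1, rfl⟩
    obtain ⟨b, hb⟩ := conj_mem_of_normalizer hg h1
    have hb0 : b ≠ 0 := by
      rintro rfl
      rw [TS_zero] at hb
      apply TS0_ne_one m (one_ne_zero (α := F))
      have : TS m 0 (1 : F) = g⁻¹ * (g * TS m 0 1 * g⁻¹) * g := by group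
      rw [this, hb]; group
    exact conj_fix m g hb0 hb
  · intro g hg
    rw [Subgroup.mem_normalizer_iff]
    obtain ⟨κ, hκ, hconj⟩ := fix_inf_conj m g hg
    intro x
    constructor
    · rintro ⟨b, rfl⟩
      exact ⟨_, hconj b⟩
    · rintro ⟨b, hb⟩
      refine ⟨κ⁻¹ * b, ?_⟩
      have h2 := hconj (κ⁻¹ * b)
      rw [mul_inv_cancel_left₀ hκ, ← hb] at h2
      have h3 : g * TS m 0 (κ⁻¹ * b) = g * x := mul_right_cancel h2
      exact (mul_left_cancel h3).symm

theorem TI_Z : IsTI (Zsub F m) := by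
  rintro g _ ⟨b, rfl⟩ h1 ⟨b', h⟩
  rw [normalizer_Z]
  have hb' : b' ≠ 0 := by
    rintro rfl
    rw [TS_zero] at h
    apply h1
    have : TS m 0 b = g⁻¹ * (g * TS m 0 b * g⁻¹) * g := by group
    rw [this, h]; group
  exact conj_fix m g hb' h

theorem orderOf_TS0 {b : F} (hb : b ≠ 0) : orderOf (TS m 0 b) = 2 := by
  have hchar := charTwo (F := F) m
  apply orderOf_eq_prime
  · rw [pow_two, TS0_mul, add_self', TS_zero]
  · exact TS0_ne_one m hb

theorem orderOf_conj' {G : Type*} [Group G] (g x : G) : orderOf (g * x * g⁻¹) = orderOf x := by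
  have := orderOf_injective (MulAut.conj g).toMonoidHom (MulAut.conj g).injective x
  simpa using this

theorem cl_Z_eq : cl (Zsub F m) = {x : Cfsg.Sz F m | orderOf x = 2} := by
  ext x
  constructor
  · rintro ⟨g, _, ⟨b, rfl⟩, h1, rfl⟩
    have hb : b ≠ 0 := by
      rintro rfl
      exact h1 (TS_zero m)
    show orderOf _ = 2
    rw [orderOf_conj', orderOf_TS0 hb]
  · intro hx
    obtain ⟨g, b, hb, hg⟩ := invol_conj hx
    refine ⟨g, TS m 0 b, ⟨b, rfl⟩, TS0_ne_one m hb, ?_⟩
    rw [← hg]; group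

theorem ncard_C2 : {x : Cfsg.Sz F m | orderOf x = 2}.ncard =
    (Fintype.card F ^ 2 + 1) * (Fintype.card F - 1) := by
  have h := card_cl (Zsub F m) TI_Z
  rw [normalizer_Z, card_inf_stab, card_Sz, card_Zsub, _root_.Nat.card_coe_set_eq, cl_Z_eq] at h
  have h8 := eight_le_card (F := F) m
  have hpos : 0 < Fintype.card F ^ 2 * (Fintype.card F - 1) := by
    have : 0 < Fintype.card F - 1 := by omega
    positivity
  apply Nat.eq_of_mul_eq_mul_right hpos
  rw [h]; ring

theorem cl_Q_eq : cl (Qsub F m) =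
    {x : Cfsg.Sz F m | orderOf x = 2} ∪ {x : Cfsg.Sz F m | orderOf x = 4} := by
  ext x
  constructor
  · intro hx
    exact orderOf_of_mem_cl_Q hx
  · rintro (h | h)
    · apply mem_cl_Q_of_even
      rw [show orderOf x = 2 from h]; decide
    · apply mem_cl_Q_of_even
      rw [show orderOf x = 4 from h]; decide

theorem ncard_C4 : {x : Cfsg.Sz F m | orderOf x = 4}.ncard =
    (Fintype.card F ^ 2 + 1) * (Fintype.card F * (Fintype.card F - 1)) := by
  have h := card_cl (Qsub F m) (TI_Q m)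
  rw [card_normalizer_Q, card_Sz, card_Qsub, _root_.Nat.card_coe_set_eq, cl_Q_eq,
    Set.ncard_union_eq _ (Set.toFinite _) (Set.toFinite _), ncard_C2] at h
  · have h8 := eight_le_card (F := F) m
    obtain ⟨t, ht⟩ : ∃ t, Fintype.card F = t + 1 := ⟨Fintype.card F - 1, by omega⟩
    rw [ht] at h ⊢
    have e1 : t + 1 - 1 = t := by omega
    have e2 : (t + 1) ^ 2 - 1 = t * (t + 2) := by
      have : (t + 1) ^ 2 = t * (t + 2) + 1 := by ring
      omega
    rw [e1, e2] at h
    rw [e1]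
    have hpos : 0 < (t + 1) ^ 2 * t := by
      have : 0 < t := by omega
      positivity
    apply Nat.eq_of_mul_eq_mul_right hpos
    have h2 : (((t + 1) ^ 2 + 1) * t +
        {x : Cfsg.Sz F m | orderOf x = 4}.ncard) * ((t + 1) ^ 2 * t) =
        ((t + 1) ^ 2 + 1) * t * ((t + 1) ^ 2 * t) +
        ((t + 1) ^ 2 + 1) * ((t + 1) * t) * ((t + 1) ^ 2 * t) := by
      rw [h]; ring
    rw [add_mul] at h2
    exact Nat.add_left_cancel h2
  · rw [Set.disjoint_left]
    intro x h1 h2
    have h1' : orderOf x = 2 := h1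
    have h2' : orderOf x = 4 := h2
    omega

/-- all involutions are conjugate -/
theorem invol_isConj {z z' : Cfsg.Sz F m} (hz : orderOf z = 2) (hz' : orderOf z' = 2) :
    ∃ g : Cfsg.Sz F m, g * z * g⁻¹ = z' := by
  obtain ⟨x, b, hb, hx⟩ := invol_conj hz
  obtain ⟨x', b', hb', hx'⟩ := invol_conj hz'
  obtain ⟨y, hy⟩ := exists_torus_conj m (κ := b' / b) (div_ne_zero hb' hb)
  have h1 := hy b
  rw [div_mul_cancel₀ _ hb] at h1
  refine ⟨x' * y * x⁻¹, ?_⟩
  have e : x' * y * x⁻¹ * z * (x' * y * x⁻¹)⁻¹ = x' * (y * (x⁻¹ * z * x) * y⁻¹) * x'⁻¹ := by group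
  rw [e, hx, h1, ← hx']; group

include m in
/-- every element of the field is of the form `c^σ + c` or `c^σ + c + 1` -/
theorem exists_sig_add (e : F) : ∃ c : F, e = sig m c + c ∨ e = sig m c + c + 1 := by
  classical
  have hchar := charTwo (F := F) m
  let φ : F →+ F :=
    { toFun := fun c => sig m c + c
      map_zero' := by simp
      map_add' := by
        intro a b
        rw [sig_add]; ring }
  have hker : Nat.card φ.ker = 2 := by
    rw [Nat.card_eq_two_iff]
    refine ⟨⟨0, by simp⟩, ⟨1, ?_⟩, ?_, ?_⟩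
    · rw [AddMonoidHom.mem_ker]
      show sig m (1 : F) + 1 = 0
      rw [sig_one, add_self']
    · intro h
      exact zero_ne_one (α := F) (congrArg Subtype.val h)
    · ext ⟨x, hx⟩
      simp only [Set.mem_insert_iff, Set.mem_singleton_iff, Set.mem_univ, iff_true]
      rw [AddMonoidHom.mem_ker] at hx
      have hx' : sig m x + x = 0 := hx
      rcases (sig_eq_self_iff m x).1 (CharTwo.add_eq_zero.1 hx') with h | h
      · left; exact Subtype.ext h
      · right; exact Subtype.ext h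
  have h1 := AddSubgroup.card_mul_index φ.ker
  have h2 := AddSubgroup.index_ker φ
  have h3 := AddSubgroup.card_mul_index φ.range
  rw [hker, h2] at h1
  have hidx : φ.range.index = 2 := by
    have hpos : 0 < Nat.card φ.range := Nat.card_pos
    apply Nat.eq_of_mul_eq_mul_left hpos
    rw [h3, ← h1, mul_comm]
  obtain ⟨a, ha⟩ := AddSubgroup.index_eq_two_iff.1 hidx
  have hone : (1 : F) ∉ φ.range := by
    rintro ⟨c, hc⟩
    apply sig_add_self_add_one_ne_zero m c
    have hc' : sig m c + c = 1 := hc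
    rw [hc', add_self']
  have h1a : (1 : F) + a ∈ φ.range := by
    rcases ha 1 with ⟨h, -⟩ | ⟨h, -⟩
    · exact h
    · exact absurd h hone
  by_cases he : e ∈ φ.range
  · obtain ⟨c, hc⟩ := he
    exact ⟨c, Or.inl hc.symm⟩
  · have hea : e + a ∈ φ.range := by
      rcases ha e with ⟨h, -⟩ | ⟨h, -⟩
      · exact h
      · exact absurd h he
    obtain ⟨c, hc⟩ := φ.range.add_mem hea h1a
    refine ⟨c, Or.inr ?_⟩
    have hc' : sig m c + c = e + a + (1 + a) := hc
    rw [hc']
    have : e + a + (1 + a) + 1 = e + (a + a) + (1 + 1) := by ring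
    rw [this, add_self', add_self', add_zero, add_zero]

theorem TS_conj_TS (a b c d : F) :
    TS m a b * TS m c d * (TS m a b)⁻¹ = TS m c (d + sig m a * c + sig m c * a) :=
  Subtype.ext (T_conj_T m a b c d)

theorem orderOf_four_form {x : Cfsg.Sz F m} (hx : orderOf x = 4) :
    ∃ (g : Cfsg.Sz F m) (b : F), g * x * g⁻¹ = TS m 1 b := by
  have hcl : x ∈ cl (Qsub F m) := by
    apply mem_cl_Q_of_even
    rw [hx]; decide
  obtain ⟨g, _, ⟨a, b, rfl⟩, h1, rfl⟩ := hcl
  have ha : a ≠ 0 := by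
    rintro rfl
    rw [orderOf_conj'] at hx
    by_cases hb : b = 0
    · rw [hb, TS_zero, orderOf_one] at hx
      omega
    · rw [orderOf_TS0 hb] at hx
      omega
  refine ⟨hS m (Units.mk0 a ha)⁻¹ * g⁻¹,
    sig m (((Units.mk0 a ha)⁻¹ : Fˣ) : F) * ((Units.mk0 a ha)⁻¹ : Fˣ) * b, ?_⟩
  have e : hS m (Units.mk0 a ha)⁻¹ * g⁻¹ * (g * TS m a b * g⁻¹) * (hS m (Units.mk0 a ha)⁻¹ * g⁻¹)⁻¹ =
      hS m (Units.mk0 a ha)⁻¹ * TS m a b * (hS m (Units.mk0 a ha)⁻¹)⁻¹ := by group
  rw [e, hS_conj_TS]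
  congr 1
  simp [ha]

/-- two elements of order four are conjugate up to inversion -/
theorem four_isConj {x x' : Cfsg.Sz F m} (hx : orderOf x = 4) (hx' : orderOf x' = 4) :
    ∃ g : Cfsg.Sz F m, g * x * g⁻¹ = x' ∨ g * x * g⁻¹ = x'⁻¹ := by
  have hchar := charTwo (F := F) m
  obtain ⟨g, b, hg⟩ := orderOf_four_form hx
  obtain ⟨g', b', hg'⟩ := orderOf_four_form hx'
  obtain ⟨c, hc⟩ := exists_sig_add (m := m) (b + b')
  have h1 := TS_conj_TS (m := m) c 0 1 b
  rw [sig_one, mul_one, one_mul] at h1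
  refine ⟨g'⁻¹ * TS m c 0 * g, ?_⟩
  have e : g'⁻¹ * TS m c 0 * g * x * (g'⁻¹ * TS m c 0 * g)⁻¹ =
      g'⁻¹ * (TS m c 0 * (g * x * g⁻¹) * (TS m c 0)⁻¹) * g' := by group
  rw [e, hg, h1]
  rcases hc with hc | hc
  · left
    have e2 : b + sig m c + c = b' := by
      have : b + sig m c + c = b + (sig m c + c) := by ring
      rw [this, ← hc, ← add_assoc, add_self', zero_add]
    rw [e2, ← hg']; group
  · right
    have e2 : b + sig m c + c = b' + sig m 1 * 1 := by
      have h5 : sig m c + c = b + b' + 1 := by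
        rw [hc, add_assoc, add_self', add_zero]
      have : b + sig m c + c = b + (sig m c + c) := by ring
      rw [this, h5, sig_one, mul_one, ← add_assoc, ← add_assoc, add_self', zero_add]
    rw [e2, ← TS_inv, ← hg']; group

end Cfsg.Agent.Lib.Helper37.Suz
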