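import Cfsg.Agent.Lib.Helper37.Suzuki.SolB

/-!
# Tori normalised by a 2-element of the Suzuki group
-/

set_option autoImplicit false

namespace Cfsg.Agent.Lib.Helper37.Suz

open Matrix TICount
open scoped LinearAlgebra.Projectivization

variable {F : Type*} [Field F] [Fintype F] {m : ℕ} [SzField F m]

/-- the centraliser of a nontrivial element of `Q` lies in `Q` -/
theorem centralizer_le_Q {x y : Cfsg.Sz F m} (hx : x ∈ Qsub F m) (hx1 : x ≠ 1)
    (hc : x * y = y * x) : y ∈ Qsub F m := by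
  have hchar := charTwo (F := F) m
  obtain ⟨a, b, rfl⟩ := hx
  by_cases ha : a = 0
  · subst ha
    have hb : b ≠ 0 := by
      rintro rfl
      exact hx1 (TS_zero m)
    obtain ⟨a', b', h⟩ := centralizer_T m hb y.2 (congrArg Subtype.val hc)
    exact ⟨a', b', Subtype.ext h⟩
  · have hsq : TS m a b * TS m a b = TS m 0 (sig m a * a) := by
      rw [TS_mul, add_self', add_self', zero_add]
    have hc2 : TS m 0 (sig m a * a) * y = y * TS m 0 (sig m a * a) := by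
      rw [← hsq, mul_assoc, hc, ← mul_assoc, hc, mul_assoc]
    obtain ⟨a', b', h⟩ := centralizer_T m (mul_ne_zero (sig_ne_zero m ha) ha) y.2
      (congrArg Subtype.val hc2)
    exact ⟨a', b', Subtype.ext h⟩

/-- a 2-subgroup meeting `Q` nontrivially lies in `Q` -/
theorem two_group_le_Q {x : Cfsg.Sz F m} (hx : x ∈ Qsub F m) (hx1 : x ≠ 1)
    (S : Subgroup (Cfsg.Sz F m)) (hS : IsPGroup 2 S) (hxS : x ∈ S) : S ≤ Qsub F m := by
  have : Fact (Nat.Prime 2) := ⟨Nat.prime_two⟩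
  obtain ⟨P', hP'⟩ := hS.exists_le_sylow
  obtain ⟨x₀, hx₀⟩ := exists_conj_mem_Q m P'
  have h3 : x₀⁻¹ * x * x₀ ∈ Qsub F m := (hx₀ _).1 (hP' hxS)
  have h4 : x₀⁻¹ ∈ Subgroup.normalizer (Qsub F m : Set (Cfsg.Sz F m)) :=
    TI_Q m x₀⁻¹ _ hx hx1 (by rwa [inv_inv])
  intro y hy
  have h5 := (hx₀ _).1 (hP' hy)
  rw [Subgroup.mem_normalizer_iff] at h4
  rw [h4 y, inv_inv]
  exact h5

theorem OddT.conj {t : Cfsg.Sz F m} (ht : OddT t) (g : Cfsg.Sz F m) : OddT (g * t * g⁻¹) := by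
  refine ⟨?_, ?_⟩
  · intro h
    apply ht.1
    have : t = g⁻¹ * (g * t * g⁻¹) * g := by group
    rw [this, h]; group
  · intro h
    apply ht.2
    have := conj_mem_cl h g⁻¹
    have e : g⁻¹ * (g * t * g⁻¹) * g⁻¹⁻¹ = t := by group
    rwa [e] at this

theorem mem_normalizer_Tor_conj {g x t : Cfsg.Sz F m} :
    g * x * g⁻¹ ∈ Subgroup.normalizer (Tor m (g * t * g⁻¹) : Set (Cfsg.Sz F m)) ↔
      x ∈ Subgroup.normalizer (Tor m t : Set (Cfsg.Sz F m)) := by
  rw [Tor_conj_eq_map, ← Subgroup.map_equiv_normalizer_eq, Subgroup.mem_map_equiv]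
  have : (MulAut.conj g).symm (g * x * g⁻¹) = x := by
    rw [MulAut.conj_symm_apply]; group
  rw [this]

/-- an element of `B` outside `Q` is a `Q`-conjugate of a torus element -/
theorem exists_conj_hS (a b : F) {k : Fˣ} (hk : k ≠ 1) :
    ∃ c d : F, TS m a b * hS m k = TS m c d * hS m k * (TS m c d)⁻¹ := by
  obtain ⟨c, d, h⟩ := exists_comm_eq m 0 0 hk a (b + sig m a * a)
  refine ⟨c, d, ?_⟩
  apply Subtype.ext
  show T m a b * hh m k = T m c d * hh m k * (T m c d)⁻¹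
  rw [T_zero, one_mul, ← T_inv] at h
  have h2 : T m a b = (hh m k * T m c d * (hh m k)⁻¹ * (T m c d)⁻¹)⁻¹ := by rw [h, inv_inv]
  rw [h2]; group

theorem TS_ne_hS {a b : F} {k : Fˣ} (h : TS m a b = hS m k) : TS m a b = 1 := by
  have h1 : T m a b * hh m 1 = T m 0 0 * hh m k := by
    rw [hh_one, mul_one, T_zero, one_mul]
    exact congrArg Subtype.val h
  obtain ⟨h2, h3, -⟩ := T_hh_injective m h1
  rw [h2, h3, TS_zero]

theorem TS_ne_wS_mul {a b : F} {k : Fˣ} : TS m a b ≠ wS m * hS m k := by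
  intro h
  have h1 : T m a b = w * hh m k := congrArg Subtype.val h
  have h2 := T_smul_inf (F := F) m a b
  rw [h1, mul_smul, hh_smul_inf, w_smul_inf m] at h2
  exact pt_ne_inf m 0 0 h2

/-- a torus normalised by a nontrivial element of `Q` meets `B` trivially -/
theorem Tor_inf_Binf {x t y : Cfsg.Sz F m} (hx : x ∈ Qsub F m) (hx1 : x ≠ 1) (ht : OddT t)
    (hxN : x ∈ Subgroup.normalizer (Tor m t : Set (Cfsg.Sz F m))) (hy : y ∈ Tor m t)
    (hyB : y ∈ Binf F m) : y = 1 := by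
  by_contra hy1
  obtain ⟨hTy, hOy⟩ := ht.Tor_eq hy hy1
  obtain ⟨a, b, k, hk⟩ := inf_stab m y.2 hyB
  have hy' : y = TS m a b * hS m k := Subtype.ext hk
  have hk1 : k ≠ 1 := by
    rintro rfl
    rw [hS_one, mul_one] at hy'
    apply hOy.2
    rw [hy']
    apply mem_cl_of_mem (TS_mem m a b)
    rw [← hy']
    exact hy1
  obtain ⟨c, d, hcd⟩ := exists_conj_hS (m := m) a b hk1
  rw [hcd] at hy'
  rw [← hTy, hy'] at hxN
  have e : x = TS m c d * ((TS m c d)⁻¹ * x * TS m c d) * (TS m c d)⁻¹ := by group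
  rw [e, mem_normalizer_Tor_conj, Tor_hS hk1, mem_normalizer_H] at hxN
  obtain ⟨a', b', hx'⟩ : (TS m c d)⁻¹ * x * TS m c d ∈ Qsub F m :=
    mul_mem (mul_mem (inv_mem (TS_mem m c d)) hx) (TS_mem m c d)
  rw [hx'] at hxN
  rcases hxN with ⟨l, hl⟩ | ⟨l, hl⟩
  · have h1 := TS_ne_hS hl
    rw [← hx'] at h1
    apply hx1
    rw [e, h1]; group
  · exact TS_ne_wS_mul hl

theorem card_inf_mul_le {x t : Cfsg.Sz F m} (hx : x ∈ Qsub F m) (hx1 : x ≠ 1) (ht : OddT t)
    (hxN : x ∈ Subgroup.normalizer (Tor m t : Set (Cfsg.Sz F m))) :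
    Nat.card (Subgroup.normalizer (Tor m t : Set (Cfsg.Sz F m)) ⊓ Binf F m : Subgroup (Cfsg.Sz F m)) *
      Nat.card (Tor m t) ≤ Nat.card (Subgroup.normalizer (Tor m t : Set (Cfsg.Sz F m))) := by
  have hle : Tor m t ≤ Subgroup.normalizer (Tor m t : Set (Cfsg.Sz F m)) := Subgroup.le_normalizer
  rw [← Nat.card_prod]
  let f : ↥(Subgroup.normalizer (Tor m t : Set (Cfsg.Sz F m)) ⊓ Binf F m : Subgroup (Cfsg.Sz F m)) ×
      ↥(Tor m t) → ↥(Subgroup.normalizer (Tor m t : Set (Cfsg.Sz F m))) :=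
    fun p => ⟨(p.1 : Cfsg.Sz F m) * p.2, mul_mem (Subgroup.mem_inf.1 p.1.2).1 (hle p.2.2)⟩
  apply Nat.card_le_card_of_injective f
  rintro ⟨⟨a, ha⟩, ⟨u, hu⟩⟩ ⟨⟨a', ha'⟩, ⟨u', hu'⟩⟩ h
  have h1 : a * u = a' * u' := congrArg Subtype.val h
  have h2 : a'⁻¹ * a = u' * u⁻¹ := by
    have : a = a' * u' * u⁻¹ := by rw [← h1]; group
    rw [this]; group
  have h3 : u' * u⁻¹ = 1 := by
    apply Tor_inf_Binf hx hx1 ht hxN (mul_mem hu' (inv_mem hu))
    rw [← h2]
    exact mul_mem (inv_mem (Subgroup.mem_inf.1 ha').2) (Subgroup.mem_inf.1 ha).2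
  have h4 : u' = u := mul_inv_eq_one.1 h3
  have h5 : a' = a := by
    rw [h3] at h2
    exact (inv_mul_eq_one.1 h2)
  subst h4
  subst h5
  rfl

theorem card_inf_mul_eq {x t : Cfsg.Sz F m} (hx : x ∈ Qsub F m) (hx1 : x ≠ 1) (ht : OddT t)
    (hxN : x ∈ Subgroup.normalizer (Tor m t : Set (Cfsg.Sz F m))) :
    Nat.card (Subgroup.normalizer (Tor m t : Set (Cfsg.Sz F m)) ⊓ Binf F m : Subgroup (Cfsg.Sz F m)) *
      Nat.card (Tor m t) = Nat.card (Subgroup.normalizer (Tor m t : Set (Cfsg.Sz F m))) := by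
  have : Fact (Nat.Prime 2) := ⟨Nat.prime_two⟩
  have hup := card_inf_mul_le hx hx1 ht hxN
  have hpos : 0 < Nat.card (Tor m t) := Nat.card_pos
  have hxA : x ∈ (Subgroup.normalizer (Tor m t : Set (Cfsg.Sz F m)) ⊓ Binf F m :
      Subgroup (Cfsg.Sz F m)) := Subgroup.mem_inf.2 ⟨hxN, Q_le_Binf m hx⟩
  have hord : orderOf x = 2 ∨ orderOf x = 4 := orderOf_of_mem_cl_Q (mem_cl_of_mem hx hx1)
  have hdvd : orderOf x ∣ Nat.card (Subgroup.normalizer (Tor m t : Set (Cfsg.Sz F m)) ⊓ Binf F m :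
      Subgroup (Cfsg.Sz F m)) := by
    have := orderOf_dvd_natCard (⟨x, hxA⟩ : (Subgroup.normalizer (Tor m t : Set (Cfsg.Sz F m)) ⊓
      Binf F m : Subgroup (Cfsg.Sz F m)))
    rwa [← Subgroup.orderOf_coe] at this
  have hApos : 0 < Nat.card (Subgroup.normalizer (Tor m t : Set (Cfsg.Sz F m)) ⊓ Binf F m :
      Subgroup (Cfsg.Sz F m)) := Nat.card_pos
  have h2le : 2 ≤ Nat.card (Subgroup.normalizer (Tor m t : Set (Cfsg.Sz F m)) ⊓ Binf F m :
      Subgroup (Cfsg.Sz F m)) := by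
    have := Nat.le_of_dvd hApos hdvd
    omega
  rcases ht.card_normalizer with h | h
  · rw [h] at hup ⊢
    have h3 := Nat.le_of_mul_le_mul_right hup hpos
    have h4 : Nat.card (Subgroup.normalizer (Tor m t : Set (Cfsg.Sz F m)) ⊓ Binf F m :
      Subgroup (Cfsg.Sz F m)) = 2 := by omega
    rw [h4]
  · rw [h] at hup ⊢
    have h3 := Nat.le_of_mul_le_mul_right hup hpos
    have hd4 : 2 ^ 2 ∣ Nat.card (Subgroup.normalizer (Tor m t : Set (Cfsg.Sz F m))) := by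
      rw [h]; exact Dvd.intro _ rfl
    obtain ⟨n, hn, hn2⟩ : ∃ n, orderOf x = 2 ^ n ∧ n ≤ 2 := by
      rcases hord with h | h
      · exact ⟨1, by rw [h]; norm_num, by norm_num⟩
      · exact ⟨2, by rw [h]; norm_num, le_refl 2⟩
    obtain ⟨K, hK, hHK⟩ := Sylow.exists_subgroup_card_pow_prime_le 2 hd4
      (Subgroup.zpowers (⟨x, hxN⟩ : Subgroup.normalizer (Tor m t : Set (Cfsg.Sz F m))))
      (n := n) (by rw [Nat.card_zpowers, ← hn, ← Subgroup.orderOf_coe]) hn2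
    have hK' : Nat.card (K.map (Subgroup.normalizer (Tor m t : Set (Cfsg.Sz F m))).subtype) =
        2 ^ 2 := by
      rw [Subgroup.card_map_of_injective (Subgroup.subtype_injective _), hK]
    have hxK : x ∈ K.map (Subgroup.normalizer (Tor m t : Set (Cfsg.Sz F m))).subtype :=
      ⟨⟨x, hxN⟩, hHK (Subgroup.mem_zpowers _), rfl⟩
    have hKQ := two_group_le_Q hx hx1 _ (IsPGroup.of_card hK') hxK
    have hKA : K.map (Subgroup.normalizer (Tor m t : Set (Cfsg.Sz F m))).subtype ≤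
        (Subgroup.normalizer (Tor m t : Set (Cfsg.Sz F m)) ⊓ Binf F m : Subgroup (Cfsg.Sz F m)) := by
      intro y hy
      refine Subgroup.mem_inf.2 ⟨?_, Q_le_Binf m (hKQ hy)⟩
      obtain ⟨z, -, rfl⟩ := hy
      exact z.2
    have h5 := Nat.le_of_dvd hApos (Subgroup.card_dvd_of_le hKA)
    rw [hK'] at h5
    have h4 : Nat.card (Subgroup.normalizer (Tor m t : Set (Cfsg.Sz F m)) ⊓ Binf F m :
      Subgroup (Cfsg.Sz F m)) = 4 := by omega
    rw [h4]

/-- the involution in the cyclic group generated by a nontrivial element of `Q` -/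
theorem exists_invol_pow {x : Cfsg.Sz F m} (hx : x ∈ Qsub F m) (hx1 : x ≠ 1) :
    ∃ (n : ℕ) (b : F), b ≠ 0 ∧ x ^ n = TS m 0 b := by
  have hchar := charTwo (F := F) m
  obtain ⟨a, b, rfl⟩ := hx
  by_cases ha : a = 0
  · subst ha
    refine ⟨1, b, ?_, pow_one _⟩
    rintro rfl
    exact hx1 (TS_zero m)
  · refine ⟨2, sig m a * a, mul_ne_zero (sig_ne_zero m ha) ha, ?_⟩
    rw [pow_two, TS_mul, add_self', add_self', zero_add]

/-- two elements, one in `Q` and the other outside `B`, normalise at most one torus -/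
theorem Tor_unique {x y t t' : Cfsg.Sz F m} (hx : x ∈ Qsub F m) (hx1 : x ≠ 1)
    (hy : y ∉ Binf F m) (ht : OddT t) (ht' : OddT t')
    (hxN : x ∈ Subgroup.normalizer (Tor m t : Set (Cfsg.Sz F m)))
    (hyN : y ∈ Subgroup.normalizer (Tor m t : Set (Cfsg.Sz F m)))
    (hxN' : x ∈ Subgroup.normalizer (Tor m t' : Set (Cfsg.Sz F m)))
    (hyN' : y ∈ Subgroup.normalizer (Tor m t' : Set (Cfsg.Sz F m))) : Tor m t = Tor m t' := by
  obtain ⟨n, b, hb, hn⟩ := exists_invol_pow hx hx1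
  set i := TS m 0 b with hi
  have hi2 : orderOf i = 2 := orderOf_TS0 hb
  have hi2' : orderOf (y * i * y⁻¹) = 2 := by rw [orderOf_conj', hi2]
  have hiN : i ∈ Subgroup.normalizer (Tor m t : Set (Cfsg.Sz F m)) := by
    rw [← hn]; exact pow_mem hxN n
  have hiN' : i ∈ Subgroup.normalizer (Tor m t' : Set (Cfsg.Sz F m)) := by
    rw [← hn]; exact pow_mem hxN' n
  have h1 := ht.invol_mul_mem hi2 hi2' hiN (mul_mem (mul_mem hyN hiN) (inv_mem hyN))
  have h2 := ht'.invol_mul_mem hi2 hi2' hiN' (mul_mem (mul_mem hyN' hiN') (inv_mem hyN'))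
  have hne : i * (y * i * y⁻¹) ≠ 1 := by
    intro h
    apply hy
    apply Q_le_Binf m
    apply centralizer_le_Q (TS_mem m 0 b) (TS0_ne_one m hb)
    have hii : i * i = 1 := by rw [← pow_two, ← hi2, pow_orderOf_eq_one]
    have h3 : y * i * y⁻¹ = i := by
      have : y * i * y⁻¹ = (i * i) * (y * i * y⁻¹) := by rw [hii, one_mul]
      rw [this, mul_assoc, h, mul_one]
    exact (mul_inv_eq_iff_eq_mul.1 h3).symm
  rw [← (ht.Tor_eq h1 hne).1, ← (ht'.Tor_eq h2 hne).1]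

end Cfsg.Agent.Lib.Helper37.Suz
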