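import Cfsg.Agent.Lib.Helper37.Suzuki.SolC

/-!
# Counting the elements generating a torus normaliser together with a 2-element
-/

set_option autoImplicit false

namespace Cfsg.Agent.Lib.Helper37.Suz

open Matrix TICount
open scoped LinearAlgebra.Projectivization

variable {F : Type*} [Field F] [Fintype F] {m : ℕ} [SzField F m]

/-- elements of tori of a given type normalised by `x` -/
def Ot (t₀ x : Cfsg.Sz F m) : Set (Cfsg.Sz F m) :=
  {t | t ∈ cl (Tor m t₀) ∧ x ∈ Subgroup.normalizer (Tor m t : Set (Cfsg.Sz F m))}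

/-- elements outside `B` lying with `x` in the normaliser of a torus of a given type -/
def Rt (t₀ x : Cfsg.Sz F m) : Set (Cfsg.Sz F m) :=
  {y | y ∉ Binf F m ∧ ∃ t ∈ cl (Tor m t₀), x ∈ Subgroup.normalizer (Tor m t : Set (Cfsg.Sz F m)) ∧
    y ∈ Subgroup.normalizer (Tor m t : Set (Cfsg.Sz F m))}

theorem cl_Tor_facts {t₀ t : Cfsg.Sz F m} (h₀ : OddT t₀) (ht : t ∈ cl (Tor m t₀)) :
    OddT t ∧ Nat.card (Tor m t) = Nat.card (Tor m t₀) ∧
    Nat.card (Subgroup.normalizer (Tor m t : Set (Cfsg.Sz F m))) =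
      Nat.card (Subgroup.normalizer (Tor m t₀ : Set (Cfsg.Sz F m))) ∧
    ∀ t' ∈ Tor m t, t' ≠ 1 → t' ∈ cl (Tor m t₀) := by
  obtain ⟨g, a, ha, ha1, rfl⟩ := ht
  obtain ⟨h1, h2⟩ := h₀.Tor_eq ha ha1
  refine ⟨h2.conj g, ?_, ?_, ?_⟩
  · rw [Tor_conj_eq_map, card_map_conj, h1]
  · rw [Tor_conj_eq_map, card_normalizer_map_conj, h1]
  · intro t' ht' ht'1
    rw [mem_Tor_conj, h1] at ht'
    refine ⟨g, g⁻¹ * t' * g, ht', ?_, by group⟩
    intro h
    apply ht'1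
    have : t' = g * (g⁻¹ * t' * g) * g⁻¹ := by group
    rw [this, h]; group

theorem card_Rt {t₀ x : Cfsg.Sz F m} (h₀ : OddT t₀) (hx : x ∈ Qsub F m) (hx1 : x ≠ 1) {c : ℕ}
    (hc : Nat.card (Subgroup.normalizer (Tor m t₀ : Set (Cfsg.Sz F m))) = c * Nat.card (Tor m t₀)) :
    (Ot t₀ x).ncard * (c * Nat.card (Tor m t₀) - c) = (Rt t₀ x).ncard * (Nat.card (Tor m t₀) - 1) := by
  apply bipartite_count (Ot t₀ x) (Rt t₀ x)
    (fun t y => y ∈ Subgroup.normalizer (Tor m t : Set (Cfsg.Sz F m)))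
  · rintro t ⟨htcl, hxN⟩
    obtain ⟨hO, hτ, hN, -⟩ := cl_Tor_facts h₀ htcl
    have e : {y | y ∈ Rt t₀ x ∧ y ∈ Subgroup.normalizer (Tor m t : Set (Cfsg.Sz F m))} =
        ((Subgroup.normalizer (Tor m t : Set (Cfsg.Sz F m)) : Subgroup (Cfsg.Sz F m)) :
          Set (Cfsg.Sz F m)) \
        ((Subgroup.normalizer (Tor m t : Set (Cfsg.Sz F m)) ⊓ Binf F m : Subgroup (Cfsg.Sz F m)) :
          Set (Cfsg.Sz F m)) := by
      ext y
      constructor
      · rintro ⟨⟨hyB, -⟩, hyN⟩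
        exact ⟨hyN, fun h => hyB (Subgroup.mem_inf.1 h).2⟩
      · rintro ⟨hyN, hy⟩
        have hyB : y ∉ Binf F m := fun h => hy (Subgroup.mem_inf.2 ⟨hyN, h⟩)
        exact ⟨⟨hyB, t, htcl, hxN, hyN⟩, hyN⟩
    rw [e, Set.ncard_diff (by
      intro y hy
      exact (Subgroup.mem_inf.1 hy).1) (Set.toFinite _)]
    have h1 := card_inf_mul_eq hx hx1 hO hxN
    rw [hN, hτ, hc] at h1
    have hpos : 0 < Nat.card (Tor m t₀) := Nat.card_pos
    have h2 := Nat.eq_of_mul_eq_mul_right hpos h1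
    rw [← _root_.Nat.card_coe_set_eq, ← _root_.Nat.card_coe_set_eq]
    show Nat.card (Subgroup.normalizer (Tor m t : Set (Cfsg.Sz F m))) -
      Nat.card (Subgroup.normalizer (Tor m t : Set (Cfsg.Sz F m)) ⊓ Binf F m :
        Subgroup (Cfsg.Sz F m)) = _
    rw [hN, hc, h2]
  · rintro y ⟨hyB, t₁, ht₁cl, hxN₁, hyN₁⟩
    obtain ⟨hO₁, hτ₁, -, hmem₁⟩ := cl_Tor_facts h₀ ht₁cl
    have e : {t | t ∈ Ot t₀ x ∧ y ∈ Subgroup.normalizer (Tor m t : Set (Cfsg.Sz F m))} =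
        (Tor m t₁ : Set (Cfsg.Sz F m)) \ {1} := by
      ext t
      constructor
      · rintro ⟨⟨htcl, hxN⟩, hyN⟩
        obtain ⟨hO, -, -, -⟩ := cl_Tor_facts h₀ htcl
        have := Tor_unique hx hx1 hyB hO hO₁ hxN hyN hxN₁ hyN₁
        refine ⟨?_, hO.1⟩
        show t ∈ Tor m t₁
        rw [← this]
        exact self_mem_Tor t
      · rintro ⟨ht, ht1⟩
        have ht1' : t ≠ 1 := ht1
        have h3 := (hO₁.Tor_eq ht ht1').1
        refine ⟨⟨hmem₁ t ht ht1', ?_⟩, ?_⟩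
        · rw [h3]; exact hxN₁
        · show y ∈ Subgroup.normalizer (Tor m t : Set (Cfsg.Sz F m))
          rw [h3]; exact hyN₁
    rw [e, Set.ncard_diff_singleton_of_mem (one_mem (Tor m t₁)), ← _root_.Nat.card_coe_set_eq]
    show Nat.card (Tor m t₁) - 1 = _
    rw [hτ₁]

theorem Ot_conj (t₀ x g : Cfsg.Sz F m) : (Ot t₀ (g * x * g⁻¹)).ncard = (Ot t₀ x).ncard := by
  have e : Ot t₀ (g * x * g⁻¹) = (fun t => g * t * g⁻¹) '' Ot t₀ x := by
    ext t
    constructor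
    · rintro ⟨h1, h2⟩
      refine ⟨g⁻¹ * t * g, ⟨?_, ?_⟩, by group⟩
      · have := conj_mem_cl h1 g⁻¹
        rwa [inv_inv] at this
      · have e1 : t = g * (g⁻¹ * t * g) * g⁻¹ := by group
        rw [e1, mem_normalizer_Tor_conj] at h2
        exact h2
    · rintro ⟨t', ⟨h1, h2⟩, rfl⟩
      exact ⟨conj_mem_cl h1 g, mem_normalizer_Tor_conj.2 h2⟩
  rw [e]
  apply Set.ncard_image_of_injective
  intro a b h
  exact mul_left_cancel (mul_right_cancel h)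

theorem Ot_inv (t₀ x : Cfsg.Sz F m) : Ot t₀ x⁻¹ = Ot t₀ x := by
  ext t
  constructor
  · rintro ⟨h1, h2⟩
    exact ⟨h1, by simpa using inv_mem h2⟩
  · rintro ⟨h1, h2⟩
    exact ⟨h1, inv_mem h2⟩

theorem card_Ot_two {t₀ x : Cfsg.Sz F m} (h₀ : OddT t₀) (hx : orderOf x = 2) :
    {z : Cfsg.Sz F m | orderOf z = 2}.ncard * (Ot t₀ x).ncard =
      (cl (Tor m t₀)).ncard * Nat.card (Tor m t₀) := by
  apply bipartite_count {z : Cfsg.Sz F m | orderOf z = 2} (cl (Tor m t₀))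
    (fun z t => z ∈ Subgroup.normalizer (Tor m t : Set (Cfsg.Sz F m)))
  · intro z hz
    obtain ⟨g, rfl⟩ := invol_isConj hx hz
    exact Ot_conj t₀ x g
  · intro t ht
    obtain ⟨hO, hτ, -, -⟩ := cl_Tor_facts h₀ ht
    rw [← hτ, ← hO.ncard_invol]
    congr 1
    ext z
    exact and_comm

theorem card_Ot_four {t₀ x : Cfsg.Sz F m} (h₀ : OddT t₀) (hx : orderOf x = 4) {ν : ℕ}
    (hν : ν + 2 * Nat.card (Tor m t₀) =
      Nat.card (Subgroup.normalizer (Tor m t₀ : Set (Cfsg.Sz F m)))) :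
    {z : Cfsg.Sz F m | orderOf z = 4}.ncard * (Ot t₀ x).ncard = (cl (Tor m t₀)).ncard * ν := by
  apply bipartite_count {z : Cfsg.Sz F m | orderOf z = 4} (cl (Tor m t₀))
    (fun z t => z ∈ Subgroup.normalizer (Tor m t : Set (Cfsg.Sz F m)))
  · intro z hz
    obtain ⟨g, h | h⟩ := four_isConj hx hz
    · rw [← h]
      exact Ot_conj t₀ x g
    · have h2 : z = (g * x * g⁻¹)⁻¹ := by rw [h, inv_inv]
      have h3 := Ot_conj t₀ x g
      rw [← Ot_inv, ← h2] at h3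
      exact h3
  · intro t ht
    obtain ⟨hO, hτ, hN, -⟩ := cl_Tor_facts h₀ ht
    have h1 := hO.ncard_four
    rw [hτ, hN] at h1
    have e : {a : Cfsg.Sz F m | a ∈ {z : Cfsg.Sz F m | orderOf z = 4} ∧
        a ∈ Subgroup.normalizer (Tor m t : Set (Cfsg.Sz F m))} =
        {u : Cfsg.Sz F m | u ∈ Subgroup.normalizer (Tor m t : Set (Cfsg.Sz F m)) ∧ orderOf u = 4} := by
      ext z
      exact and_comm
    rw [e]
    omega

end Cfsg.Agent.Lib.Helper37.Suz
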