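import Cfsg.Agent.Lib.Helper37.Suzuki.SolD

/-!
# Solvable subgroups of the Suzuki groups and the numbers `|Rt|`
-/

set_option autoImplicit false

namespace Cfsg.Agent.Lib.Helper37.Suz

open Matrix TICount
open scoped LinearAlgebra.Projectivization

section General

variable {G : Type*} [Group G]

theorem solvable_normalizer_of_complement (A C : Subgroup G) [Group.IsSolvable A]
    [Group.IsSolvable C] (hC : C ≤ Subgroup.normalizer (A : Set G))
    (hgen : ∀ n ∈ Subgroup.normalizer (A : Set G), ∃ a ∈ A, ∃ c ∈ C, n = a * c) :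
    Group.IsSolvable (Subgroup.normalizer (A : Set G)) := by
  have hn : (A.subgroupOf (Subgroup.normalizer (A : Set G))).Normal := Subgroup.normal_in_normalizer
  have hle : A ≤ Subgroup.normalizer (A : Set G) := Subgroup.le_normalizer
  rw [Group.isSolvable_iff_subgroup_quotient (A.subgroupOf (Subgroup.normalizer (A : Set G)))]
  constructor
  · exact Group.isSolvable_of_isSolvable_injective
      (f := (Subgroup.subgroupOfEquivOfLe hle).toMonoidHom) (Subgroup.subgroupOfEquivOfLe hle).injective
  · apply Group.isSolvable_of_surjective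
      (f := (QuotientGroup.mk' (A.subgroupOf (Subgroup.normalizer (A : Set G)))).comp
        (Subgroup.inclusion hC))
    intro z
    obtain ⟨⟨n, hnN⟩, rfl⟩ := QuotientGroup.mk'_surjective _ z
    obtain ⟨a, ha, c, hc, rfl⟩ := hgen n hnN
    refine ⟨⟨c, hc⟩, ?_⟩
    show QuotientGroup.mk _ = QuotientGroup.mk _
    rw [QuotientGroup.eq]
    show (Subgroup.inclusion hC ⟨c, hc⟩)⁻¹ * ⟨a * c, hnN⟩ ∈ A.subgroupOf _
    rw [Subgroup.mem_subgroupOf]
    show c⁻¹ * (a * c) ∈ A
    have h1 := conj_mem_of_normalizer (inv_mem (hC hc)) ha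
    rw [inv_inv] at h1
    rwa [← mul_assoc]

theorem solvable_normalizer_of_index [Finite G] (A : Subgroup G) [Group.IsSolvable A] {j : ℕ}
    (h : Nat.card (Subgroup.normalizer (A : Set G)) = 2 ^ j * Nat.card A) :
    Group.IsSolvable (Subgroup.normalizer (A : Set G)) := by
  have : Fact (Nat.Prime 2) := ⟨Nat.prime_two⟩
  have hn : (A.subgroupOf (Subgroup.normalizer (A : Set G))).Normal := Subgroup.normal_in_normalizer
  have hle : A ≤ Subgroup.normalizer (A : Set G) := Subgroup.le_normalizer
  rw [Group.isSolvable_iff_subgroup_quotient (A.subgroupOf (Subgroup.normalizer (A : Set G)))]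
  constructor
  · exact Group.isSolvable_of_isSolvable_injective
      (f := (Subgroup.subgroupOfEquivOfLe hle).toMonoidHom) (Subgroup.subgroupOfEquivOfLe hle).injective
  · have h1 := Subgroup.card_mul_index (A.subgroupOf (Subgroup.normalizer (A : Set G)))
    rw [Nat.card_congr (Subgroup.subgroupOfEquivOfLe hle).toEquiv, h, mul_comm] at h1
    have hpos : 0 < Nat.card A := Nat.card_pos
    have h2 := Nat.eq_of_mul_eq_mul_right hpos h1
    have h3 : IsPGroup 2 (↥(Subgroup.normalizer (A : Set G)) ⧸
        A.subgroupOf (Subgroup.normalizer (A : Set G))) := IsPGroup.of_card (n := j) h2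
    have := h3.isNilpotent
    infer_instance

theorem solvable_closure_of_le {X : Subgroup G} (hX : Group.IsSolvable X) {x y : G} (hx : x ∈ X)
    (hy : y ∈ X) : Group.IsSolvable (Subgroup.closure ({x, y} : Set G)) := by
  have hle : Subgroup.closure ({x, y} : Set G) ≤ X := by
    rw [Subgroup.closure_le]
    rintro z (rfl | rfl)
    · exact hx
    · exact hy
  exact Group.isSolvable_of_isSolvable_injective (Subgroup.inclusion_injective hle)

end General

variable {F : Type*} [Field F] [Fintype F] {m : ℕ} [SzField F m]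

theorem solvable_Binf : Group.IsSolvable (Binf F m) := by
  have : Fact (Nat.Prime 2) := ⟨Nat.prime_two⟩
  rw [← normalizer_Q]
  have h1 : Group.IsSolvable (Qsub F m) := by
    have := (isPGroup_Qsub (F := F) m).isNilpotent
    infer_instance
  have h2 : Group.IsSolvable (Hsub F m) := by
    let _ : CommGroup (Hsub F m) := IsCyclic.commGroup
    infer_instance
  apply solvable_normalizer_of_complement (Qsub F m) (Hsub F m)
  · rw [normalizer_Q]
    rintro _ ⟨k, rfl⟩
    exact hh_smul_inf m k
  · intro n hn
    rw [normalizer_Q] at hn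
    obtain ⟨a, b, k, hk⟩ := inf_stab m n.2 hn
    exact ⟨TS m a b, TS_mem m a b, hS m k, hS_mem m k, Subtype.ext hk⟩

theorem OddT.solvable_normalizer {t : Cfsg.Sz F m} (ht : OddT t) :
    Group.IsSolvable (Subgroup.normalizer (Tor m t : Set (Cfsg.Sz F m))) := by
  have h2 : Group.IsSolvable (Tor m t) := by
    have := ht.isCyclic
    let _ : CommGroup (Tor m t) := IsCyclic.commGroup
    infer_instance
  rcases ht.card_normalizer with h | h
  · exact solvable_normalizer_of_index (Tor m t) (j := 1) (by rw [h]; norm_num)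
  · exact solvable_normalizer_of_index (Tor m t) (j := 2) (by rw [h]; norm_num)

theorem not_solvable_Sz : ¬ Group.IsSolvable (Cfsg.Sz F m) := by
  have := isSimpleGroup_Sz (F := F) m
  rw [← IsSimpleGroup.comm_iff_isSolvable]
  intro h
  have h1 := h (TS m 1 0) (wS m)
  have h2 : wS m ∈ Qsub F m :=
    centralizer_le_Q (TS_mem m 1 0) (by
      intro h3
      rw [← TS_zero m] at h3
      exact one_ne_zero (TS_injective m h3).1) h1
  exact StdPos.wS_not_mem_Binf (Q_le_Binf m h2)

end Cfsg.Agent.Lib.Helper37.Suz
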