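import Cfsg.Agent.Lib.Helper37.Suzuki.SolE

/-!
# The criterion for two elements of a Suzuki group to generate a solvable subgroup
-/

set_option autoImplicit false

namespace Cfsg.Agent.Lib.Helper37.Suz

open Matrix TICount
open scoped LinearAlgebra.Projectivization

section General

variable {G G' : Type*} [Group G] [Group G']

theorem solvable_closure_map (e : G ≃* G') (x y : G) :
    Group.IsSolvable (Subgroup.closure ({e x, e y} : Set G')) ↔
      Group.IsSolvable (Subgroup.closure ({x, y} : Set G)) := by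
  have h : Subgroup.closure ({e x, e y} : Set G') =
      (Subgroup.closure ({x, y} : Set G)).map e.toMonoidHom := by
    rw [MonoidHom.map_closure]
    congr 1
    rw [Set.image_pair]
    rfl
  rw [h]
  let ε := Subgroup.equivMapOfInjective (Subgroup.closure ({x, y} : Set G)) e.toMonoidHom e.injective
  constructor
  · intro hs
    exact Group.isSolvable_of_isSolvable_injective (f := ε.toMonoidHom) ε.injective
  · intro hs
    exact Group.isSolvable_of_isSolvable_injective (f := ε.symm.toMonoidHom) ε.symm.injective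

theorem card_sol_map (e : G ≃* G') (x : G) :
    Nat.card {y' : G' // Group.IsSolvable (Subgroup.closure ({e x, y'} : Set G'))} =
      Nat.card {y : G // Group.IsSolvable (Subgroup.closure ({x, y} : Set G))} := by
  symm
  apply Nat.card_congr
  apply e.toEquiv.subtypeEquiv
  intro y
  exact (solvable_closure_map e x y).symm

end General

variable {F : Type*} [Field F] [Fintype F] {m : ℕ} [SzField F m]

theorem mem_Binf_cases {z : Cfsg.Sz F m} (hz : z ∈ Binf F m) :
    z ∈ Qsub F m ∨ z ∈ cl (Hsub F m) := by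
  obtain ⟨a, b, k, hk⟩ := inf_stab m z.2 hz
  have hz' : z = TS m a b * hS m k := Subtype.ext hk
  by_cases hk1 : k = 1
  · left
    rw [hz', hk1, hS_one, mul_one]
    exact TS_mem m a b
  · right
    obtain ⟨c, d, hcd⟩ := exists_conj_hS (m := m) a b hk1
    rw [hz', hcd]
    refine ⟨TS m c d, hS m k, hS_mem m k, ?_, rfl⟩
    intro h
    rw [← hS_one m] at h
    exact hk1 (hS_injective h)

theorem mem_Q_of_mem_Binf {z : Cfsg.Sz F m} (hz : z ∈ Binf F m) (hcl : z ∈ cl (Qsub F m)) :
    z ∈ Qsub F m := by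
  rcases mem_Binf_cases hz with h | h
  · exact h
  · exact absurd h (Set.disjoint_left.1 (disjoint_cl_Q_H m) hcl)

theorem conj_mem_Binf_iff {g y : Cfsg.Sz F m} :
    g⁻¹ * y * g ∈ Binf F m ↔ y.1 • (g.1 • (inf : ℙ F (Fin 4 → F))) = g.1 • inf := by
  rw [mem_Binf]
  have e : (g⁻¹ * y * g).1 = g.1⁻¹ * y.1 * g.1 := rfl
  rw [e, mul_smul, mul_smul, inv_smul_eq_iff]

theorem sol_iff (hp : (2 * m + 1).Prime) (x y : Cfsg.Sz F m) :
    Group.IsSolvable (Subgroup.closure ({x, y} : Set (Cfsg.Sz F m))) ↔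
      (∃ g : Cfsg.Sz F m, g⁻¹ * x * g ∈ Binf F m ∧ g⁻¹ * y * g ∈ Binf F m) ∨
      (∃ t : Cfsg.Sz F m, OddT t ∧ x ∈ Subgroup.normalizer (Tor m t : Set (Cfsg.Sz F m)) ∧
        y ∈ Subgroup.normalizer (Tor m t : Set (Cfsg.Sz F m))) := by
  constructor
  · intro hs
    have hM : Subgroup.closure ({x, y} : Set (Cfsg.Sz F m)) ≠ ⊤ := by
      intro h
      rw [h] at hs
      apply not_solvable_Sz (F := F) (m := m)
      exact Group.isSolvable_of_isSolvable_injective
        (f := (Subgroup.topEquiv (G := Cfsg.Sz F m)).symm.toMonoidHom)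
        (Subgroup.topEquiv (G := Cfsg.Sz F m)).symm.injective
    have hxM : x ∈ Subgroup.closure ({x, y} : Set (Cfsg.Sz F m)) :=
      Subgroup.subset_closure (Set.mem_insert _ _)
    have hyM : y ∈ Subgroup.closure ({x, y} : Set (Cfsg.Sz F m)) :=
      Subgroup.subset_closure (Set.mem_insert_of_mem _ rfl)
    rcases subgroup_theorem _ hM with ⟨P, hP⟩ | ⟨U, hU1, hU2, hU3⟩ |
      ⟨K, i1, i2, k, h1, h2, h3, h4, -⟩
    · left
      obtain ⟨x₀, hx₀⟩ := exists_conj_mem_Q m P
      have key : ∀ n ∈ Subgroup.normalizer ((P : Subgroup (Cfsg.Sz F m)) : Set (Cfsg.Sz F m)),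
          x₀⁻¹ * n * x₀ ∈ Binf F m := by
        intro n hn
        rw [← normalizer_Q, Subgroup.mem_normalizer_iff]
        intro h
        have e1 : h = x₀⁻¹ * (x₀ * h * x₀⁻¹) * x₀ := by group
        have e2 : x₀⁻¹ * n * x₀ * h * (x₀⁻¹ * n * x₀)⁻¹ =
            x₀⁻¹ * (n * (x₀ * h * x₀⁻¹) * n⁻¹) * x₀ := by group
        rw [e2, ← hx₀]
        nth_rewrite 1 [e1]
        rw [← hx₀]
        exact Subgroup.mem_normalizer_iff.1 hn _
      exact ⟨x₀, key x (hP hxM), key y (hP hyM)⟩
    · right
      have hc := SzField.card (F := F) (m := m)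
      have hs4 := s_le_card (F := F) (m := m)
      rw [← hc] at hU2
      have hk : Nat.card U = Fintype.card F - 1 ∨ Nat.card U = Fintype.card F + 2 ^ (m + 1) + 1 ∨
          Nat.card U + 2 ^ (m + 1) = Fintype.card F + 1 := by
        rcases hU2 with h | h | h
        · left; exact h
        · right; left; exact h
        · right; right
          have h' : Nat.card U = Fintype.card F - 2 ^ (m + 1) + 1 := h
          omega
      have hodd : Odd (Nat.card U) := by
        obtain ⟨u, hu⟩ := even_card (F := F) (m := m)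
        obtain ⟨v, hv⟩ : 2 ∣ 2 ^ (m + 1) := dvd_pow_self 2 (by omega)
        rw [Nat.odd_iff]
        omega
      have hne : Nat.card U ≠ 1 := by
        have h8 := eight_le_card (F := F) m
        generalize 2 ^ (m + 1) = s at hk hs4
        omega
      obtain ⟨u, hu, hu1⟩ : ∃ u ∈ U, u ≠ 1 := by
        by_contra hcon
        push Not at hcon
        apply hne
        rw [(Subgroup.eq_bot_iff_forall U).2 hcon, Subgroup.card_bot]
      have hO : OddT u := by
        apply OddT.of_odd hu1
        have h5 : orderOf u ∣ Nat.card U := by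
          have := orderOf_dvd_natCard (⟨u, hu⟩ : U)
          rwa [← Subgroup.orderOf_coe] at this
        exact Odd.of_dvd_nat hodd h5
      have hUT := eq_Tor_of_cyclic hO U hU1 hu hk
      rw [hUT] at hU3
      exact ⟨u, hO, hU3 hxM, hU3 hyM⟩
    · exfalso
      rcases (Nat.dvd_prime hp).1 h4 with h | h <;> omega
  · rintro (⟨g, hx, hy⟩ | ⟨t, ht, hx, hy⟩)
    · have h1 := solvable_closure_of_le (solvable_Binf (F := F) (m := m)) hx hy
      have h2 := (solvable_closure_map (MulAut.conj g⁻¹) x y).1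
      apply h2
      have e1 : (MulAut.conj g⁻¹) x = g⁻¹ * x * g := by rw [MulAut.conj_apply, inv_inv]
      have e2 : (MulAut.conj g⁻¹) y = g⁻¹ * y * g := by rw [MulAut.conj_apply, inv_inv]
      rw [e1, e2]
      exact h1
    · exact solvable_closure_of_le ht.solvable_normalizer hx hy

theorem sol_iff_Q (hp : (2 * m + 1).Prime) {x : Cfsg.Sz F m} (hx : x ∈ Qsub F m) (hx1 : x ≠ 1)
    (y : Cfsg.Sz F m) :
    Group.IsSolvable (Subgroup.closure ({x, y} : Set (Cfsg.Sz F m))) ↔
      y ∈ Binf F m ∨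
      (∃ t : Cfsg.Sz F m, OddT t ∧ x ∈ Subgroup.normalizer (Tor m t : Set (Cfsg.Sz F m)) ∧
        y ∈ Subgroup.normalizer (Tor m t : Set (Cfsg.Sz F m))) := by
  rw [sol_iff hp]
  constructor
  · rintro (⟨g, hxg, hyg⟩ | h)
    · left
      have hcl : g⁻¹ * x * g ∈ cl (Qsub F m) := by
        have := conj_mem_cl (mem_cl_of_mem hx hx1) g⁻¹
        rwa [inv_inv] at this
      have hQ := mem_Q_of_mem_Binf hxg hcl
      have hg : g⁻¹ ∈ Subgroup.normalizer (Qsub F m : Set (Cfsg.Sz F m)) :=
        TI_Q m g⁻¹ x hx hx1 (by rwa [inv_inv])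
      rw [normalizer_Q] at hg
      have e : y = g⁻¹⁻¹ * (g⁻¹ * y * g) * g⁻¹ := by group
      rw [e]
      exact mul_mem (mul_mem (inv_mem hg) hyg) hg
    · right; exact h
  · rintro (h | h)
    · left
      exact ⟨1, by simpa using Q_le_Binf m hx, by simpa using h⟩
    · right; exact h

end Cfsg.Agent.Lib.Helper37.Suz
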