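import Cfsg.Agent.Lib.Helper37.Suzuki.SolF

/-!
# Solubilizers of 2-elements of the Suzuki groups
-/

set_option autoImplicit false

namespace Cfsg.Agent.Lib.Helper37.Suz

open Matrix TICount
open scoped LinearAlgebra.Projectivization

theorem arith_two {q2 O R L c e Q : ℕ} (hQ : 0 < Q) (he : 0 < e) (h1 : Q * O = L * (e + 1))
    (h2 : L * (c * (e + 1)) = q2 * Q * e) (h3 : O * (c * e) = R * e) : R = q2 * e := by
  have h4 : R = O * c := by
    apply Nat.eq_of_mul_eq_mul_right he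
    rw [← h3]; ring
  rw [h4]
  apply Nat.eq_of_mul_eq_mul_left hQ
  calc Q * (O * c) = (Q * O) * c := by ring
    _ = L * (e + 1) * c := by rw [h1]
    _ = L * (c * (e + 1)) := by ring
    _ = q2 * Q * e := h2
    _ = Q * (q2 * e) := by ring

theorem arith_four {q O R L d e Q : ℕ} (hQ : 0 < Q) (he : 0 < e) (h1 : Q * O = L * (d * (e + 1)))
    (h2 : L * ((d + 2) * (e + 1)) = q * Q * e) (h3 : O * ((d + 2) * e) = R * e) :
    R = d * q * e := by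
  have h4 : R = O * (d + 2) := by
    apply Nat.eq_of_mul_eq_mul_right he
    rw [← h3]; ring
  rw [h4]
  apply Nat.eq_of_mul_eq_mul_left hQ
  calc Q * (O * (d + 2)) = (Q * O) * (d + 2) := by ring
    _ = L * (d * (e + 1)) * (d + 2) := by rw [h1]
    _ = d * (L * ((d + 2) * (e + 1))) := by ring
    _ = d * (q * Q * e) := by rw [h2]
    _ = Q * (d * q * e) := by ring

variable {F : Type*} [Field F] [Fintype F] {m : ℕ} [SzField F m]

theorem OddT.two_le_card {t : Cfsg.Sz F m} (ht : OddT t) : 2 ≤ Nat.card (Tor m t) := by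
  have h8 := eight_le_card (F := F) m
  have hs4 := s_le_card (F := F) (m := m)
  have := ht.card
  generalize 2 ^ (m + 1) = s at this hs4
  omega

theorem ncard_Rt_two {t₀ x : Cfsg.Sz F m} (h₀ : OddT t₀) (hx : x ∈ Qsub F m)
    (hx2 : orderOf x = 2) :
    (Rt t₀ x).ncard = Fintype.card F ^ 2 * (Nat.card (Tor m t₀) - 1) := by
  have hx1 : x ≠ 1 := by
    rintro rfl
    rw [orderOf_one] at hx2
    omega
  obtain ⟨c, hc⟩ : ∃ c, Nat.card (Subgroup.normalizer (Tor m t₀ : Set (Cfsg.Sz F m))) =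
      c * Nat.card (Tor m t₀) := by
    rcases h₀.card_normalizer with h | h
    · exact ⟨2, h⟩
    · exact ⟨4, h⟩
  have h1 := card_Ot_two h₀ hx2
  have h2 := card_cl (Tor m t₀) h₀.TI
  have h3 := card_Rt h₀ hx hx1 hc
  have h4 := h₀.two_le_card
  obtain ⟨e, he⟩ : ∃ e, Nat.card (Tor m t₀) = e + 1 := ⟨Nat.card (Tor m t₀) - 1, by omega⟩
  rw [ncard_C2, he] at h1
  rw [hc, he, card_Sz, _root_.Nat.card_coe_set_eq] at h2
  rw [he] at h3 ⊢
  have e1 : e + 1 - 1 = e := by omega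
  have e2 : c * (e + 1) - c = c * e := by
    rw [mul_add, mul_one]; omega
  rw [e1] at h2 h3 ⊢
  rw [e2] at h3
  have h8 := eight_le_card (F := F) m
  apply arith_two (Q := (Fintype.card F ^ 2 + 1) * (Fintype.card F - 1)) _ (by omega) h1 _ h3
  · have : 0 < Fintype.card F - 1 := by omega
    positivity
  · rw [h2]; ring

theorem ncard_Rt_four {t₀ x : Cfsg.Sz F m} (h₀ : OddT t₀) (hx : x ∈ Qsub F m)
    (hx4 : orderOf x = 4) {d : ℕ}
    (hc : Nat.card (Subgroup.normalizer (Tor m t₀ : Set (Cfsg.Sz F m))) =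
      (d + 2) * Nat.card (Tor m t₀)) :
    (Rt t₀ x).ncard = d * Fintype.card F * (Nat.card (Tor m t₀) - 1) := by
  have hx1 : x ≠ 1 := by
    rintro rfl
    rw [orderOf_one] at hx4
    omega
  have h1 := card_Ot_four h₀ hx4 (ν := d * Nat.card (Tor m t₀)) (by rw [hc]; ring)
  have h2 := card_cl (Tor m t₀) h₀.TI
  have h3 := card_Rt h₀ hx hx1 hc
  have h4 := h₀.two_le_card
  obtain ⟨e, he⟩ : ∃ e, Nat.card (Tor m t₀) = e + 1 := ⟨Nat.card (Tor m t₀) - 1, by omega⟩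
  rw [ncard_C4, he] at h1
  rw [hc, he, card_Sz, _root_.Nat.card_coe_set_eq] at h2
  rw [he] at h3 ⊢
  have e1 : e + 1 - 1 = e := by omega
  have e2 : (d + 2) * (e + 1) - (d + 2) = (d + 2) * e := by
    rw [mul_add, mul_one]; omega
  rw [e1] at h2 h3 ⊢
  rw [e2] at h3
  have h8 := eight_le_card (F := F) m
  apply arith_four (Q := (Fintype.card F ^ 2 + 1) * (Fintype.card F * (Fintype.card F - 1))) _
    (by omega) h1 _ h3
  · have : 0 < Fintype.card F - 1 := by omega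
    positivity
  · rw [h2]; ring

theorem Rt_disjoint {t₀ t₀' x : Cfsg.Sz F m} (h₀ : OddT t₀) (h₀' : OddT t₀') (hx : x ∈ Qsub F m)
    (hx1 : x ≠ 1) (hne : Nat.card (Tor m t₀) ≠ Nat.card (Tor m t₀')) :
    Disjoint (Rt t₀ x) (Rt t₀' x) := by
  rw [Set.disjoint_left]
  rintro y ⟨hyB, t, ht, hxN, hyN⟩ ⟨-, t', ht', hxN', hyN'⟩
  obtain ⟨hO, hτ, -, -⟩ := cl_Tor_facts h₀ ht
  obtain ⟨hO', hτ', -, -⟩ := cl_Tor_facts h₀' ht'
  apply hne
  rw [← hτ, ← hτ', Tor_unique hx hx1 hyB hO hO' hxN hyN hxN' hyN']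

/-- three tori representing all types -/
theorem exists_three_tori : ∃ t₁ t₂ t₃ : Cfsg.Sz F m, OddT t₁ ∧ OddT t₂ ∧ OddT t₃ ∧
    Nat.card (Tor m t₁) = Fintype.card F - 1 ∧
    Nat.card (Tor m t₂) = Fintype.card F + 2 ^ (m + 1) + 1 ∧
    Nat.card (Tor m t₃) + 2 ^ (m + 1) = Fintype.card F + 1 ∧
    Nat.card (Subgroup.normalizer (Tor m t₁ : Set (Cfsg.Sz F m))) = 2 * Nat.card (Tor m t₁) ∧
    Nat.card (Subgroup.normalizer (Tor m t₂ : Set (Cfsg.Sz F m))) = 4 * Nat.card (Tor m t₂) ∧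
    Nat.card (Subgroup.normalizer (Tor m t₃ : Set (Cfsg.Sz F m))) = 4 * Nat.card (Tor m t₃) ∧
    ∀ t : Cfsg.Sz F m, OddT t → t ∈ cl (Tor m t₁) ∨ t ∈ cl (Tor m t₂) ∨ t ∈ cl (Tor m t₃) := by
  obtain ⟨k₀, hk₀⟩ := exists_unit_ne_one (F := F) m
  obtain ⟨t₂, -, hX₂, -, hc₂, -⟩ := exists_tori (F := F) (m := m)
  obtain ⟨t₃, hX₃, hcop⟩ := exists_coprime hX₂
  have hh1 : hS m k₀ ≠ 1 := by
    intro h
    rw [← hS_one m] at h
    exact hk₀ (hS_injective h)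
  have hT₁ := Tor_hS (m := m) hk₀
  refine ⟨hS m k₀, t₂, t₃, OddT.of_cl_H (mem_cl_of_mem (hS_mem m k₀) hh1), OddT.of_XS hX₂,
    OddT.of_XS hX₃, ?_, hc₂, ?_, ?_, card_normalizer_Tor_eq hX₂, card_normalizer_Tor_eq hX₃, ?_⟩
  · rw [hT₁, card_Hsub]
  · rcases card_Tor_pair hX₂ hX₃ hcop with h | h
    · exact h.2
    · exfalso
      have := h.2
      have hpos : 0 < 2 ^ (m + 1) := by positivity
      omega
  · rw [hT₁, card_normalizer_H, card_Hsub]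
  · intro t ht
    rcases ht.cases with h | h
    · left; rw [hT₁]; exact h
    · right
      rw [XS_eq_union hX₂ hX₃ hcop] at h
      exact h

theorem sol_set_eq (hp : (2 * m + 1).Prime) {x : Cfsg.Sz F m} (hx : x ∈ Qsub F m) (hx1 : x ≠ 1)
    {t₁ t₂ t₃ : Cfsg.Sz F m} (h₁ : OddT t₁) (h₂ : OddT t₂) (h₃ : OddT t₃)
    (hall : ∀ t : Cfsg.Sz F m, OddT t → t ∈ cl (Tor m t₁) ∨ t ∈ cl (Tor m t₂) ∨ t ∈ cl (Tor m t₃)) :
    {y : Cfsg.Sz F m | Group.IsSolvable (Subgroup.closure ({x, y} : Set (Cfsg.Sz F m)))} =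
      (((Binf F m : Subgroup (Cfsg.Sz F m)) : Set (Cfsg.Sz F m)) ∪ Rt t₁ x) ∪ (Rt t₂ x ∪ Rt t₃ x) := by
  ext y
  show Group.IsSolvable (Subgroup.closure ({x, y} : Set (Cfsg.Sz F m))) ↔ _
  rw [sol_iff_Q hp hx hx1]
  constructor
  · rintro (h | ⟨t, ht, hxN, hyN⟩)
    · left; left; exact h
    · by_cases hyB : y ∈ Binf F m
      · left; left; exact hyB
      · rcases hall t ht with h | h | h
        · left; right; exact ⟨hyB, t, h, hxN, hyN⟩
        · right; left; exact ⟨hyB, t, h, hxN, hyN⟩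
        · right; right; exact ⟨hyB, t, h, hxN, hyN⟩
  · rintro ((h | ⟨-, t, ht, hxN, hyN⟩) | (⟨-, t, ht, hxN, hyN⟩ | ⟨-, t, ht, hxN, hyN⟩))
    · left; exact h
    · right; exact ⟨t, (cl_Tor_facts h₁ ht).1, hxN, hyN⟩
    · right; exact ⟨t, (cl_Tor_facts h₂ ht).1, hxN, hyN⟩
    · right; exact ⟨t, (cl_Tor_facts h₃ ht).1, hxN, hyN⟩

theorem ncard_sol_Q (hp : (2 * m + 1).Prime) {x : Cfsg.Sz F m} (hx : x ∈ Qsub F m) (hx1 : x ≠ 1)
    {t₁ t₂ t₃ : Cfsg.Sz F m} (h₁ : OddT t₁) (h₂ : OddT t₂) (h₃ : OddT t₃)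
    (h12 : Nat.card (Tor m t₁) ≠ Nat.card (Tor m t₂))
    (h13 : Nat.card (Tor m t₁) ≠ Nat.card (Tor m t₃))
    (h23 : Nat.card (Tor m t₂) ≠ Nat.card (Tor m t₃))
    (hall : ∀ t : Cfsg.Sz F m, OddT t → t ∈ cl (Tor m t₁) ∨ t ∈ cl (Tor m t₂) ∨ t ∈ cl (Tor m t₃)) :
    {y : Cfsg.Sz F m | Group.IsSolvable (Subgroup.closure ({x, y} : Set (Cfsg.Sz F m)))}.ncard =
      Fintype.card F ^ 2 * (Fintype.card F - 1) + (Rt t₁ x).ncard +
        ((Rt t₂ x).ncard + (Rt t₃ x).ncard) := by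
  rw [sol_set_eq hp hx hx1 h₁ h₂ h₃ hall]
  have hB : ∀ t₀, Disjoint ((Binf F m : Subgroup (Cfsg.Sz F m)) : Set (Cfsg.Sz F m)) (Rt t₀ x) := by
    intro t₀
    rw [Set.disjoint_left]
    intro y hy hy'
    exact hy'.1 hy
  rw [Set.ncard_union_eq _ (Set.toFinite _) (Set.toFinite _),
    Set.ncard_union_eq (hB t₁) (Set.toFinite _) (Set.toFinite _),
    Set.ncard_union_eq (Rt_disjoint h₂ h₃ hx hx1 h23) (Set.toFinite _) (Set.toFinite _),
    ← _root_.Nat.card_coe_set_eq]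
  · congr 2
    exact card_inf_stab m
  · rw [Set.disjoint_union_left, Set.disjoint_union_right, Set.disjoint_union_right]
    exact ⟨⟨hB t₂, hB t₃⟩, Rt_disjoint h₁ h₂ hx hx1 h12, Rt_disjoint h₁ h₃ hx hx1 h13⟩

theorem ncard_sol_two_Q (hp : (2 * m + 1).Prime) {x : Cfsg.Sz F m} (hx : x ∈ Qsub F m)
    (hx2 : orderOf x = 2) :
    {y : Cfsg.Sz F m | Group.IsSolvable (Subgroup.closure ({x, y} : Set (Cfsg.Sz F m)))}.ncard =
      Fintype.card F ^ 2 * (4 * Fintype.card F - 3) := by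
  have hx1 : x ≠ 1 := by
    rintro rfl
    rw [orderOf_one] at hx2
    omega
  obtain ⟨t₁, t₂, t₃, h₁, h₂, h₃, c₁, c₂, c₃, -, -, -, hall⟩ := exists_three_tori (F := F) (m := m)
  have h8 := eight_le_card (F := F) m
  have hs4 := s_le_card (F := F) (m := m)
  have hpos : 4 ≤ 2 ^ (m + 1) := four_le_s (F := F) m
  rw [ncard_sol_Q hp hx hx1 h₁ h₂ h₃ (by omega) (by omega) (by omega) hall,
    ncard_Rt_two h₁ hx hx2, ncard_Rt_two h₂ hx hx2, ncard_Rt_two h₃ hx hx2, ← mul_add, ← mul_add,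
    ← mul_add]
  congr 1
  omega

theorem ncard_sol_four_Q (hp : (2 * m + 1).Prime) {x : Cfsg.Sz F m} (hx : x ∈ Qsub F m)
    (hx4 : orderOf x = 4) :
    {y : Cfsg.Sz F m | Group.IsSolvable (Subgroup.closure ({x, y} : Set (Cfsg.Sz F m)))}.ncard =
      Fintype.card F ^ 2 * (Fintype.card F + 3) := by
  have hx1 : x ≠ 1 := by
    rintro rfl
    rw [orderOf_one] at hx4
    omega
  obtain ⟨t₁, t₂, t₃, h₁, h₂, h₃, c₁, c₂, c₃, n₁, n₂, n₃, hall⟩ :=
    exists_three_tori (F := F) (m := m)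
  have h8 := eight_le_card (F := F) m
  have hs4 := s_le_card (F := F) (m := m)
  have hpos : 4 ≤ 2 ^ (m + 1) := four_le_s (F := F) m
  rw [ncard_sol_Q hp hx hx1 h₁ h₂ h₃ (by omega) (by omega) (by omega) hall,
    ncard_Rt_four h₁ hx hx4 (d := 0) (by rw [n₁]), ncard_Rt_four h₂ hx hx4 (d := 2) (by rw [n₂]),
    ncard_Rt_four h₃ hx hx4 (d := 2) (by rw [n₃]), ← mul_add]
  have e : Nat.card (Tor m t₂) - 1 + (Nat.card (Tor m t₃) - 1) = 2 * Fintype.card F := by omega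
  rw [e]
  obtain ⟨t, ht⟩ : ∃ t, Fintype.card F = t + 1 := ⟨Fintype.card F - 1, by omega⟩
  rw [ht]
  have e1 : t + 1 - 1 = t := by omega
  rw [e1]
  ring

end Cfsg.Agent.Lib.Helper37.Suz
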