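import Cfsg.Agent.Lib.Helper37.Suzuki.SolG

/-!
# Solubilizers in the Suzuki groups
-/

set_option autoImplicit false

namespace Cfsg.Agent.Lib.Helper37.Suz

open Matrix TICount
open scoped LinearAlgebra.Projectivization

variable {F : Type*} [Field F] [Fintype F] {m : ℕ} [SzField F m]

theorem ncard_sol_XS (hp : (2 * m + 1).Prime) {x : Cfsg.Sz F m} (hx : x ∈ XS m) :
    {y : Cfsg.Sz F m | Group.IsSolvable (Subgroup.closure ({x, y} : Set (Cfsg.Sz F m)))}.ncard =
      4 * Nat.card (Tor m x) := by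
  have hO := OddT.of_XS hx
  have e : {y : Cfsg.Sz F m | Group.IsSolvable (Subgroup.closure ({x, y} : Set (Cfsg.Sz F m)))} =
      ((Subgroup.normalizer (Tor m x : Set (Cfsg.Sz F m)) : Subgroup (Cfsg.Sz F m)) :
        Set (Cfsg.Sz F m)) := by
    ext y
    show Group.IsSolvable (Subgroup.closure ({x, y} : Set (Cfsg.Sz F m))) ↔ _
    rw [sol_iff hp]
    constructor
    · rintro (⟨g, hxg, -⟩ | ⟨t, ht, hxN, hyN⟩)
      · exfalso
        have hX := XS_conj m hx g⁻¹
        rw [inv_inv] at hX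
        rcases mem_Binf_cases hxg with h | h
        · exact hX.2.1 (mem_cl_of_mem h hX.1)
        · exact hX.2.2 h
      · have h1 := mem_Tor_of_odd ht hxN hO.odd_orderOf
        have h2 := (ht.Tor_eq h1 hx.1).1
        show y ∈ Subgroup.normalizer (Tor m x : Set (Cfsg.Sz F m))
        rw [h2]
        exact hyN
    · intro hy
      right
      exact ⟨x, hO, Subgroup.le_normalizer (self_mem_Tor x), hy⟩
  rw [e, ← _root_.Nat.card_coe_set_eq]
  exact card_normalizer_Tor_eq hx

theorem ncard_sol_hS (hp : (2 * m + 1).Prime) {k : Fˣ} (hk : k ≠ 1) :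
    {y : Cfsg.Sz F m | Group.IsSolvable (Subgroup.closure ({hS m k, y} : Set (Cfsg.Sz F m)))}.ncard =
      2 * Fintype.card F ^ 2 * (Fintype.card F - 1) := by
  have hh1 : hS m k ≠ 1 := by
    intro h
    rw [← hS_one m] at h
    exact hk (hS_injective h)
  have hO : OddT (hS m k) := OddT.of_cl_H (mem_cl_of_mem (hS_mem m k) hh1)
  have hw0 : (wS m : Cfsg.Sz F m).1 • (inf : ℙ F (Fin 4 → F)) = pt m 0 0 := w_smul_inf m
  have hw1 : (wS m : Cfsg.Sz F m).1 • pt m (0 : F) 0 = inf := w_smul_zero m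
  set A : Set (Cfsg.Sz F m) := ((Binf F m : Subgroup (Cfsg.Sz F m)) : Set (Cfsg.Sz F m)) with hA
  set A₀ : Set (Cfsg.Sz F m) := {y | y.1 • pt m (0 : F) 0 = pt m 0 0} with hA₀
  set C : Set (Cfsg.Sz F m) := {y | ∃ c, y = wS m * hS m c} with hC
  have e : {y : Cfsg.Sz F m |
      Group.IsSolvable (Subgroup.closure ({hS m k, y} : Set (Cfsg.Sz F m)))} = (A ∪ A₀) ∪ C := by
    ext y
    show Group.IsSolvable (Subgroup.closure ({hS m k, y} : Set (Cfsg.Sz F m))) ↔ _
    rw [sol_iff hp]
    constructor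
    · rintro (⟨g, hxg, hyg⟩ | ⟨t, ht, hxN, hyN⟩)
      · rw [conj_mem_Binf_iff] at hxg hyg
        left
        rcases (hh_fix_iff m hk (smul_mem_of_mem_Sz m g.2 (inf_mem m))).1 hxg with h | h
        · left
          rw [h] at hyg
          exact hyg
        · right
          rw [h] at hyg
          exact hyg
      · have h1 := mem_Tor_of_odd ht hxN hO.odd_orderOf
        have h2 := (ht.Tor_eq h1 hh1).1
        rw [← h2, Tor_hS hk, mem_normalizer_H] at hyN
        rcases hyN with ⟨c, rfl⟩ | ⟨c, rfl⟩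
        · left; left
          exact hh_smul_inf m c
        · right
          exact ⟨c, rfl⟩
    · rintro ((h | h) | ⟨c, rfl⟩)
      · left
        have hk' : hS m k ∈ Binf F m := hh_smul_inf m k
        have hy' : y ∈ Binf F m := h
        refine ⟨1, ?_, ?_⟩
        · rw [inv_one, one_mul, mul_one]; exact hk'
        · rw [inv_one, one_mul, mul_one]; exact hy'
      · left
        refine ⟨wS m, ?_, ?_⟩
        · rw [conj_mem_Binf_iff, hw0]
          show hh m k • pt m (0 : F) 0 = pt m 0 0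
          rw [hh_smul_pt]; simp
        · rw [conj_mem_Binf_iff, hw0]
          exact h
      · right
        refine ⟨hS m k, hO, Subgroup.le_normalizer (self_mem_Tor _), ?_⟩
        rw [Tor_hS hk, mem_normalizer_H]
        right
        exact ⟨c, rfl⟩
  have cA : A.ncard = Fintype.card F ^ 2 * (Fintype.card F - 1) := by
    rw [hA, ← _root_.Nat.card_coe_set_eq]
    exact card_inf_stab m
  have cA₀ : A₀.ncard = Fintype.card F ^ 2 * (Fintype.card F - 1) := by
    rw [← cA]
    have e2 : A₀ = (fun y => wS m * y * wS m) '' A := by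
      ext y
      constructor
      · intro hy
        refine ⟨wS m * y * wS m, ?_, ?_⟩
        · show (wS m * y * wS m).1 • (inf : ℙ F (Fin 4 → F)) = inf
          have e3 : (wS m * y * wS m).1 = (wS m : Cfsg.Sz F m).1 * y.1 * (wS m : Cfsg.Sz F m).1 := rfl
          have hy' : y.1 • pt m (0 : F) 0 = pt m 0 0 := hy
          rw [e3, mul_smul, mul_smul, hw0, hy', hw1]
        · show wS m * (wS m * y * wS m) * wS m = y
          have : wS m * (wS m * y * wS m) * wS m = (wS m * wS m) * y * (wS m * wS m) := by group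
          rw [this, wS_mul_wS, one_mul, mul_one]
      · rintro ⟨z, hz, rfl⟩
        show (wS m * z * wS m).1 • pt m (0 : F) 0 = pt m 0 0
        have e3 : (wS m * z * wS m).1 = (wS m : Cfsg.Sz F m).1 * z.1 * (wS m : Cfsg.Sz F m).1 := rfl
        have hz' : z.1 • (inf : ℙ F (Fin 4 → F)) = inf := hz
        rw [e3, mul_smul, mul_smul, hw1, hz', hw0]
    rw [e2]
    apply Set.ncard_image_of_injective
    intro a b h
    exact mul_left_cancel (mul_right_cancel h)
  have cI : (A ∩ A₀).ncard = Fintype.card F - 1 := by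
    have e2 : A ∩ A₀ = ((Hsub F m : Subgroup (Cfsg.Sz F m)) : Set (Cfsg.Sz F m)) := by
      ext y
      constructor
      · rintro ⟨h1, h2⟩
        obtain ⟨c, rfl⟩ := eq_hS_of_fix h1 h2
        exact hS_mem m c
      · intro hy
        obtain ⟨c, rfl⟩ := (mem_Hsub m).1 hy
        refine ⟨hh_smul_inf m c, ?_⟩
        show hh m c • pt m (0 : F) 0 = pt m 0 0
        rw [hh_smul_pt]; simp
    rw [e2, ← _root_.Nat.card_coe_set_eq]
    exact card_Hsub m
  have cC : C.ncard = Fintype.card F - 1 := by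
    have e2 : C = (fun y => wS m * y) '' ((Hsub F m : Subgroup (Cfsg.Sz F m)) : Set (Cfsg.Sz F m)) := by
      ext y
      constructor
      · rintro ⟨c, rfl⟩
        exact ⟨hS m c, hS_mem m c, rfl⟩
      · rintro ⟨z, hz, rfl⟩
        obtain ⟨c, rfl⟩ := (mem_Hsub m).1 hz
        exact ⟨c, rfl⟩
    rw [e2, Set.ncard_image_of_injective _ (mul_right_injective _), ← _root_.Nat.card_coe_set_eq]
    exact card_Hsub m
  have hdisj : Disjoint (A ∪ A₀) C := by
    rw [Set.disjoint_left]
    rintro _ (h | h) ⟨c, rfl⟩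
    · have h' : (w * hh m c : Matrix.SpecialLinearGroup (Fin 4) F) • (inf : ℙ F (Fin 4 → F)) = inf := h
      rw [mul_smul, hh_smul_inf, w_smul_inf m] at h'
      exact pt_ne_inf m 0 0 h'
    · have h' : (w * hh m c : Matrix.SpecialLinearGroup (Fin 4) F) • pt m (0 : F) 0 = pt m 0 0 := h
      rw [mul_smul, hh_smul_pt] at h'
      simp only [mul_zero] at h'
      rw [w_smul_zero m] at h'
      exact pt_ne_inf m 0 0 h'.symm
  rw [e, Set.ncard_union_eq hdisj (Set.toFinite _) (Set.toFinite _), cC]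
  have h1 := Set.ncard_union_add_ncard_inter A A₀
  rw [cA, cA₀, cI] at h1
  have e4 : 2 * Fintype.card F ^ 2 * (Fintype.card F - 1) =
      Fintype.card F ^ 2 * (Fintype.card F - 1) + Fintype.card F ^ 2 * (Fintype.card F - 1) := by ring
  rw [e4]
  exact h1

include m in
theorem ab_arith {b : ℕ} (hb : b + 2 ^ (m + 1) = Fintype.card F + 1) :
    (Fintype.card F + 2 ^ (m + 1) + 1) * b = Fintype.card F ^ 2 + 1 := by
  have hs2 := s_sq (F := F) (m := m)
  generalize 2 ^ (m + 1) = s at hb hs2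
  zify at hb hs2 ⊢
  linear_combination ((Fintype.card F : ℤ) + s + 1) * hb - hs2

theorem mem_XS_of_dvd {x : Cfsg.Sz F m} (hx1 : x ≠ 1) {a : ℕ} (hodd : ¬ 2 ∣ a)
    (ha : a ∣ Fintype.card F ^ 2 + 1) (hxa : orderOf x ∣ a) : x ∈ XS m := by
  rw [mem_XS_iff]
  refine ⟨hx1, fun p hp hpd => ⟨?_, (hpd.trans hxa).trans ha⟩⟩
  rintro rfl
  exact hodd (hpd.trans hxa)

theorem card_Tor_of_dvd {x : Cfsg.Sz F m} (hx : x ∈ XS m) {a b : ℕ}
    (hab : a = b + 2 * 2 ^ (m + 1) ∨ b = a + 2 * 2 ^ (m + 1))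
    (hT : Nat.card (Tor m x) = a ∨ Nat.card (Tor m x) = b) (hxa : orderOf x ∣ a) :
    Nat.card (Tor m x) = a := by
  rcases hT with h | h
  · exact h
  · exfalso
    have hord : orderOf x ≠ 1 := by
      rw [Ne, orderOf_eq_one_iff]; exact hx.1
    obtain ⟨p, hp, hpd⟩ := Nat.exists_prime_and_dvd hord
    have hp2 := (((mem_XS_iff m x).1 hx).2 p hp hpd).1
    have h1 : p ∣ a := hpd.trans hxa
    have h2 : p ∣ b := by
      rw [← h]
      apply hpd.trans
      have := orderOf_dvd_natCard (⟨x, self_mem_Tor x⟩ : Tor m x)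
      rwa [← Subgroup.orderOf_coe] at this
    have h3 : p ∣ 2 * 2 ^ (m + 1) := by
      rcases hab with h | h
      · rw [h] at h1
        exact (Nat.dvd_add_right h2).1 h1
      · rw [h] at h2
        exact (Nat.dvd_add_right h1).1 h2
    rw [← pow_succ'] at h3
    exact hp2 ((Nat.prime_dvd_prime_iff_eq hp Nat.prime_two).1 (hp.dvd_of_dvd_pow h3))

theorem card_sol_eq_ncard (x : Cfsg.Sz F m) :
    Nat.card {y : Cfsg.Sz F m // Group.IsSolvable (Subgroup.closure ({x, y} : Set (Cfsg.Sz F m)))} =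
    {y : Cfsg.Sz F m | Group.IsSolvable (Subgroup.closure ({x, y} : Set (Cfsg.Sz F m)))}.ncard :=
  _root_.Nat.card_coe_set_eq _

theorem solubilizer_card (hp : (2 * m + 1).Prime) (x : Cfsg.Sz F m) :
    (orderOf x = 2 → Nat.card {y : Cfsg.Sz F m //
      Group.IsSolvable (Subgroup.closure ({x, y} : Set (Cfsg.Sz F m)))} =
        Fintype.card F ^ 2 * (4 * Fintype.card F - 3)) ∧
    (orderOf x = 4 → Nat.card {y : Cfsg.Sz F m //
      Group.IsSolvable (Subgroup.closure ({x, y} : Set (Cfsg.Sz F m)))} =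
        Fintype.card F ^ 2 * (Fintype.card F + 3)) ∧
    (x ≠ 1 → orderOf x ∣ Fintype.card F - 1 → Nat.card {y : Cfsg.Sz F m //
      Group.IsSolvable (Subgroup.closure ({x, y} : Set (Cfsg.Sz F m)))} =
        2 * Fintype.card F ^ 2 * (Fintype.card F - 1)) ∧
    (x ≠ 1 → orderOf x ∣ Fintype.card F + 2 ^ (m + 1) + 1 → Nat.card {y : Cfsg.Sz F m //
      Group.IsSolvable (Subgroup.closure ({x, y} : Set (Cfsg.Sz F m)))} =
        4 * (Fintype.card F + 2 ^ (m + 1) + 1)) ∧
    (x ≠ 1 → orderOf x ∣ Fintype.card F - 2 ^ (m + 1) + 1 → Nat.card {y : Cfsg.Sz F m //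
      Group.IsSolvable (Subgroup.closure ({x, y} : Set (Cfsg.Sz F m)))} =
        4 * (Fintype.card F - 2 ^ (m + 1) + 1)) := by
  have h8 := eight_le_card (F := F) m
  have hs4 := s_le_card (F := F) (m := m)
  obtain ⟨u, hu⟩ := even_card (F := F) (m := m)
  obtain ⟨v, hv⟩ : 2 ∣ 2 ^ (m + 1) := dvd_pow_self 2 (by omega)
  have hab := ab_arith (F := F) (m := m) (b := Fintype.card F - 2 ^ (m + 1) + 1) (by omega)
  refine ⟨?_, ?_, ?_, ?_, ?_⟩
  · intro hx
    obtain ⟨g, b, hb, hg⟩ := invol_conj hx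
    have h1 := card_sol_map (MulAut.conj g⁻¹) x
    have e1 : (MulAut.conj g⁻¹) x = TS m 0 b := by rw [MulAut.conj_apply, inv_inv, hg]
    rw [e1] at h1
    rw [← h1, card_sol_eq_ncard, ncard_sol_two_Q hp (TS_mem m 0 b) (orderOf_TS0 hb)]
  · intro hx
    obtain ⟨g, b, hg⟩ := orderOf_four_form hx
    have h1 := card_sol_map (MulAut.conj g) x
    have e1 : (MulAut.conj g) x = TS m 1 b := by rw [MulAut.conj_apply, hg]
    rw [e1] at h1
    rw [← h1, card_sol_eq_ncard, ncard_sol_four_Q hp (TS_mem m 1 b)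
      (by rw [← hg, orderOf_conj', hx])]
  · intro hx1 hxd
    have hodd : Odd (orderOf x) := by
      apply Odd.of_dvd_nat _ hxd
      rw [Nat.odd_iff]; omega
    have hO := OddT.of_odd hx1 hodd
    rcases hO.cases with h | h
    · obtain ⟨g, _, ⟨k, rfl⟩, hk1, rfl⟩ := h
      have hk : k ≠ 1 := by
        rintro rfl
        exact hk1 (hS_one m)
      have h1 := card_sol_map (MulAut.conj g) (hS m k)
      rw [MulAut.conj_apply] at h1
      have e2 : (hSHom (F := F) m) k = hS m k := rfl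
      rw [e2, h1, card_sol_eq_ncard, ncard_sol_hS hp hk]
    · exfalso
      have hord : orderOf x ≠ 1 := by
        rw [Ne, orderOf_eq_one_iff]; exact hx1
      obtain ⟨p, hpp, hpd⟩ := Nat.exists_prime_and_dvd hord
      obtain ⟨hp2, hdiv⟩ := ((mem_XS_iff m x).1 h).2 p hpp hpd
      exact hp2 (prime_eq_two_of_dvd hpp (by omega) (hpd.trans hxd) hdiv)
  · intro hx1 hxd
    have hX : x ∈ XS m := mem_XS_of_dvd hx1 (a := Fintype.card F + 2 ^ (m + 1) + 1) (by omega)
      (Dvd.intro _ hab) hxd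
    rw [card_sol_eq_ncard, ncard_sol_XS hp hX,
      card_Tor_of_dvd hX (b := Fintype.card F - 2 ^ (m + 1) + 1) (Or.inl (by omega)) _ hxd]
    rcases card_Tor_cases hX with h | h
    · left; exact h
    · right; omega
  · intro hx1 hxd
    have hX : x ∈ XS m := mem_XS_of_dvd hx1 (a := Fintype.card F - 2 ^ (m + 1) + 1) (by omega)
      (Dvd.intro_left _ hab) hxd
    rw [card_sol_eq_ncard, ncard_sol_XS hp hX,
      card_Tor_of_dvd hX (b := Fintype.card F + 2 ^ (m + 1) + 1) (Or.inr (by omega)) _ hxd]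
    rcases card_Tor_cases hX with h | h
    · right; exact h
    · left; omega

end Cfsg.Agent.Lib.Helper37.Suz
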