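import Cfsg.Agent.Lib.Helper37.Suzuki.Elements

/-!
# Membership of the explicit elements in the Suzuki group; the two-point stabiliser
-/

set_option autoImplicit false

namespace Cfsg.Agent.Lib.Helper37.Suz

open Matrix
open scoped LinearAlgebra.Projectivization Pointwise

variable {F : Type*} [Field F]

theorem mem_Sz_of (m : ℕ) (g : Matrix.SpecialLinearGroup (Fin 4) F)
    (h1 : ∀ p ∈ Cfsg.suzukiOvoid F m, g • p ∈ Cfsg.suzukiOvoid F m)
    (h2 : ∀ p ∈ Cfsg.suzukiOvoid F m, g⁻¹ • p ∈ Cfsg.suzukiOvoid F m) : g ∈ Cfsg.Sz F m := by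
  rw [MulAction.mem_stabilizer_iff]
  ext p
  rw [Set.mem_smul_set_iff_inv_smul_mem]
  constructor
  · intro h
    have := h1 _ h
    rwa [smul_inv_smul] at this
  · exact h2 p

theorem smul_mem_of_mem_Sz (m : ℕ) {g : Matrix.SpecialLinearGroup (Fin 4) F} (hg : g ∈ Cfsg.Sz F m)
    {p : ℙ F (Fin 4 → F)} (hp : p ∈ Cfsg.suzukiOvoid F m) : g • p ∈ Cfsg.suzukiOvoid F m := by
  rw [MulAction.mem_stabilizer_iff] at hg
  rw [← hg]
  exact Set.smul_mem_smul_set hp

section Fin

variable [Fintype F] (m : ℕ) [SzField F m]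

theorem T_maps (a b : F) : ∀ p ∈ Cfsg.suzukiOvoid F m, T m a b • p ∈ Cfsg.suzukiOvoid F m := by
  intro p hp
  rcases (mem_ovoid_iff m p).1 hp with rfl | ⟨x, y, rfl⟩
  · rw [T_smul_inf]; exact inf_mem m
  · rw [T_smul_pt]; exact pt_mem m _ _

theorem T_mem (a b : F) : T m a b ∈ Cfsg.Sz F m :=
  mem_Sz_of m _ (T_maps m a b) (by rw [T_inv]; exact T_maps m _ _)

theorem hh_maps (k : Fˣ) : ∀ p ∈ Cfsg.suzukiOvoid F m, hh m k • p ∈ Cfsg.suzukiOvoid F m := by
  intro p hp
  rcases (mem_ovoid_iff m p).1 hp with rfl | ⟨x, y, rfl⟩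
  · rw [hh_smul_inf]; exact inf_mem m
  · rw [hh_smul_pt]; exact pt_mem m _ _

theorem hh_mem (k : Fˣ) : hh m k ∈ Cfsg.Sz F m :=
  mem_Sz_of m _ (hh_maps m k) (by rw [hh_inv]; exact hh_maps m _)

theorem w_maps : ∀ p ∈ Cfsg.suzukiOvoid F m,
    (w : Matrix.SpecialLinearGroup (Fin 4) F) • p ∈ Cfsg.suzukiOvoid F m := by
  intro p hp
  rcases (mem_ovoid_iff m p).1 hp with rfl | ⟨x, y, rfl⟩
  · rw [w_smul_inf m]; exact pt_mem m _ _
  · by_cases h : ff m x y = 0
    · obtain ⟨rfl, rfl⟩ := (ff_eq_zero_iff m x y).1 h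
      rw [w_smul_zero]; exact inf_mem m
    · rw [w_smul_pt m x y h]; exact pt_mem m _ _

theorem w_mem : (w : Matrix.SpecialLinearGroup (Fin 4) F) ∈ Cfsg.Sz F m :=
  mem_Sz_of m _ (w_maps m) (by rw [w_inv]; exact w_maps m)

/-- the functional equation forcing a diagonal map -/
theorem func_eq (α β γ δ c r1 r2 : F)
    (h : ∀ x y : F, ff m (α * x + β * y) (γ * x + δ * y) = c * ff m x y + r1 * y + r2 * x) :
    β = 0 ∧ γ = 0 ∧ r1 = 0 ∧ r2 = 0 ∧ c = sig m α * α ^ 2 ∧ α * δ = c := by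
  have := charTwo (F := F) m
  have h2 : (2 : F) = 0 := two_eq_zero'
  have hA : ∀ x : F, (sig m α * α ^ 2 - c) * (sig m x * x ^ 2) + sig m γ * sig m x + (α * γ) * x ^ 2
      + (- r2) * x = 0 := by
    intro x
    have := h x 0
    simp only [ff, mul_zero, add_zero, sig_mul, sig_zero] at this
    linear_combination this
  obtain ⟨a1, a2, -, a4⟩ := poly4 m _ _ _ _ hA
  have hB : ∀ y : F, (sig m β * β ^ 2) * (sig m y * y ^ 2) + (sig m δ - c) * sig m y + (β * δ) * y ^ 2
      + (- r1) * y = 0 := by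
    intro y
    have := h 0 y
    simp only [ff, mul_zero, zero_add, sig_mul, sig_zero, zero_mul, add_zero] at this
    linear_combination this
  obtain ⟨b1, b2, -, b4⟩ := poly4 m _ _ _ _ hB
  have hγ : γ = 0 := (sig_eq_zero m).1 a2
  have hβ : β = 0 := by
    rcases mul_eq_zero.1 b1 with h | h
    · exact (sig_eq_zero m).1 h
    · exact pow_eq_zero_iff (two_ne_zero) |>.1 h
  have hc : c = sig m α * α ^ 2 := (sub_eq_zero.1 a1).symm
  have hd : sig m δ = c := sub_eq_zero.1 b2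
  refine ⟨hβ, hγ, neg_eq_zero.1 b4, neg_eq_zero.1 a4, hc, ?_⟩
  have := h 1 1
  subst hβ hγ
  simp only [ff, mul_one, zero_mul, add_zero, zero_add, sig_one, one_pow, neg_eq_zero.1 b4,
    neg_eq_zero.1 a4, hd, ← hc] at this
  grind

omit [Fintype F] [SzField F m] in
theorem mulVec_vec_apply (M : Matrix (Fin 4) (Fin 4) F) (x y : F) (i : Fin 4) :
    (M *ᵥ vec m x y) i = M i 0 * ff m x y + M i 1 * y + M i 2 * x + M i 3 := by
  simp [Matrix.mulVec, dotProduct, Fin.sum_univ_four, vec]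

omit [Fintype F] [SzField F m] in
theorem mulVec_e0_apply (M : Matrix (Fin 4) (Fin 4) F) (i : Fin 4) :
    (M *ᵥ e0) i = M i 0 := by
  simp [Matrix.mulVec, dotProduct, Fin.sum_univ_four, e0]

omit [Fintype F] in
theorem pow_four_eq_one [CharP F 2] {x : F} (h : x ^ 4 = 1) : x = 1 := by
  have h2 : (2 : F) = 0 := two_eq_zero'
  have : (x + 1) ^ 4 = 0 := by
    have : (x + 1) ^ 4 = x ^ 4 + 1 + 2 * (2 * x ^ 3 + 3 * x ^ 2 + 2 * x) := by ring
    rw [this, h, h2]; simp [add_self']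
  have h3 : x + 1 = 0 := pow_eq_zero_iff (by norm_num) |>.1 this
  exact CharTwo.add_eq_zero.1 h3

/-- The stabiliser of the two points `∞` and `0` consists of the torus elements. -/
theorem two_point_stab {g : Matrix.SpecialLinearGroup (Fin 4) F} (hg : g ∈ Cfsg.Sz F m)
    (hinf : g • (inf : ℙ F (Fin 4 → F)) = inf) (hzero : g • pt m (0 : F) 0 = pt m 0 0) :
    ∃ k : Fˣ, g = hh m k := by
  have hchar := charTwo (F := F) m
  set M : Matrix (Fin 4) (Fin 4) F := g.1 with hM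
  -- column 0
  have c0 : M 1 0 = 0 ∧ M 2 0 = 0 ∧ M 3 0 = 0 := by
    have := hinf
    unfold inf at this
    rw [smul_mk'] at this
    have h := (mk_eq_inf_iff _ _).1 this
    simpa [mulVec_e0_apply] using h
  obtain ⟨m10, m20, m30⟩ := c0
  -- column 3
  have c3 : M 0 3 = 0 ∧ M 1 3 = 0 ∧ M 2 3 = 0 := by
    have := hzero
    unfold pt at this
    rw [smul_mk'] at this
    have h := (mk_eq_pt_iff m _ _ _ _).1 this
    have h0 := congrFun h 0
    have h1 := congrFun h 1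
    have h2 := congrFun h 2
    simp only [mulVec_vec_apply, Pi.smul_apply, smul_eq_mul] at h0 h1 h2
    simp [vec] at h0 h1 h2
    exact ⟨h0, h1, h2⟩
  obtain ⟨m03, m13, m23⟩ := c3
  -- images of affine points
  have himg : ∀ x y : F, ∃ x' y' : F, M *ᵥ vec m x y = (M *ᵥ vec m x y) 3 • vec m x' y' := by
    intro x y
    have h1 := smul_mem_of_mem_Sz m hg (pt_mem m x y)
    rcases (mem_ovoid_iff m _).1 h1 with h | ⟨x', y', h⟩
    · exfalso
      rw [← hinf] at h
      exact pt_ne_inf m x y (smul_left_cancel g h)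
    · refine ⟨x', y', ?_⟩
      unfold pt at h
      rw [smul_mk'] at h
      exact (mk_eq_pt_iff m _ _ _ _).1 h
  have hne : ∀ x y : F, M *ᵥ vec m x y ≠ 0 := fun x y =>
    (smul_ne_zero_iff_ne g).mpr (vec_ne_zero m x y)
  have hu3 : ∀ x y : F, M 3 1 * y + M 3 2 * x + M 3 3 ≠ 0 := by
    intro x y h0
    obtain ⟨x', y', h⟩ := himg x y
    apply hne x y
    rw [h, mulVec_vec_apply, m30, zero_mul, zero_add, h0, zero_smul]
  have hd : M 3 3 ≠ 0 := by simpa using hu3 0 0
  have m31 : M 3 1 = 0 := by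
    by_contra hc
    apply hu3 0 (- M 3 3 / M 3 1)
    field_simp
    ring
  have m32 : M 3 2 = 0 := by
    by_contra hc
    apply hu3 (- M 3 3 / M 3 2) 0
    field_simp
    ring
  set d := M 3 3 with hd'
  have hfe : ∀ x y : F, ff m (M 2 2 / d * x + M 2 1 / d * y) (M 1 2 / d * x + M 1 1 / d * y)
      = M 0 0 / d * ff m x y + M 0 1 / d * y + M 0 2 / d * x := by
    intro x y
    obtain ⟨x', y', h⟩ := himg x y
    have e3 : (M *ᵥ vec m x y) 3 = d := by
      rw [mulVec_vec_apply, m30, m31, m32]; simp only [zero_mul, zero_add]; exact hd'.symm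
    rw [e3] at h
    have h0 := congrFun h 0
    have h1 := congrFun h 1
    have h2 := congrFun h 2
    simp only [mulVec_vec_apply, Pi.smul_apply, smul_eq_mul, m03, m13, m23, m10, m20] at h0 h1 h2
    simp [vec] at h0 h1 h2
    have hx' : x' = M 2 2 / d * x + M 2 1 / d * y := by
      field_simp
      linear_combination - h2
    have hy' : y' = M 1 2 / d * x + M 1 1 / d * y := by
      field_simp
      linear_combination - h1
    rw [← hx', ← hy']
    field_simp
    linear_combination - h0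
  obtain ⟨f1, f2, f3, f4, f5, f6⟩ := func_eq m _ _ _ _ _ _ _ hfe
  have m21 : M 2 1 = 0 := by simpa [hd] using f1
  have m12 : M 1 2 = 0 := by simpa [hd] using f2
  have m01 : M 0 1 = 0 := by simpa [hd] using f3
  have m02 : M 0 2 = 0 := by simpa [hd] using f4
  have hdiag : M = Matrix.diagonal ![M 0 0, M 1 1, M 2 2, M 3 3] := by
    ext i j
    fin_cases i <;> fin_cases j <;> simp [m10, m20, m30, m03, m13, m23, m31, m32, m21, m12, m01, m02]
  have hdet : M 0 0 * M 1 1 * M 2 2 * M 3 3 = 1 := by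
    have := g.2
    rw [← hM, hdiag, Matrix.det_diagonal, Fin.prod_univ_four] at this
    simpa using this
  have m22 : M 2 2 ≠ 0 := by
    intro h
    rw [h] at hdet
    simp at hdet
  set α := M 2 2 / d with hα
  have hα0 : α ≠ 0 := div_ne_zero m22 hd
  let k : Fˣ := Units.mk0 α hα0
  have hk : (k : F) = α := rfl
  set K := α ^ 2 ^ m with hK
  have hK0 : K ≠ 0 := pow_ne_zero _ hα0
  have hsig : sig m α = K ^ 2 := sig_eq_sq m α
  have e00 : M 0 0 = d * (K ^ 2 * α ^ 2) := by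
    rw [← hsig, ← f5]; field_simp
  have e11 : M 1 1 = d * (K ^ 2 * α) := by
    have : α * (M 1 1 / d) = K ^ 2 * α ^ 2 := by rw [f6, f5, hsig]
    field_simp at this
    field_simp
    linear_combination this
  have e22 : M 2 2 = d * α := by rw [hα]; field_simp
  have hdK : d * K * α = 1 := by
    apply pow_four_eq_one
    rw [e00, e11, e22] at hdet
    linear_combination hdet
  refine ⟨k, ?_⟩
  have hinvk : ((k⁻¹ : Fˣ) : F) = α⁻¹ := by simp [hk]
  have hd2 : d = K⁻¹ * α⁻¹ := by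
    field_simp
    linear_combination hdK
  have hvec : ![M 0 0, M 1 1, M 2 2, M 3 3] = ![(k : F) ^ (2 ^ m + 1), (k : F) ^ (2 ^ m),
      ((k⁻¹ : Fˣ) : F) ^ (2 ^ m), ((k⁻¹ : Fˣ) : F) ^ (2 ^ m + 1)] := by
    rw [hk, hinvk]
    ext i
    fin_cases i
    · show M 0 0 = α ^ (2 ^ m + 1)
      rw [e00, pow_succ α (2 ^ m), ← hK, hd2]; field_simp
    · show M 1 1 = α ^ (2 ^ m)
      rw [e11, ← hK, hd2]; field_simp
    · show M 2 2 = α⁻¹ ^ (2 ^ m)
      rw [e22, inv_pow, ← hK, hd2]; field_simp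
    · show M 3 3 = α⁻¹ ^ (2 ^ m + 1)
      rw [inv_pow, pow_succ α (2 ^ m), ← hK, ← hd', hd2]; field_simp
  ext i j
  rw [coe_hh, ← hM, hdiag, hmat, hvec]

end Fin

end Cfsg.Agent.Lib.Helper37.Suz
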