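import Cfsg.Agent.Lib.Helper37.Suzuki.Stab

/-!
# Normal forms, orders
-/

set_option autoImplicit false

namespace Cfsg.Agent.Lib.Helper37.Suz

open Matrix
open scoped LinearAlgebra.Projectivization Pointwise

variable {F : Type*} [Field F]

/-- parametrisation of the ovoid -/
noncomputable def ovoidEquiv (F : Type*) [Field F] (m : ℕ) : Option (F × F) ≃ Cfsg.suzukiOvoid F m :=
  Equiv.ofBijective
    (fun o => match o with
      | none => ⟨inf, inf_mem m⟩
      | some (x, y) => ⟨pt m x y, pt_mem m x y⟩)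
    (by
      constructor
      · rintro (_ | ⟨x, y⟩) (_ | ⟨x', y'⟩) h
        · rfl
        · exact absurd (congrArg Subtype.val h).symm (pt_ne_inf m _ _)
        · exact absurd (congrArg Subtype.val h) (pt_ne_inf m _ _)
        · obtain ⟨rfl, rfl⟩ := pt_injective m (congrArg Subtype.val h)
          rfl
      · rintro ⟨p, hp⟩
        rcases (mem_ovoid_iff m p).1 hp with rfl | ⟨x, y, rfl⟩
        · exact ⟨none, rfl⟩
        · exact ⟨some (x, y), rfl⟩)

theorem card_ovoid [Fintype F] (m : ℕ) : Nat.card (Cfsg.suzukiOvoid F m) = Fintype.card F ^ 2 + 1 := by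
  rw [← Nat.card_congr (ovoidEquiv F m), Nat.card_eq_fintype_card, Fintype.card_option, Fintype.card_prod]
  ring

section Fin

variable [Fintype F] (m : ℕ) [SzField F m]

theorem T_smul_zero (a b : F) : T m a b • pt m (0 : F) 0 = pt m a b := by
  rw [T_smul_pt]; simp

/-- the stabiliser of `∞` -/
theorem inf_stab {g : Matrix.SpecialLinearGroup (Fin 4) F} (hg : g ∈ Cfsg.Sz F m)
    (hinf : g • (inf : ℙ F (Fin 4 → F)) = inf) : ∃ (a b : F) (k : Fˣ), g = T m a b * hh m k := by
  have h1 := smul_mem_of_mem_Sz m hg (pt_mem m 0 0)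
  rcases (mem_ovoid_iff m _).1 h1 with h | ⟨a, b, h⟩
  · exfalso
    rw [← hinf] at h
    exact pt_ne_inf m 0 0 (smul_left_cancel g h)
  · have hg' : (T m a b)⁻¹ * g ∈ Cfsg.Sz F m := mul_mem (inv_mem (T_mem m a b)) hg
    obtain ⟨k, hk⟩ := two_point_stab m hg'
      (by rw [mul_smul, hinf, inv_smul_eq_iff, T_smul_inf])
      (by rw [mul_smul, h, inv_smul_eq_iff, T_smul_zero])
    exact ⟨a, b, k, by rw [← hk, mul_inv_cancel_left]⟩

/-- Bruhat normal form -/
theorem normal_form {g : Matrix.SpecialLinearGroup (Fin 4) F} (hg : g ∈ Cfsg.Sz F m) :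
    (∃ (a b : F) (k : Fˣ), g = T m a b * hh m k) ∨
    (∃ (a b c d : F) (k : Fˣ), g = T m a b * w * (T m c d * hh m k)) := by
  have h1 := smul_mem_of_mem_Sz m hg (inf_mem m)
  rcases (mem_ovoid_iff m _).1 h1 with h | ⟨a, b, h⟩
  · left; exact inf_stab m hg h
  · right
    have hg' : (T m a b * w)⁻¹ * g ∈ Cfsg.Sz F m := mul_mem (inv_mem (mul_mem (T_mem m a b) (w_mem m))) hg
    obtain ⟨c, d, k, hk⟩ := inf_stab m hg'
      (by rw [mul_smul, h, inv_smul_eq_iff, mul_smul, w_smul_inf m, T_smul_zero])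
    exact ⟨a, b, c, d, k, by rw [← hk, mul_inv_cancel_left]⟩

theorem T_hh_injective {a b c d : F} {k l : Fˣ} (h : T m a b * hh m k = T m c d * hh m l) :
    a = c ∧ b = d ∧ k = l := by
  have h1 := congrArg (fun g : Matrix.SpecialLinearGroup (Fin 4) F => g • pt m (0 : F) 0) h
  simp only [mul_smul, hh_smul_pt, mul_zero, T_smul_zero] at h1
  obtain ⟨rfl, rfl⟩ := pt_injective m h1
  exact ⟨rfl, rfl, hh_injective m (mul_left_cancel h)⟩

/-- elements of the Suzuki group as a subtype -/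
def TS (a b : F) : Cfsg.Sz F m := ⟨T m a b, T_mem m a b⟩
/-- torus elements of the Suzuki group as a subtype -/
def hS (k : Fˣ) : Cfsg.Sz F m := ⟨hh m k, hh_mem m k⟩
/-- the inversion in the Suzuki group as a subtype -/
def wS : Cfsg.Sz F m := ⟨w, w_mem m⟩

omit [Fintype F] [SzField F m] in
theorem Sz_smul_def (g : Cfsg.Sz F m) (p : ℙ F (Fin 4 → F)) : g • p = (g : Matrix.SpecialLinearGroup (Fin 4) F) • p := rfl

/-- parametrisation of the stabiliser of `∞` -/
noncomputable def infStabEquiv : (F × F × Fˣ) ≃ MulAction.stabilizer (Cfsg.Sz F m) (inf : ℙ F (Fin 4 → F)) :=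
  Equiv.ofBijective
    (fun x => ⟨TS m x.1 x.2.1 * hS m x.2.2, by
      rw [MulAction.mem_stabilizer_iff, Sz_smul_def]
      show (T m x.1 x.2.1 * hh m x.2.2) • inf = inf
      rw [mul_smul, hh_smul_inf, T_smul_inf]⟩)
    (by
      constructor
      · rintro ⟨a, b, k⟩ ⟨c, d, l⟩ h
        have h1 : T m a b * hh m k = T m c d * hh m l := congrArg (fun g => ((g : MulAction.stabilizer (Cfsg.Sz F m) (inf : ℙ F (Fin 4 → F))) : Cfsg.Sz F m).1) h
        obtain ⟨rfl, rfl, rfl⟩ := T_hh_injective m h1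
        rfl
      · rintro ⟨⟨g, hg⟩, hs⟩
        rw [MulAction.mem_stabilizer_iff, Sz_smul_def] at hs
        obtain ⟨a, b, k, rfl⟩ := inf_stab m hg hs
        exact ⟨(a, b, k), rfl⟩)

theorem card_inf_stab : Nat.card (MulAction.stabilizer (Cfsg.Sz F m) (inf : ℙ F (Fin 4 → F))) =
    (Fintype.card F) ^ 2 * (Fintype.card F - 1) := by
  classical
  rw [← Nat.card_congr (infStabEquiv m), Nat.card_eq_fintype_card, Fintype.card_prod, Fintype.card_prod,
    Fintype.card_units]
  ring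

theorem orbit_inf : MulAction.orbit (Cfsg.Sz F m) (inf : ℙ F (Fin 4 → F)) = Cfsg.suzukiOvoid F m := by
  ext p
  constructor
  · rintro ⟨g, rfl⟩
    exact smul_mem_of_mem_Sz m g.2 (inf_mem m)
  · intro hp
    rcases (mem_ovoid_iff m p).1 hp with rfl | ⟨x, y, rfl⟩
    · exact MulAction.mem_orbit_self _
    · refine ⟨TS m x y * wS m, ?_⟩
      show (T m x y * w) • inf = pt m x y
      rw [mul_smul, w_smul_inf m, T_smul_zero]

theorem card_Sz : Nat.card (Cfsg.Sz F m) =
    (Fintype.card F) ^ 2 * ((Fintype.card F) ^ 2 + 1) * (Fintype.card F - 1) := by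
  rw [← Nat.card_congr (MulAction.orbitProdStabilizerEquivGroup (Cfsg.Sz F m) (inf : ℙ F (Fin 4 → F))),
    Nat.card_prod, card_inf_stab, orbit_inf, card_ovoid]
  ring

end Fin

end Cfsg.Agent.Lib.Helper37.Suz
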