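import Cfsg.Agent.Lib.Helper37.Suzuki.Fixity
import Cfsg.Agent.Lib.Helper37.Suzuki.Multiplier

/-!
# Subgroups of the Suzuki groups: swaps and torus elements
-/

set_option autoImplicit false

namespace Cfsg.Agent.Lib.Helper37.Suz

open Matrix TICount
open scoped LinearAlgebra.Projectivization

section General

variable {G : Type*} [Group G]

theorem dihedral_cases [Finite G] {t t' : G} (ht : t * t = 1) (ht' : t' * t' = 1) (hne : t ≠ t') :
    (∃ j : ℕ, ((t * t') ^ j * t) * t * ((t * t') ^ j * t)⁻¹ = t' ∧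
      ((t * t') ^ j * t) * t' * ((t * t') ^ j * t)⁻¹ = t) ∨
    (∃ j : ℕ, (t * t') ^ j ≠ 1 ∧ (t * t') ^ j * (t * t') ^ j = 1 ∧
      (t * t') ^ j * t = t * (t * t') ^ j ∧ (t * t') ^ j * t' = t' * (t * t') ^ j) := by
  have hti : t⁻¹ = t := inv_eq_of_mul_eq_one_left ht
  have hti' : t'⁻¹ = t' := inv_eq_of_mul_eq_one_left ht'
  set c := t * t' with hc
  have hci : c⁻¹ = t' * t := by rw [hc, _root_.mul_inv_rev, hti, hti']
  have h1 : t * c * t⁻¹ = c⁻¹ := by
    rw [hci, hc, hti, ← mul_assoc, ht, one_mul]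
  have h2 : t' * c * t'⁻¹ = c⁻¹ := by
    rw [hci, hc, hti', mul_assoc, mul_assoc, ht', mul_one]
  have h1j : ∀ j : ℕ, t * c ^ j * t⁻¹ = (c ^ j)⁻¹ := by
    intro j
    rw [← conj_pow, h1, inv_pow]
  have h2j : ∀ j : ℕ, t' * c ^ j * t'⁻¹ = (c ^ j)⁻¹ := by
    intro j
    rw [← conj_pow, h2, inv_pow]
  have hc1 : c ≠ 1 := by
    intro h
    apply hne
    rw [hc] at h
    rw [← hti']
    exact eq_inv_of_mul_eq_one_left h
  have hpos : 0 < orderOf c := orderOf_pos c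
  rcases Nat.even_or_odd' (orderOf c) with ⟨j, hj | hj⟩
  · right
    refine ⟨j, ?_, ?_, ?_, ?_⟩
    · apply pow_ne_one_of_lt_orderOf
      · omega
      · omega
    · rw [← pow_add, ← two_mul, ← hj, pow_orderOf_eq_one]
    · have hz : (c ^ j)⁻¹ = c ^ j := by
        apply inv_eq_of_mul_eq_one_left
        rw [← pow_add, ← two_mul, ← hj, pow_orderOf_eq_one]
      have := h1j j
      rw [hz] at this
      exact (mul_inv_eq_iff_eq_mul.1 this).symm
    · have hz : (c ^ j)⁻¹ = c ^ j := by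
        apply inv_eq_of_mul_eq_one_left
        rw [← pow_add, ← two_mul, ← hj, pow_orderOf_eq_one]
      have := h2j j
      rw [hz] at this
      exact (mul_inv_eq_iff_eq_mul.1 this).symm
  · left
    refine ⟨j, ?_, ?_⟩
    · have e1 : c ^ j * c ^ j * c = 1 := by
        rw [← pow_add, ← pow_succ, ← two_mul, ← hj, pow_orderOf_eq_one]
      have e2 : t * (c ^ j)⁻¹ = c ^ j * t := by
        rw [← h1j j, hti, ← mul_assoc, ← mul_assoc, ht, one_mul]
      have e3 : c ^ j * t * t * (c ^ j * t)⁻¹ = c ^ j * (t * (c ^ j)⁻¹) := by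
        rw [_root_.mul_inv_rev, hti]
        simp only [mul_assoc]
        rw [← mul_assoc t t, ht, one_mul]
      rw [e3, e2, ← mul_assoc]
      have e4 : c ^ j * c ^ j = c⁻¹ := eq_inv_of_mul_eq_one_left e1
      rw [e4, hci, mul_assoc, ht, mul_one]
    · have e1 : c ^ j * c ^ j * c = 1 := by
        rw [← pow_add, ← pow_succ, ← two_mul, ← hj, pow_orderOf_eq_one]
      have e2 : t * (c ^ j)⁻¹ = c ^ j * t := by
        rw [← h1j j, hti, ← mul_assoc, ← mul_assoc, ht, one_mul]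
      have e3 : c ^ j * t * t' * (c ^ j * t)⁻¹ = c ^ j * c * (t * (c ^ j)⁻¹) := by
        rw [_root_.mul_inv_rev, hti, hc]
        simp only [mul_assoc]
      have e5 : c ^ j * c * c ^ j = 1 := by
        rw [← e1, mul_assoc (c ^ j) c, mul_assoc (c ^ j) (c ^ j), (Commute.pow_self c j).eq]
      rw [e3, e2, ← mul_assoc, e5, one_mul]

end General

variable {F : Type*} [Field F] [Fintype F] {m : ℕ} [SzField F m]

theorem wS_mul_hS (k : Fˣ) : wS m * hS m k = hS m k⁻¹ * wS m := Subtype.ext (w_mul_hh m k)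

theorem eq_hS_of_fix {g : Cfsg.Sz F m} (h1 : g.1 • (inf : ℙ F (Fin 4 → F)) = inf)
    (h2 : g.1 • pt m (0 : F) 0 = pt m 0 0) : ∃ k : Fˣ, g = hS m k := by
  obtain ⟨k, hk⟩ := two_point_stab m g.2 h1 h2
  exact ⟨k, Subtype.ext hk⟩

theorem hS_injective {k l : Fˣ} (h : hS m k = hS m l) : k = l :=
  hh_injective m (congrArg Subtype.val h)

theorem kap_injective {k l : Fˣ} (h : sig m (k : F) * k = sig m (l : F) * l) : k = l :=
  Units.ext (sig_mul_self_injective m h)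

/-- the swapping element produced by two involutions fixing `∞` and `0` -/
theorem swap_mem (M : Subgroup (Cfsg.Sz F m)) {b b' : F} (hb : b ≠ 0) (hb' : b' ≠ 0)
    (h1 : TS m 0 b ∈ M) (h2 : wS m * TS m 0 b' * wS m ∈ M) :
    ∃ c : Fˣ, wS m * hS m c ∈ M ∧ sig m (c : F) * c * b = b' := by
  have hchar := charTwo (F := F) m
  set t := TS m 0 b with ht
  set t' : Cfsg.Sz F m := wS m * TS m 0 b' * wS m with ht'
  have htt : t * t = 1 := by
    rw [ht, TS0_mul, add_self', TS_zero]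
  have htt' : t' * t' = 1 := by
    have : t' * t' = wS m * (TS m 0 b' * (wS m * wS m) * TS m 0 b') * wS m := by
      rw [ht']; group
    rw [this, wS_mul_wS, mul_one, TS0_mul, add_self', TS_zero, mul_one, wS_mul_wS]
  have hw0 : (wS m : Cfsg.Sz F m).1 • (inf : ℙ F (Fin 4 → F)) = pt m 0 0 := w_smul_inf m
  have hw1 : (wS m : Cfsg.Sz F m).1 • pt m (0 : F) 0 = inf := w_smul_zero m
  -- an element commuting with both is trivial
  have hcomm : ∀ z : Cfsg.Sz F m, z * t = t * z → z * t' = t' * z → z * z = 1 → z = 1 := by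
    intro z hz hz' hzz
    have f1 : z.1 • (inf : ℙ F (Fin 4 → F)) = inf := by
      apply conj_fix m z hb (b' := b)
      rw [← ht, hz, mul_inv_cancel_right]
    have f2 : (wS m * z * wS m).1 • (inf : ℙ F (Fin 4 → F)) = inf := by
      apply conj_fix m _ hb' (b' := b')
      have e : wS m * z * wS m * TS m 0 b' * (wS m * z * wS m)⁻¹ =
          wS m * (z * t' * z⁻¹) * wS m := by
        rw [ht', _root_.mul_inv_rev, _root_.mul_inv_rev, wS_inv]
        group
      rw [e, hz', mul_inv_cancel_right, ht']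
      have : wS m * (wS m * TS m 0 b' * wS m) * wS m =
          (wS m * wS m) * TS m 0 b' * (wS m * wS m) := by group
      rw [this, wS_mul_wS, one_mul, mul_one]
    have f3 : z.1 • pt m (0 : F) 0 = pt m 0 0 := by
      have e : (wS m * z * wS m).1 = (wS m : Cfsg.Sz F m).1 * z.1 * (wS m : Cfsg.Sz F m).1 := rfl
      rw [e, mul_smul, mul_smul, hw0] at f2
      have := congrArg (fun p => (wS m : Cfsg.Sz F m).1 • p) f2
      beta_reduce at this
      rw [← mul_smul, hw0] at this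
      have e2 : (wS m : Cfsg.Sz F m).1 * (wS m : Cfsg.Sz F m).1 = 1 := w_mul_w
      rwa [e2, one_smul] at this
    obtain ⟨k, rfl⟩ := eq_hS_of_fix f1 f3
    rw [← hS_mul, ← hS_one m] at hzz
    have hk := hS_injective hzz
    have hk1 : k = 1 := unit_sq_eq_one m (inv_eq_of_mul_eq_one_left hk)
    rw [hk1, hS_one]
  have hne : t ≠ t' := by
    intro h
    have h3 : t = 1 := hcomm t rfl (by rw [← h]) htt
    exact TS0_ne_one m hb h3
  rcases dihedral_cases htt htt' hne with ⟨j, hj1, hj2⟩ | ⟨j, hj1, hj2, hj3, hj4⟩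
  · set v := (t * t') ^ j * t with hv
    have hvM : v ∈ M := mul_mem (pow_mem (mul_mem h1 h2) j) h1
    have g1 : (wS m * v) * TS m 0 b * (wS m * v)⁻¹ = TS m 0 b' := by
      have e : (wS m * v) * TS m 0 b * (wS m * v)⁻¹ = wS m * (v * t * v⁻¹) * (wS m)⁻¹ := by
        rw [ht]; group
      rw [e, hj1, ht', wS_inv]
      have : wS m * (wS m * TS m 0 b' * wS m) * wS m =
          (wS m * wS m) * TS m 0 b' * (wS m * wS m) := by group
      rw [this, wS_mul_wS, one_mul, mul_one]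
    have f1 : (wS m * v).1 • (inf : ℙ F (Fin 4 → F)) = inf := conj_fix m _ hb' g1
    have f2 : (v * wS m).1 • (inf : ℙ F (Fin 4 → F)) = inf := by
      apply conj_fix m _ hb (b' := b')
      have e : v * wS m * TS m 0 b' * (v * wS m)⁻¹ = v * t' * v⁻¹ := by
        rw [ht', _root_.mul_inv_rev, wS_inv]; group
      rw [e, hj2]
    have f3 : (wS m * v).1 • pt m (0 : F) 0 = pt m 0 0 := by
      have e : (v * wS m).1 = v.1 * (wS m : Cfsg.Sz F m).1 := rfl
      rw [e, mul_smul, hw0] at f2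
      have e' : (wS m * v).1 = (wS m : Cfsg.Sz F m).1 * v.1 := rfl
      rw [e', mul_smul, f2, hw0]
    obtain ⟨c, hc⟩ := eq_hS_of_fix f1 f3
    refine ⟨c, ?_, ?_⟩
    · rw [← hc, ← mul_assoc, wS_mul_wS, one_mul]
      exact hvM
    · rw [hc, hS_conj_TS] at g1
      exact (TS_injective m g1).2
  · exact absurd (hcomm _ hj3 hj4 hj2) hj1

/-- torus elements produced by two central involutions and an involution fixing `0` -/
theorem torus_mem (M : Subgroup (Cfsg.Sz F m)) {b b₁ b' : F} (hb : b ≠ 0) (hb₁ : b₁ ≠ 0)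
    (hb' : b' ≠ 0) (h : TS m 0 b ∈ M) (h₁ : TS m 0 b₁ ∈ M) (h2 : wS m * TS m 0 b' * wS m ∈ M) :
    ∃ k : Fˣ, hS m k ∈ M ∧ sig m (k : F) * k * b = b₁ := by
  obtain ⟨c, hc, hcb⟩ := swap_mem M hb hb' h h2
  obtain ⟨c₁, hc₁, hcb₁⟩ := swap_mem M hb₁ hb' h₁ h2
  refine ⟨c₁⁻¹ * c, ?_, ?_⟩
  · have e : hS m (c₁⁻¹ * c) = (wS m * hS m c₁)⁻¹ * (wS m * hS m c) := by
      rw [hS_mul, hS_inv]; group
    rw [e]
    exact mul_mem (inv_mem hc₁) hc
  · have h0 : sig m (c₁ : F) * c₁ ≠ 0 := mul_ne_zero (sig_ne_zero m c₁.ne_zero) c₁.ne_zero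
    apply mul_left_cancel₀ h0
    rw [hcb₁, ← hcb]
    simp only [Units.val_mul, Units.val_inv_eq_inv_val, sig_mul, sig_inv]
    have h1 : sig m (c₁ : F) ≠ 0 := sig_ne_zero m c₁.ne_zero
    have h2 : (c₁ : F) ≠ 0 := c₁.ne_zero
    field_simp

theorem invol_zero_of_mem (M : Subgroup (Cfsg.Sz F m)) {b : F} (hb : b ≠ 0) (h : TS m 0 b ∈ M)
    {g : Cfsg.Sz F m} (hg : g ∈ M) (hg0 : g.1 • (inf : ℙ F (Fin 4 → F)) = pt m 0 0) :
    ∃ b' : F, b' ≠ 0 ∧ wS m * TS m 0 b' * wS m ∈ M := by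
  have hx : (wS m * g).1 • (inf : ℙ F (Fin 4 → F)) = inf := by
    have e : (wS m * g).1 = (wS m : Cfsg.Sz F m).1 * g.1 := rfl
    rw [e, mul_smul, hg0]
    exact w_smul_zero m
  obtain ⟨κ, hκ, hconj⟩ := fix_inf_conj m _ hx
  refine ⟨κ * b, mul_ne_zero hκ hb, ?_⟩
  rw [← hconj]
  have e : wS m * (wS m * g * TS m 0 b * (wS m * g)⁻¹) * wS m =
      (wS m * wS m) * (g * TS m 0 b * g⁻¹) * ((wS m)⁻¹ * wS m) := by group
  rw [e, wS_mul_wS, inv_mul_cancel, one_mul, mul_one]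
  exact mul_mem (mul_mem hg h) (inv_mem hg)

theorem comm_formula (k : Fˣ) (a b : F) :
    TS m a b * hS m k * (TS m a b)⁻¹ * (hS m k)⁻¹ =
      TS m (a + k * a) (b + sig m (k : F) * k * (b + sig m a * a) + sig m a * (k * a)) := by
  rw [mul_assoc (TS m a b), mul_assoc (TS m a b), TS_inv, hS_conj_TS, TS_mul]

theorem comm_inj {k : Fˣ} (hk : k ≠ 1) {a b c d : F}
    (h : TS m a b * hS m k * (TS m a b)⁻¹ * (hS m k)⁻¹ =
      TS m c d * hS m k * (TS m c d)⁻¹ * (hS m k)⁻¹) : TS m a b = TS m c d := by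
  have hchar := charTwo (F := F) m
  rw [comm_formula, comm_formula] at h
  obtain ⟨h1, h2⟩ := TS_injective m h
  have k1 := unit_add_one_ne_zero m hk
  have k2 := sig_unit_mul_add_one_ne_zero m hk
  have hac : a = c := by
    apply mul_left_cancel₀ k1
    linear_combination h1
  subst hac
  have hbd : b = d := by
    apply mul_left_cancel₀ k2
    linear_combination h2
  rw [hbd]

theorem mem_of_comm_mem (M : Subgroup (Cfsg.Sz F m)) {k : Fˣ} (hk : k ≠ 1) (hkM : hS m k ∈ M)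
    {x y : F} (h : TS m x y * hS m k * (TS m x y)⁻¹ * (hS m k)⁻¹ ∈ M) : TS m x y ∈ M := by
  have hmem : ∀ s : ↥(M ⊓ Qsub F m),
      (s : Cfsg.Sz F m) * hS m k * (s : Cfsg.Sz F m)⁻¹ * (hS m k)⁻¹ ∈ M ⊓ Qsub F m := by
    rintro ⟨s, hs1, a, b, rfl⟩
    have hs1' : TS m a b ∈ M := hs1
    refine Subgroup.mem_inf.2 ⟨mul_mem (mul_mem (mul_mem hs1' hkM) (inv_mem hs1')) (inv_mem hkM), ?_⟩
    show TS m a b * hS m k * (TS m a b)⁻¹ * (hS m k)⁻¹ ∈ Qsub F m
    rw [comm_formula]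
    exact TS_mem m _ _
  let φ : ↥(M ⊓ Qsub F m) → ↥(M ⊓ Qsub F m) := fun s => ⟨_, hmem s⟩
  have hinj : Function.Injective φ := by
    rintro ⟨s, hs1, a, b, rfl⟩ ⟨s', hs1', a', b', rfl⟩ hss
    apply Subtype.ext
    exact comm_inj hk (congrArg Subtype.val hss)
  have hsurj := Finite.injective_iff_surjective.1 hinj
  obtain ⟨⟨s, hs1, a, b, rfl⟩, hs⟩ := hsurj ⟨_, Subgroup.mem_inf.2
    ⟨h, by rw [comm_formula]; exact TS_mem m _ _⟩⟩
  have := comm_inj hk (congrArg Subtype.val hs)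
  rwa [← this]

/-- if `M` has two distinct central involutions of `Q` and an involution fixing `0`, then `M ∩ Q`
is transitive on the `M`-orbit of `∞` without `∞` -/
theorem TS_mem_of_point (M : Subgroup (Cfsg.Sz F m)) {b b₁ b' : F} (hb : b ≠ 0) (hb₁ : b₁ ≠ 0)
    (hne : b ≠ b₁) (hb' : b' ≠ 0) (h : TS m 0 b ∈ M) (h₁ : TS m 0 b₁ ∈ M)
    (h2 : wS m * TS m 0 b' * wS m ∈ M) {g : Cfsg.Sz F m} (hg : g ∈ M) {x y : F}
    (hgxy : g.1 • (inf : ℙ F (Fin 4 → F)) = pt m x y) : TS m x y ∈ M := by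
  obtain ⟨k, hkM, hk⟩ := torus_mem M hb hb₁ hb' h h₁ h2
  have hk1 : k ≠ 1 := by
    rintro rfl
    apply hne
    rw [← hk]; simp
  set u := TS m x y with hu
  let M' : Subgroup (Cfsg.Sz F m) := M.comap (MulAut.conj u).toMonoidHom
  have hM' : ∀ z, z ∈ M' ↔ u * z * u⁻¹ ∈ M := fun z => Iff.rfl
  have c1 : ∀ c, TS m 0 c ∈ M → TS m 0 c ∈ M' := by
    intro c hc
    rw [hM', hu, TS_comm_zero, mul_inv_cancel_right]
    exact hc
  have hg' : u⁻¹ * g * u ∈ M' := by
    rw [hM']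
    have : u * (u⁻¹ * g * u) * u⁻¹ = g := by group
    rwa [this]
  have hg0 : (u⁻¹ * g * u).1 • (inf : ℙ F (Fin 4 → F)) = pt m 0 0 := by
    have e : (u⁻¹ * g * u).1 = u.1⁻¹ * g.1 * u.1 := rfl
    have e1 : u.1 • (inf : ℙ F (Fin 4 → F)) = inf := T_smul_inf m x y
    rw [e, mul_smul, mul_smul, e1, hgxy, inv_smul_eq_iff]
    exact (T_smul_zero m x y).symm
  obtain ⟨b'', hb'', h2'⟩ := invol_zero_of_mem M' hb (c1 b h) hg' hg0
  obtain ⟨k', hkM', hk'⟩ := torus_mem M' hb hb₁ hb'' (c1 b h) (c1 b₁ h₁) h2'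
  have hkk : k' = k := by
    apply kap_injective (m := m)
    apply mul_right_cancel₀ hb
    rw [hk, hk']
  rw [hkk, hM'] at hkM'
  exact mem_of_comm_mem M hk1 hkM (mul_mem hkM' (inv_mem hkM))

end Cfsg.Agent.Lib.Helper37.Suz
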