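import Cfsg.Agent.Lib.Helper37.Suzuki.SubA
import Cfsg.Agent.Lib.Helper37.Suzuki.Rigid3

/-!
# Subgroups of the Suzuki groups: the subfield case
-/

set_option autoImplicit false

namespace Cfsg.Agent.Lib.Helper37.Suz

open Matrix TICount
open scoped LinearAlgebra.Projectivization

variable {F : Type*} [Field F] [Fintype F] {m : ℕ} [SzField F m]

/-- a subgroup in standard position -/
structure StdPos (M : Subgroup (Cfsg.Sz F m)) : Prop where
  w_mem : wS m ∈ M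
  ex : ∃ b₀ b₁ : F, b₀ ≠ 0 ∧ b₁ ≠ 0 ∧ b₀ ≠ b₁ ∧ TS m 0 b₀ ∈ M ∧ TS m 0 b₁ ∈ M

namespace StdPos

variable {M : Subgroup (Cfsg.Sz F m)}

theorem point (h : StdPos M) {g : Cfsg.Sz F m} (hg : g ∈ M) {x y : F}
    (hgxy : g.1 • (inf : ℙ F (Fin 4 → F)) = pt m x y) : TS m x y ∈ M := by
  obtain ⟨b₀, b₁, h0, h1, hne, hb₀, hb₁⟩ := h.ex
  exact TS_mem_of_point M h0 h1 hne h0 hb₀ hb₁ (mul_mem (mul_mem h.w_mem hb₀) h.w_mem) hg hgxy

theorem torus (h : StdPos M) {b b' : F} (hb : b ≠ 0) (hb' : b' ≠ 0) (h1 : TS m 0 b ∈ M)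
    (h2 : TS m 0 b' ∈ M) : ∃ k : Fˣ, hS m k ∈ M ∧ sig m (k : F) * k * b = b' :=
  torus_mem M hb hb' hb h1 h2 (mul_mem (mul_mem h.w_mem h1) h.w_mem)

theorem smul_mem {k : Fˣ} {b : F} (hk : hS m k ∈ M) (hb : TS m 0 b ∈ M) :
    TS m 0 (sig m (k : F) * k * b) ∈ M := by
  have := mul_mem (mul_mem hk hb) (inv_mem hk)
  rwa [hS_conj_TS, mul_zero] at this

theorem a_mem (h : StdPos M) {b : F} (hb : b ≠ 0) (h1 : TS m 0 b ∈ M) : TS m (b / sig m b) 0 ∈ M := by
  apply h.point (mul_mem (mul_mem h.w_mem h1) h.w_mem)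
  have e : (wS m * TS m 0 b * wS m).1 = (w : Matrix.SpecialLinearGroup (Fin 4) F) * T m 0 b * w := rfl
  have hff : ff m 0 b = sig m b := by simp [ff]
  rw [e, mul_smul, mul_smul, w_smul_inf m, T_smul_zero, w_smul_pt m 0 b (by rw [hff]; exact sig_ne_zero m hb),
    hff, zero_div]

theorem sig_div_self {a : F} (ha : a ≠ 0) : sig m (sig m a * a) / (sig m a * a) = a := by
  rw [sig_mul, sig_sig]
  have := sig_ne_zero m ha
  field_simp

theorem inv_mem' (h : StdPos M) {b : F} (hb : b ≠ 0) (h1 : TS m 0 b ∈ M) : TS m 0 b⁻¹ ∈ M := by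
  have hchar := charTwo (F := F) m
  have h2 := h.a_mem hb h1
  have h3 := mul_mem h2 h2
  rw [TS_mul, add_self', add_zero, zero_add, sig_div, sig_sig] at h3
  have e : sig m b / b ^ 2 * (b / sig m b) = b⁻¹ := by
    have := sig_ne_zero m hb
    field_simp
  rwa [e] at h3

theorem hS_pow (k : Fˣ) (n : ℕ) : hS m (k ^ n) = hS m k ^ n := (hSHom (F := F) m).map_pow k n

theorem one_mem' (h : StdPos M) : TS m 0 (1 : F) ∈ M := by
  have hchar := charTwo (F := F) m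
  obtain ⟨b, -, hb, -, -, hbM, -⟩ := h.ex
  have hbi := h.inv_mem' hb hbM
  obtain ⟨k, hk, hkb⟩ := h.torus hb (inv_ne_zero hb) hbM hbi
  set l := k ^ (2 ^ (2 * m)) with hl
  have hlM : hS m l ∈ M := by
    rw [hl, hS_pow]
    exact pow_mem hk _
  have hll : ((l : Fˣ) : F) ^ 2 = k := by
    rw [hl, Units.val_pow_eq_pow_val, ← pow_mul, ← pow_succ, ← SzField.card (F := F) (m := m),
      FiniteField.pow_card]
  have h2 := smul_mem hlM hbM
  have e : sig m (l : F) * l * b = 1 := by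
    have e1 : (sig m (l : F) * l * b) ^ 2 = 1 := by
      rw [mul_pow, mul_pow, ← sig_pow, hll, pow_two b, ← mul_assoc, hkb, inv_mul_cancel₀ hb]
    have e2 : (sig m (l : F) * l * b + 1) ^ 2 = 0 := by
      rw [add_pow_char, e1, one_pow, add_self']
    exact CharTwo.add_eq_zero.1 (pow_eq_zero_iff (by norm_num) |>.1 e2)
  rwa [e] at h2

theorem mul_mem' (h : StdPos M) {b b' : F} (h1 : TS m 0 b ∈ M) (h2 : TS m 0 b' ∈ M) :
    TS m 0 (b * b') ∈ M := by
  by_cases hb : b = 0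
  · rw [hb, zero_mul, TS_zero]
    exact M.one_mem
  · obtain ⟨k, hk, hkb⟩ := h.torus one_ne_zero hb h.one_mem' h1
    rw [mul_one] at hkb
    rw [← hkb]
    exact smul_mem hk h2

/-- the subfield attached to a subgroup in standard position -/
def L (h : StdPos M) : Subfield F where
  carrier := {b | TS m 0 b ∈ M}
  mul_mem' := fun h1 h2 => h.mul_mem' h1 h2
  one_mem' := h.one_mem'
  add_mem' := by
    intro a b h1 h2
    have := M.mul_mem h1 h2
    rwa [TS0_mul] at this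
  zero_mem' := by
    show TS m 0 0 ∈ M
    rw [TS_zero]
    exact M.one_mem
  neg_mem' := by
    intro x hx
    have hchar := charTwo (F := F) m
    rwa [CharTwo.neg_eq]
  inv_mem' := by
    intro x hx
    by_cases hx0 : x = 0
    · subst hx0
      rwa [_root_.inv_zero]
    · exact h.inv_mem' hx0 hx

theorem mem_L (h : StdPos M) {b : F} : b ∈ h.L ↔ TS m 0 b ∈ M := Iff.rfl

theorem sig_mem_L (h : StdPos M) {b : F} (hb : b ∈ h.L) : sig m b ∈ h.L := pow_mem hb _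

theorem TS_a0_mem (h : StdPos M) {a : F} (ha : a ∈ h.L) : TS m a 0 ∈ M := by
  by_cases ha0 : a = 0
  · rw [ha0, TS_zero]
    exact M.one_mem
  · have hc : (sig m a * a)⁻¹ ∈ h.L := h.L.inv_mem (h.L.mul_mem (h.sig_mem_L ha) ha)
    have hc0 : (sig m a * a)⁻¹ ≠ 0 := inv_ne_zero (mul_ne_zero (sig_ne_zero m ha0) ha0)
    have h1 := h.a_mem hc0 hc
    have e : (sig m a * a)⁻¹ / sig m (sig m a * a)⁻¹ = a := by
      rw [sig_inv, inv_div_inv, sig_div_self ha0]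
    rwa [e] at h1

theorem mem_L_of_kap (h : StdPos M) {a : F} (ha : sig m a * a ∈ h.L) : a ∈ h.L := by
  by_cases ha0 : a = 0
  · rw [ha0]
    exact h.L.zero_mem
  · rw [← sig_div_self (m := m) ha0]
    exact h.L.div_mem (h.sig_mem_L ha) ha

theorem TS_mem_iff (h : StdPos M) {a b : F} : TS m a b ∈ M ↔ a ∈ h.L ∧ b ∈ h.L := by
  have hchar := charTwo (F := F) m
  have e : TS m a b = TS m a 0 * TS m 0 b := by rw [TS_mul_zero, zero_add]
  constructor
  · intro hab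
    have h1 := M.mul_mem hab hab
    rw [TS_mul, add_self', add_self', zero_add] at h1
    have ha : a ∈ h.L := h.mem_L_of_kap h1
    refine ⟨ha, ?_⟩
    have h2 := M.mul_mem (M.inv_mem (h.TS_a0_mem ha)) hab
    rwa [e, inv_mul_cancel_left] at h2
  · rintro ⟨ha, hb⟩
    rw [e]
    exact M.mul_mem (h.TS_a0_mem ha) hb

theorem hS_mem_L (h : StdPos M) {k : Fˣ} (hk : hS m k ∈ M) : (k : F) ∈ h.L := by
  apply h.mem_L_of_kap
  have := smul_mem hk h.one_mem'
  rwa [mul_one] at this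

theorem borel_mem (h : StdPos M) {a b : F} {l : Fˣ} (hg : TS m a b * hS m l ∈ M) :
    TS m a b ∈ M ∧ hS m l ∈ M := by
  have h1 := M.mul_mem (M.mul_mem hg h.one_mem') (M.inv_mem hg)
  have e : TS m a b * hS m l * TS m 0 1 * (TS m a b * hS m l)⁻¹ =
      TS m a b * (hS m l * TS m 0 1 * (hS m l)⁻¹) * (TS m a b)⁻¹ := by group
  rw [e, hS_conj_TS, mul_zero, TS_comm_zero, mul_inv_cancel_right, mul_one] at h1
  have h0 : sig m (l : F) * l ≠ 0 := mul_ne_zero (sig_ne_zero m l.ne_zero) l.ne_zero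
  obtain ⟨k, hk, hkl⟩ := h.torus one_ne_zero h0 h.one_mem' h1
  rw [mul_one] at hkl
  have hkl' : k = l := kap_injective hkl
  rw [hkl'] at hk
  refine ⟨?_, hk⟩
  have := M.mul_mem hg (M.inv_mem hk)
  rwa [mul_inv_cancel_right] at this

theorem normal_form (h : StdPos M) {g : Cfsg.Sz F m} (hg : g ∈ M) :
    (∃ (a b : F) (l : Fˣ), a ∈ h.L ∧ b ∈ h.L ∧ (l : F) ∈ h.L ∧ g = TS m a b * hS m l) ∨
    (∃ (a b c d : F) (l : Fˣ), a ∈ h.L ∧ b ∈ h.L ∧ c ∈ h.L ∧ d ∈ h.L ∧ (l : F) ∈ h.L ∧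
      g = TS m a b * wS m * (TS m c d * hS m l)) := by
  rcases normal_form_S g with ⟨a, b, l, rfl⟩ | ⟨a, b, c, d, l, rfl⟩
  · left
    obtain ⟨h1, h2⟩ := h.borel_mem hg
    obtain ⟨ha, hb⟩ := h.TS_mem_iff.1 h1
    exact ⟨a, b, l, ha, hb, h.hS_mem_L h2, rfl⟩
  · right
    have hpt : (TS m a b * wS m * (TS m c d * hS m l)).1 • (inf : ℙ F (Fin 4 → F)) = pt m a b := by
      have e : (TS m a b * wS m * (TS m c d * hS m l)).1 = T m a b * w * (T m c d * hh m l) := rfl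
      rw [e, mul_smul, mul_smul, mul_smul, hh_smul_inf, T_smul_inf, w_smul_inf m, T_smul_zero]
    have h1 := h.point hg hpt
    have h2 : TS m c d * hS m l ∈ M := by
      have := M.mul_mem (M.inv_mem (M.mul_mem h1 h.w_mem)) hg
      rwa [inv_mul_cancel_left] at this
    obtain ⟨h3, h4⟩ := h.borel_mem h2
    obtain ⟨ha, hb⟩ := h.TS_mem_iff.1 h1
    obtain ⟨hc, hd⟩ := h.TS_mem_iff.1 h3
    exact ⟨a, b, c, d, l, ha, hb, hc, hd, h.hS_mem_L h4, rfl⟩

end StdPos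

end Cfsg.Agent.Lib.Helper37.Suz
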