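import Cfsg.Agent.Lib.Helper37.Suzuki.SubB

/-!
# Subgroups of the Suzuki groups: a subgroup in standard position lies in a subfield subgroup
-/

set_option autoImplicit false

namespace Cfsg.Agent.Lib.Helper37.Suz

open Matrix TICount
open scoped LinearAlgebra.Projectivization

variable {F : Type*} [Field F] [Fintype F] {m : ℕ} [SzField F m]

namespace StdPos

variable {M : Subgroup (Cfsg.Sz F m)}

theorem wS_not_mem_Binf : (wS m : Cfsg.Sz F m) ∉ Binf F m := by
  intro this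
  rw [mem_Binf] at this
  have h2 := w_smul_inf (F := F) m
  have h3 : (wS m : Cfsg.Sz F m).1 = w := rfl
  rw [h3, h2] at this
  exact pt_ne_inf m 0 0 this

theorem card_L (h : StdPos M) (hM : M ≠ ⊤) :
    ∃ k : ℕ, 1 ≤ k ∧ k < m ∧ 2 * k + 1 ∣ 2 * m + 1 ∧ Nat.card h.L = 2 ^ (2 * k + 1) := by
  have hchar := charTwo (F := F) m
  have h1 := Module.natCard_eq_pow_finrank (K := h.L) (V := F)
  have hd : 0 < Module.finrank h.L F := Module.finrank_pos
  have hdvd : Nat.card h.L ∣ 2 ^ (2 * m + 1) := by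
    rw [← SzField.card (F := F) (m := m), ← Nat.card_eq_fintype_card, h1]
    exact dvd_pow_self _ hd.ne'
  obtain ⟨n, hn, hcard⟩ := (Nat.dvd_prime_pow Nat.prime_two).1 hdvd
  have hn0 : n ≠ 0 := by
    rintro rfl
    have : 1 < Nat.card h.L := Finite.one_lt_card
    rw [hcard] at this
    omega
  have hdiv : n ∣ 2 * m + 1 := (exists_subfield_iff (F := F) m n hn0).1 ⟨h.L, hcard⟩
  have hn1 : n ≠ 1 := by
    rintro rfl
    obtain ⟨b₀, b₁, h0, h1', hne, hb₀, hb₁⟩ := h.ex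
    have key : ∀ b : F, b ≠ 0 → b ∈ h.L → b = 1 := by
      intro b hb0 hb
      let _ : Fintype h.L := Fintype.ofFinite _
      have := FiniteField.pow_card (⟨b, hb⟩ : h.L)
      rw [← Nat.card_eq_fintype_card, hcard, pow_one] at this
      have h2 : b ^ 2 = b := congrArg Subtype.val this
      have h3 : b * b = b * 1 := by rw [mul_one, ← pow_two, h2]
      exact mul_left_cancel₀ hb0 h3
    exact hne ((key b₀ h0 hb₀).trans (key b₁ h1' hb₁).symm)
  obtain ⟨k, rfl⟩ : ∃ k, n = 2 * k + 1 := by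
    rcases Nat.even_or_odd' n with ⟨j, rfl | rfl⟩
    · exfalso
      obtain ⟨c, hc⟩ := hdiv
      have : 2 * m + 1 = 2 * (j * c) := by rw [hc]; ring
      omega
    · exact ⟨j, rfl⟩
  refine ⟨k, by omega, ?_, hdiv, hcard⟩
  have hkm : k ≠ m := by
    rintro rfl
    apply hM
    apply overgroup' k M _ (fun hle => wS_not_mem_Binf (hle h.w_mem))
    have hbij : Function.Bijective (h.L.subtype) := by
      apply Function.Injective.bijective_of_nat_card_le h.L.subtype.injective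
      rw [hcard, Nat.card_eq_fintype_card, SzField.card (F := F) (m := k)]
    have hall : ∀ x : F, x ∈ h.L := by
      intro x
      obtain ⟨y, rfl⟩ := hbij.2 x
      exact y.2
    rintro _ ⟨a, b, rfl⟩
    exact h.TS_mem_iff.2 ⟨hall a, hall b⟩
  omega

theorem le_range {K : Type*} [Field K] [Fintype K] {k : ℕ} [SzField K k] (h : StdPos M)
    (ι : K →+* F) (hι : Compat k m ι) (hsurj : ∀ x ∈ h.L, ∃ y, ι y = x) :
    M ≤ (szMap ι hι).range := by
  have hT : ∀ a ∈ h.L, ∀ b ∈ h.L, TS m a b ∈ (szMap ι hι).range := by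
    intro a ha b hb
    obtain ⟨a', rfl⟩ := hsurj a ha
    obtain ⟨b', rfl⟩ := hsurj b hb
    exact ⟨TS k a' b', szMap_TS hι a' b'⟩
  have hH : ∀ l : Fˣ, (l : F) ∈ h.L → hS m l ∈ (szMap ι hι).range := by
    intro l hl
    obtain ⟨l', hl'⟩ := hsurj _ hl
    have hl0 : l' ≠ 0 := by
      rintro rfl
      rw [map_zero] at hl'
      exact l.ne_zero hl'.symm
    refine ⟨hS k (Units.mk0 l' hl0), ?_⟩
    rw [szMap_hS]
    congr 1
    apply Units.ext
    exact hl'
  have hW : wS m ∈ (szMap ι hι).range := ⟨wS k, szMap_wS hι⟩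
  intro g hg
  rcases h.normal_form hg with ⟨a, b, l, ha, hb, hl, rfl⟩ | ⟨a, b, c, d, l, ha, hb, hc, hd, hl, rfl⟩
  · exact mul_mem (hT a ha b hb) (hH l hl)
  · exact mul_mem (mul_mem (hT a ha b hb) hW) (mul_mem (hT c hc d hd) (hH l hl))

theorem le_subfield (h : StdPos M) (hM : M ≠ ⊤) :
    ∃ (K : Type) (_ : Field K) (_ : Fintype K) (k : ℕ), 1 ≤ k ∧ k < m ∧
      Fintype.card K = 2 ^ (2 * k + 1) ∧ 2 * k + 1 ∣ 2 * m + 1 ∧
      ∃ S : Subgroup ↥(Cfsg.Sz F m), Nonempty (↥S ≃* ↥(Cfsg.Sz K k)) ∧ M ≤ S := by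
  obtain ⟨k, hk1, hkm, hdiv, hcard⟩ := h.card_L hM
  have : Fact (Nat.Prime 2) := ⟨Nat.prime_two⟩
  let _ : Fintype (GaloisField 2 (2 * k + 1)) := Fintype.ofFinite _
  let _ : Fintype h.L := Fintype.ofFinite _
  have hcK : Fintype.card (GaloisField 2 (2 * k + 1)) = 2 ^ (2 * k + 1) := by
    rw [← Nat.card_eq_fintype_card, GaloisField.card 2 (2 * k + 1) (by omega)]
  have : SzField (GaloisField 2 (2 * k + 1)) k := ⟨hk1, hcK⟩
  let e : GaloisField 2 (2 * k + 1) ≃+* h.L := FiniteField.ringEquivOfCardEq (by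
    rw [hcK, ← Nat.card_eq_fintype_card, hcard])
  let ι : GaloisField 2 (2 * k + 1) →+* F := h.L.subtype.comp e.toRingHom
  have hι : Compat k m ι := compat_of_dvd hdiv ι
  refine ⟨GaloisField 2 (2 * k + 1), inferInstance, inferInstance, k, hk1, hkm, hcK, hdiv,
    (szMap ι hι).range, ⟨(MonoidHom.ofInjective (szMap_injective ι hι)).symm⟩, ?_⟩
  apply h.le_range ι hι
  intro x hx
  exact ⟨e.symm ⟨x, hx⟩, by simp [ι]⟩

end StdPos

end Cfsg.Agent.Lib.Helper37.Suz
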