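import Cfsg.Agent.Lib.Helper37.Suzuki.SubC

/-!
# Subgroups of the Suzuki groups: the theorem
-/

set_option autoImplicit false

namespace Cfsg.Agent.Lib.Helper37.Suz

open Matrix TICount
open scoped LinearAlgebra.Projectivization

variable {F : Type*} [Field F] [Fintype F] {m : ℕ} [SzField F m]

/-- the conclusion of the subgroup theorem -/
def Concl (M : Subgroup (Cfsg.Sz F m)) : Prop :=
    (∃ P : Sylow 2 ↥(Cfsg.Sz F m),
      M ≤ Subgroup.normalizer ((P : Subgroup ↥(Cfsg.Sz F m)) : Set ↥(Cfsg.Sz F m))) ∨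
    (∃ U : Subgroup ↥(Cfsg.Sz F m), IsCyclic ↥U ∧
      Nat.card ↥U ∈ ({2 ^ (2 * m + 1) - 1, 2 ^ (2 * m + 1) + 2 ^ (m + 1) + 1,
        2 ^ (2 * m + 1) - 2 ^ (m + 1) + 1} : Set ℕ) ∧
      M ≤ Subgroup.normalizer (U : Set ↥(Cfsg.Sz F m))) ∨
    (∃ (K : Type) (_ : Field K) (_ : Fintype K) (k : ℕ), 1 ≤ k ∧ k < m ∧
      Fintype.card K = 2 ^ (2 * k + 1) ∧ 2 * k + 1 ∣ 2 * m + 1 ∧
      ∃ S : Subgroup ↥(Cfsg.Sz F m), Nonempty (↥S ≃* ↥(Cfsg.Sz K k)) ∧ M ≤ S)

/-- the conjugate `u⁻¹ M u` -/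
def cjS (u : Cfsg.Sz F m) (M : Subgroup (Cfsg.Sz F m)) : Subgroup (Cfsg.Sz F m) :=
  M.comap (MulAut.conj u).toMonoidHom

theorem mem_cjS {u : Cfsg.Sz F m} {M : Subgroup (Cfsg.Sz F m)} {z : Cfsg.Sz F m} :
    z ∈ cjS u M ↔ u * z * u⁻¹ ∈ M := Iff.rfl

theorem le_map_of_cjS_le {u : Cfsg.Sz F m} {M X : Subgroup (Cfsg.Sz F m)} (h : cjS u M ≤ X) :
    M ≤ X.map (MulAut.conj u).toMonoidHom := by
  intro g hg
  refine ⟨u⁻¹ * g * u, h ?_, ?_⟩
  · rw [mem_cjS]
    have : u * (u⁻¹ * g * u) * u⁻¹ = g := by group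
    rwa [this]
  · show u * (u⁻¹ * g * u) * u⁻¹ = g
    group

theorem Concl.of_cjS {u : Cfsg.Sz F m} {M : Subgroup (Cfsg.Sz F m)} (h : Concl (cjS u M)) :
    Concl M := by
  have : Fact (Nat.Prime 2) := ⟨Nat.prime_two⟩
  rcases h with ⟨P, hP⟩ | ⟨U, hU1, hU2, hU3⟩ | ⟨K, i1, i2, k, h1, h2, h3, h4, S, ⟨e⟩, hS⟩
  · left
    have hsurj : Function.Surjective (MulAut.conj u).toMonoidHom := (MulAut.conj u).surjective
    refine ⟨P.mapSurjective hsurj, ?_⟩
    rw [Sylow.coe_mapSurjective, ← Subgroup.map_equiv_normalizer_eq]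
    exact le_map_of_cjS_le hP
  · right; left
    refine ⟨U.map (MulAut.conj u).toMonoidHom, isCyclic_map_conj U u, ?_, ?_⟩
    · rw [card_map_conj]
      exact hU2
    · rw [← Subgroup.map_equiv_normalizer_eq]
      exact le_map_of_cjS_le hU3
  · right; right
    refine ⟨K, i1, i2, k, h1, h2, h3, h4, S.map (MulAut.conj u).toMonoidHom, ⟨?_⟩,
      le_map_of_cjS_le hS⟩
    exact (Subgroup.equivMapOfInjective S _ (MulAut.conj u).injective).symm.trans e

theorem Concl.of_le_Binf {M : Subgroup (Cfsg.Sz F m)} (h : M ≤ Binf F m) : Concl M := by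
  left
  refine ⟨QSylow F m, ?_⟩
  rw [coe_QSylow, normalizer_Q]
  exact h

theorem Concl.of_le_normalizer_Tor {M : Subgroup (Cfsg.Sz F m)} {x : Cfsg.Sz F m} (hx : OddT x)
    (h : M ≤ Subgroup.normalizer (Tor m x : Set (Cfsg.Sz F m))) : Concl M := by
  right; left
  refine ⟨Tor m x, hx.isCyclic, ?_, h⟩
  have hc := SzField.card (F := F) (m := m)
  have hs := s_add_two_lt (F := F) m
  rw [← hc]
  rcases hx.card with h1 | h1 | h1
  · left; exact h1
  · right; left; exact h1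
  · right; right
    show Nat.card (Tor m x) = Fintype.card F - 2 ^ (m + 1) + 1
    omega

theorem Concl.of_odd {M : Subgroup (Cfsg.Sz F m)} (hodd : Odd (Nat.card M)) : Concl M := by
  by_cases hM : ∃ g ∈ M, g ≠ 1
  · obtain ⟨g, hg, hg1⟩ := hM
    have hle := odd_subgroup_le_Tor M hodd hg hg1
    have hO : OddT g := by
      apply OddT.of_odd hg1
      have : orderOf g ∣ Nat.card M := by
        have := orderOf_dvd_natCard (⟨g, hg⟩ : M)
        rwa [← Subgroup.orderOf_coe] at this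
      exact Odd.of_dvd_nat hodd this
    exact Concl.of_le_normalizer_Tor hO (hle.trans Subgroup.le_normalizer)
  · push Not at hM
    apply Concl.of_le_Binf
    intro g hg
    rw [hM g hg]
    exact one_mem _

theorem Concl.burnside {M : Subgroup (Cfsg.Sz F m)} {b₀ : F} (hb₀ : b₀ ≠ 0) (h0 : TS m 0 b₀ ∈ M)
    (huniq : ∀ b, TS m 0 b ∈ M → b = 0 ∨ b = b₀) : Concl M := by
  have hchar := charTwo (F := F) m
  have : Fact (Nat.Prime 2) := ⟨Nat.prime_two⟩
  have ht1 : TS m 0 b₀ ≠ 1 := TS0_ne_one m hb₀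
  -- elements of `M` fixing `∞` are in `Q`
  have hB : ∀ g ∈ M, g ∈ Binf F m → g ∈ Qsub F m := by
    intro g hg hgB
    obtain ⟨a, b, k, hk⟩ := inf_stab m g.2 hgB
    have hg' : g = TS m a b * hS m k := Subtype.ext hk
    have h1 := M.mul_mem (M.mul_mem hg h0) (M.inv_mem hg)
    have e : g * TS m 0 b₀ * g⁻¹ =
        TS m a b * (hS m k * TS m 0 b₀ * (hS m k)⁻¹) * (TS m a b)⁻¹ := by
      rw [hg']; group
    rw [e, hS_conj_TS, mul_zero, TS_comm_zero, mul_inv_cancel_right] at h1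
    rcases huniq _ h1 with h2 | h2
    · exfalso
      exact mul_ne_zero (mul_ne_zero (sig_ne_zero m k.ne_zero) k.ne_zero) hb₀ h2
    · have h3 : sig m (k : F) * k = sig m ((1 : Fˣ) : F) * (1 : Fˣ) := by
        simp only [Units.val_one, sig_one, mul_one]
        exact mul_right_cancel₀ hb₀ (by rw [h2, one_mul])
      have hk1 : k = 1 := kap_injective h3
      rw [hg', hk1, hS_one, mul_one]
      exact TS_mem m a b
  have hzero : ∀ a : F, sig m a * a = 0 → a = 0 := by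
    intro a ha
    apply sig_mul_self_injective m
    simp only [sig_zero, mul_zero]
    exact ha
  have hcomm : ∀ x ∈ M, ∀ y ∈ M, x ∈ Qsub F m → y ∈ Qsub F m → x * y = y * x := by
    rintro _ hx _ hy ⟨a, b, rfl⟩ ⟨c, d, rfl⟩
    have h1 := M.mul_mem hx hx
    have h2 := M.mul_mem hy hy
    rw [TS_mul, add_self', add_self', zero_add] at h1 h2
    rw [TS_mul, TS_mul]
    have key : sig m a * c = sig m c * a := by
      rcases huniq _ h1 with e1 | e1
      · rw [hzero a e1]; simp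
      · rcases huniq _ h2 with e2 | e2
        · rw [hzero c e2]; simp
        · have : a = c := sig_mul_self_injective m (e1.trans e2.symm)
          rw [this]
    rw [key, add_comm a c, add_comm b d]
  let t₀ : M := ⟨TS m 0 b₀, h0⟩
  have hzp : IsPGroup 2 (Subgroup.zpowers t₀) := by
    apply IsPGroup.of_card (n := 1)
    rw [Nat.card_zpowers, pow_one]
    apply orderOf_eq_prime
    · apply Subtype.ext
      show TS m 0 b₀ ^ 2 = 1
      rw [pow_two, TS0_mul, add_self', TS_zero]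
    · intro h
      exact ht1 (congrArg Subtype.val h)
  obtain ⟨P, hP⟩ := hzp.exists_le_sylow
  have ht₀P : t₀ ∈ P := hP (Subgroup.mem_zpowers t₀)
  have hPQ : ∀ x : M, x ∈ P → (x : Cfsg.Sz F m) ∈ Qsub F m := by
    have h2 : IsPGroup 2 ((P : Subgroup M).map M.subtype) := P.2.map _
    obtain ⟨P', hP'⟩ := h2.exists_le_sylow
    obtain ⟨x₀, hx₀⟩ := exists_conj_mem_Q m P'
    have h3 : x₀⁻¹ * TS m 0 b₀ * x₀ ∈ Qsub F m := (hx₀ _).1 (hP' ⟨t₀, ht₀P, rfl⟩)
    have h4 : x₀⁻¹ ∈ Subgroup.normalizer (Qsub F m : Set (Cfsg.Sz F m)) :=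
      TI_Q m x₀⁻¹ _ (TS_mem m 0 b₀) ht1 (by rwa [inv_inv])
    intro x hx
    have h5 := (hx₀ _).1 (hP' ⟨x, hx, rfl⟩)
    rw [Subgroup.mem_normalizer_iff] at h4
    rw [h4 x, inv_inv]
    exact h5
  have hN : Subgroup.normalizer ((P : Subgroup M) : Set M) ≤
      Subgroup.centralizer ((P : Subgroup M) : Set M) := by
    intro g hg
    have h1 : g * t₀ * g⁻¹ ∈ (P : Subgroup M) := (Subgroup.mem_normalizer_iff.1 hg t₀).1 ht₀P
    have h2 := hPQ _ h1
    have e : ((g * t₀ * g⁻¹ : M) : Cfsg.Sz F m) =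
        (g : Cfsg.Sz F m) * TS m 0 b₀ * (g : Cfsg.Sz F m)⁻¹ := rfl
    rw [e] at h2
    have h3 : (g : Cfsg.Sz F m) ∈ Subgroup.normalizer (Qsub F m : Set (Cfsg.Sz F m)) :=
      TI_Q m (g : Cfsg.Sz F m) (TS m 0 b₀) (TS_mem m 0 b₀) ht1 h2
    rw [normalizer_Q] at h3
    have h4 := hB g g.2 h3
    rw [Subgroup.mem_centralizer_iff]
    intro y hy
    apply Subtype.ext
    exact hcomm y y.2 g g.2 (hPQ y hy) h4
  have hcompl := MonoidHom.ker_transferSylow_isComplement' P hN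
  have hodd : ¬ 2 ∣ Nat.card (MonoidHom.transferSylow P hN).ker :=
    MonoidHom.not_dvd_card_ker_transferSylow P hN
  by_cases hne : ∃ x ∈ (MonoidHom.transferSylow P hN).ker, x ≠ 1
  · obtain ⟨x, hx, hx1⟩ := hne
    have hodd1 : Odd (Nat.card ((MonoidHom.transferSylow P hN).ker.map M.subtype)) := by
      rw [Subgroup.card_map_of_injective M.subtype_injective]
      exact Nat.odd_iff.2 (Nat.two_dvd_ne_zero.1 hodd)
    have hxM₁ : (x : Cfsg.Sz F m) ∈ (MonoidHom.transferSylow P hN).ker.map M.subtype :=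
      ⟨x, hx, rfl⟩
    have hx1' : (x : Cfsg.Sz F m) ≠ 1 := fun h => hx1 (Subtype.ext h)
    have hle := odd_subgroup_le_Tor _ hodd1 hxM₁ hx1'
    have hO : OddT (x : Cfsg.Sz F m) := by
      apply OddT.of_odd hx1'
      have h5 : orderOf (x : Cfsg.Sz F m) ∣
          Nat.card ((MonoidHom.transferSylow P hN).ker.map M.subtype) := by
        have := orderOf_dvd_natCard
          (⟨(x : Cfsg.Sz F m), hxM₁⟩ : (MonoidHom.transferSylow P hN).ker.map M.subtype)
        rwa [← Subgroup.orderOf_coe] at this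
      exact Odd.of_dvd_nat hodd1 h5
    apply Concl.of_le_normalizer_Tor hO
    intro g hg
    apply hO.TI g x (self_mem_Tor _) hx1'
    apply hle
    have hcj := (MonoidHom.normal_ker (MonoidHom.transferSylow P hN)).conj_mem x hx ⟨g, hg⟩
    have e : g * (x : Cfsg.Sz F m) * g⁻¹ = M.subtype ((⟨g, hg⟩ : M) * x * (⟨g, hg⟩ : M)⁻¹) := rfl
    rw [e]
    exact Subgroup.mem_map_of_mem _ hcj
  · push Not at hne
    have hbot : (MonoidHom.transferSylow P hN).ker = ⊥ := (Subgroup.eq_bot_iff_forall _).2 hne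
    have htop : (P : Subgroup M) = ⊤ := by
      have := hcompl.sup_eq_top
      rwa [hbot, bot_sup_eq] at this
    apply Concl.of_le_Binf
    intro g hg
    apply Q_le_Binf
    apply hPQ ⟨g, hg⟩
    show (⟨g, hg⟩ : M) ∈ (P : Subgroup M)
    rw [htop]
    trivial

theorem cjS_ne_top {u : Cfsg.Sz F m} {M : Subgroup (Cfsg.Sz F m)} (hM : M ≠ ⊤) : cjS u M ≠ ⊤ := by
  intro h
  apply hM
  rw [eq_top_iff]
  intro g _
  have h1 : u⁻¹ * g * u ∈ cjS u M := by rw [h]; trivial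
  rw [mem_cjS] at h1
  have : u * (u⁻¹ * g * u) * u⁻¹ = g := by group
  rwa [this] at h1

theorem Concl.aux2 {M : Subgroup (Cfsg.Sz F m)} (hM : M ≠ ⊤) {b₀ b₁ : F} (hb₀ : b₀ ≠ 0)
    (hb₁ : b₁ ≠ 0) (hne : b₀ ≠ b₁) (h0 : TS m 0 b₀ ∈ M) (h1 : TS m 0 b₁ ∈ M)
    {g : Cfsg.Sz F m} (hg : g ∈ M) (hg0 : g.1 • (inf : ℙ F (Fin 4 → F)) = pt m 0 0) :
    Concl M := by
  obtain ⟨b', hb', h2⟩ := invol_zero_of_mem M hb₀ h0 hg hg0
  obtain ⟨c, hc, -⟩ := swap_mem M hb₀ hb' h0 h2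
  obtain ⟨l, hl⟩ := exists_unit_sq m c
  apply Concl.of_cjS (u := hS m l)
  have hκ : sig m (l : F) * l ≠ 0 := mul_ne_zero (sig_ne_zero m l.ne_zero) l.ne_zero
  have hmem : ∀ b, TS m 0 b ∈ M → TS m 0 ((sig m (l : F) * l)⁻¹ * b) ∈ cjS (hS m l) M := by
    intro b hb
    rw [mem_cjS, hS_conj_TS, mul_zero, mul_inv_cancel_left₀ hκ]
    exact hb
  have hstd : StdPos (cjS (hS m l) M) := by
    refine ⟨?_, (sig m (l : F) * l)⁻¹ * b₀, (sig m (l : F) * l)⁻¹ * b₁,
      mul_ne_zero (inv_ne_zero hκ) hb₀, mul_ne_zero (inv_ne_zero hκ) hb₁, ?_, hmem _ h0, hmem _ h1⟩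
    · rw [mem_cjS]
      have e : hS m l * wS m * (hS m l)⁻¹ = wS m * hS m c := by
        rw [← hl, hS_mul, ← hS_inv, ← mul_assoc, wS_mul_hS, inv_inv]
      rw [e]
      exact hc
    · intro h
      exact hne (mul_left_cancel₀ (inv_ne_zero hκ) h)
  right; right
  exact hstd.le_subfield (cjS_ne_top hM)

theorem Concl.aux1 {M : Subgroup (Cfsg.Sz F m)} (hM : M ≠ ⊤) {b₀ : F} (hb₀ : b₀ ≠ 0)
    (h0 : TS m 0 b₀ ∈ M) : Concl M := by
  by_cases huniq : ∀ b, TS m 0 b ∈ M → b = 0 ∨ b = b₀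
  · exact Concl.burnside hb₀ h0 huniq
  · push Not at huniq
    obtain ⟨b₁, h1, hb₁, hne⟩ := huniq
    by_cases hle : M ≤ Binf F m
    · exact Concl.of_le_Binf hle
    · obtain ⟨g, hg, hgB⟩ := SetLike.not_le_iff_exists.1 hle
      rw [mem_Binf] at hgB
      rcases (mem_ovoid_iff m _).1 (smul_mem_of_mem_Sz m g.2 (inf_mem m)) with h | ⟨x, y, hxy⟩
      · exact absurd h hgB
      · apply Concl.of_cjS (u := TS m x y)
        have c1 : ∀ c, TS m 0 c ∈ M → TS m 0 c ∈ cjS (TS m x y) M := by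
          intro c hc
          rw [mem_cjS, TS_comm_zero, mul_inv_cancel_right]
          exact hc
        have hg' : (TS m x y)⁻¹ * g * TS m x y ∈ cjS (TS m x y) M := by
          rw [mem_cjS]
          have : TS m x y * ((TS m x y)⁻¹ * g * TS m x y) * (TS m x y)⁻¹ = g := by group
          rwa [this]
        have hg0 : ((TS m x y)⁻¹ * g * TS m x y).1 • (inf : ℙ F (Fin 4 → F)) = pt m 0 0 := by
          have e : ((TS m x y)⁻¹ * g * TS m x y).1 = (T m x y)⁻¹ * g.1 * T m x y := rfl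
          rw [e, mul_smul, mul_smul, T_smul_inf, hxy, inv_smul_eq_iff]
          exact (T_smul_zero m x y).symm
        exact Concl.aux2 (cjS_ne_top hM) hb₀ hb₁ (Ne.symm hne) (c1 _ h0) (c1 _ h1) hg' hg0

theorem subgroup_theorem (M : Subgroup (Cfsg.Sz F m)) (hM : M ≠ ⊤) : Concl M := by
  by_cases hodd : Odd (Nat.card M)
  · exact Concl.of_odd hodd
  · have heven : 2 ∣ Nat.card M := by
      rw [Nat.not_odd_iff_even] at hodd
      exact hodd.two_dvd
    have : Fact (Nat.Prime 2) := ⟨Nat.prime_two⟩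
    obtain ⟨t, ht⟩ := exists_prime_orderOf_dvd_card' 2 heven
    have ht' : orderOf (t : Cfsg.Sz F m) = 2 := by rw [Subgroup.orderOf_coe, ht]
    obtain ⟨x, b₀, hb₀, hxb⟩ := invol_conj ht'
    apply Concl.of_cjS (u := x)
    apply Concl.aux1 (cjS_ne_top hM) hb₀
    rw [mem_cjS, ← hxb]
    have : x * (x⁻¹ * (t : Cfsg.Sz F m) * x) * x⁻¹ = t := by group
    rw [this]
    exact t.2

end Cfsg.Agent.Lib.Helper37.Suz
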