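import Cfsg.Agent.Lib.Helper37.Suzuki.Trans

/-!
# The Sylow 2-subgroup `Q` of the Suzuki group
-/

set_option autoImplicit false

namespace Cfsg.Agent.Lib.Helper37.Suz

open Matrix
open scoped LinearAlgebra.Projectivization Pointwise commutatorElement

variable {F : Type*} [Field F] [Fintype F] (m : ℕ) [SzField F m]

theorem TS_mul (a b c d : F) : TS m a b * TS m c d = TS m (a + c) (b + d + sig m a * c) :=
  Subtype.ext (T_mul m a b c d)

theorem TS_zero : TS m (0 : F) 0 = 1 := Subtype.ext (T_zero m)

theorem TS_inv (a b : F) : (TS m a b)⁻¹ = TS m a (b + sig m a * a) := Subtype.ext (T_inv m a b)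

theorem TS_injective {a b c d : F} (h : TS m a b = TS m c d) : a = c ∧ b = d :=
  T_injective m (congrArg Subtype.val h)

/-- The subgroup `Q` of translations. -/
def Qsub (F : Type*) [Field F] [Fintype F] (m : ℕ) [SzField F m] : Subgroup (Cfsg.Sz F m) where
  carrier := {g | ∃ a b, g = TS m a b}
  mul_mem' := by
    rintro _ _ ⟨a, b, rfl⟩ ⟨c, d, rfl⟩
    exact ⟨_, _, TS_mul m a b c d⟩
  one_mem' := ⟨0, 0, (TS_zero m).symm⟩
  inv_mem' := by
    rintro _ ⟨a, b, rfl⟩
    exact ⟨_, _, TS_inv m a b⟩

theorem mem_Qsub {g : Cfsg.Sz F m} : g ∈ Qsub F m ↔ ∃ a b, g = TS m a b := Iff.rfl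

theorem TS_mem (a b : F) : TS m a b ∈ Qsub F m := ⟨a, b, rfl⟩

/-- elements of `Q` -/
def TQ (a b : F) : Qsub F m := ⟨TS m a b, TS_mem m a b⟩

theorem TQ_mul (a b c d : F) : TQ m a b * TQ m c d = TQ m (a + c) (b + d + sig m a * c) :=
  Subtype.ext (TS_mul m a b c d)

theorem TQ_zero : TQ m (0 : F) 0 = 1 := Subtype.ext (TS_zero m)

theorem TQ_inv (a b : F) : (TQ m a b)⁻¹ = TQ m a (b + sig m a * a) := Subtype.ext (TS_inv m a b)

theorem TQ_injective {a b c d : F} (h : TQ m a b = TQ m c d) : a = c ∧ b = d :=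
  TS_injective m (congrArg Subtype.val h)

theorem TQ_surj (x : Qsub F m) : ∃ a b, x = TQ m a b := by
  obtain ⟨a, b, h⟩ := x.2
  exact ⟨a, b, Subtype.ext h⟩

/-- parametrisation of `Q` -/
noncomputable def QEquiv : F × F ≃ Qsub F m :=
  Equiv.ofBijective (fun x => TQ m x.1 x.2)
    ⟨fun x y h => Prod.ext (TQ_injective m h).1 (TQ_injective m h).2,
     fun x => by obtain ⟨a, b, h⟩ := TQ_surj m x; exact ⟨(a, b), h.symm⟩⟩

theorem card_Qsub : Nat.card (Qsub F m) = Fintype.card F ^ 2 := by
  rw [← Nat.card_congr (QEquiv m), Nat.card_eq_fintype_card, Fintype.card_prod]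
  ring

theorem TQ_comm (a b c d : F) :
    TQ m a b * TQ m c d * (TQ m a b)⁻¹ * (TQ m c d)⁻¹ = TQ m 0 (sig m a * c + sig m c * a) := by
  have := charTwo (F := F) m
  have h2 : (2 : F) = 0 := two_eq_zero'
  rw [TQ_inv, TQ_inv, TQ_mul, TQ_mul, TQ_mul]
  congr 1
  · grind
  · simp only [sig_add]
    grind

theorem TQ_sq (a b : F) : TQ m a b ^ 2 = TQ m 0 (sig m a * a) := by
  have := charTwo (F := F) m
  rw [pow_two, TQ_mul, add_self', add_self', zero_add]

theorem TQ_pow_four (a b : F) : TQ m a b ^ 4 = 1 := by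
  have := charTwo (F := F) m
  have : TQ m a b ^ 4 = (TQ m a b ^ 2) ^ 2 := by rw [← pow_mul]
  rw [this, TQ_sq, TQ_sq, sig_zero, zero_mul, TQ_zero]

theorem mem_center_Q (x : Qsub F m) : x ∈ Subgroup.center (Qsub F m) ↔ ∃ b, x = TQ m 0 b := by
  have := charTwo (F := F) m
  constructor
  · intro hx
    obtain ⟨a, b, rfl⟩ := TQ_surj m x
    rw [Subgroup.mem_center_iff] at hx
    by_cases ha : a = 0
    · subst ha; exact ⟨b, rfl⟩
    · exfalso
      obtain ⟨z, hz0, hz1⟩ := exists_ne_zero_one (F := F) m
      have h1 := hx (TQ m (a * z) 0)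
      rw [TQ_mul, TQ_mul] at h1
      have h2 := (TQ_injective m h1).2
      rw [sig_mul] at h2
      have hsa := sig_ne_zero m ha
      have h3 : sig m z = z := by
        have h4 : sig m a * a * sig m z = sig m a * a * z := by
          have h5 : (0 : F) + b + sig m a * sig m z * a = b + 0 + sig m a * (a * z) := h2
          have h6 : sig m a * sig m z * a = sig m a * (a * z) := by
            have h7 : b + sig m a * sig m z * a = b + sig m a * (a * z) := by simpa using h5
            exact add_left_cancel h7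
          linear_combination h6
        exact mul_left_cancel₀ (mul_ne_zero hsa ha) h4
      rcases (sig_eq_self_iff m z).1 h3 with h | h
      · exact hz0 h
      · exact hz1 h
  · rintro ⟨b, rfl⟩
    rw [Subgroup.mem_center_iff]
    intro y
    obtain ⟨c, d, rfl⟩ := TQ_surj m y
    rw [TQ_mul, TQ_mul]
    congr 1
    · ring
    · simp; ring

theorem mem_commutator_Q (x : Qsub F m) : x ∈ commutator (Qsub F m) ↔ ∃ b, x = TQ m 0 b := by
  have hchar := charTwo (F := F) m
  constructor
  · intro hx
    rw [commutator_eq_closure] at hx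
    induction hx using Subgroup.closure_induction with
    | mem x hx =>
      obtain ⟨u, v, rfl⟩ := hx
      obtain ⟨a, b, rfl⟩ := TQ_surj m u
      obtain ⟨c, d, rfl⟩ := TQ_surj m v
      exact ⟨_, TQ_comm m a b c d⟩
    | one => exact ⟨0, (TQ_zero m).symm⟩
    | mul x y _ _ hx hy =>
      obtain ⟨b, rfl⟩ := hx
      obtain ⟨c, rfl⟩ := hy
      exact ⟨_, by rw [TQ_mul, add_zero]⟩
    | inv x _ hx =>
      obtain ⟨b, rfl⟩ := hx
      exact ⟨_, TQ_inv m 0 b⟩
  · rintro ⟨b, rfl⟩
    obtain ⟨z, hz0, hz1⟩ := exists_ne_zero_one (F := F) m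
    have hu : z + sig m z ≠ 0 := by
      intro h
      have h3 : sig m z = z := (CharTwo.add_eq_zero.1 h).symm
      rcases (sig_eq_self_iff m z).1 h3 with h | h
      · exact hz0 h
      · exact hz1 h
    obtain ⟨a, ha⟩ := sig_mul_self_surjective m (b / (z + sig m z))
    simp only at ha
    have : TQ m 0 b = ⁅TQ m a 0, TQ m (a * z) 0⁆ := by
      rw [commutatorElement_def, TQ_comm]
      congr 1
      rw [sig_mul]
      have : sig m a * (a * z) + sig m a * sig m z * a = (sig m a * a) * (z + sig m z) := by ring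
      rw [this, ha]
      field_simp
    rw [this]
    exact Subgroup.commutator_mem_commutator (Subgroup.mem_top _) (Subgroup.mem_top _)

theorem center_eq_commutator_Q : Subgroup.center (Qsub F m) = commutator (Qsub F m) := by
  ext x
  rw [mem_center_Q, mem_commutator_Q]

theorem card_center_Q : Nat.card (Subgroup.center (Qsub F m)) = Fintype.card F := by
  have e : F ≃ Subgroup.center (Qsub F m) :=
    Equiv.ofBijective (fun b => ⟨TQ m 0 b, (mem_center_Q m _).2 ⟨b, rfl⟩⟩)
      ⟨fun x y h => (TQ_injective m (congrArg Subtype.val h)).2,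
       fun x => by
        obtain ⟨b, hb⟩ := (mem_center_Q m _).1 x.2
        exact ⟨b, Subtype.ext hb.symm⟩⟩
  rw [← Nat.card_congr e, Nat.card_eq_fintype_card]

theorem exponent_Q : Monoid.exponent (Qsub F m) = 4 := by
  apply Nat.dvd_antisymm
  · apply Monoid.exponent_dvd_of_forall_pow_eq_one
    intro x
    obtain ⟨a, b, rfl⟩ := TQ_surj m x
    exact TQ_pow_four m a b
  · have h : orderOf (TQ m (1 : F) 0) = 2 ^ (1 + 1) := by
      have : Fact (Nat.Prime 2) := ⟨Nat.prime_two⟩
      apply orderOf_eq_prime_pow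
      · rw [pow_one, TQ_sq, ← TQ_zero m]
        intro h
        have := (TQ_injective m h).2
        simp at this
      · exact TQ_pow_four m 1 0
    have h5 := Monoid.order_dvd_exponent (TQ m (1 : F) 0)
    rw [h] at h5
    exact h5

theorem factorization_card_Sz : (Nat.card (Cfsg.Sz F m)).factorization 2 = 2 * (2 * m + 1) := by
  rw [card_Sz, SzField.card (F := F) (m := m)]
  set q := 2 ^ (2 * m + 1) with hq
  have hq1 : 2 ≤ q := by
    calc 2 = 2 ^ 1 := by norm_num
      _ ≤ 2 ^ (2 * m + 1) := Nat.pow_le_pow_right (by norm_num) (by omega)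
  have hqe : 2 ∣ q := dvd_pow_self 2 (by omega)
  have h1 : ¬ 2 ∣ (q ^ 2 + 1) := by
    intro h
    have : 2 ∣ q ^ 2 := dvd_pow hqe (by norm_num)
    omega
  have h2 : ¬ 2 ∣ (q - 1) := by
    intro h
    omega
  rw [Nat.factorization_mul (by positivity) (by omega), Nat.factorization_mul (by positivity) (by positivity)]
  simp only [Finsupp.add_apply]
  rw [Nat.factorization_eq_zero_of_not_dvd h1, Nat.factorization_eq_zero_of_not_dvd h2, hq, ← pow_mul,
    Nat.Prime.factorization_pow Nat.prime_two]
  simp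
  ring

/-- `Q` as a Sylow 2-subgroup -/
noncomputable def QSylow (F : Type*) [Field F] [Fintype F] (m : ℕ) [SzField F m] : Sylow 2 (Cfsg.Sz F m) :=
  Sylow.ofCard (Qsub F m) (by
    rw [card_Qsub, factorization_card_Sz, SzField.card (F := F) (m := m), ← pow_mul]
    congr 1
    ring)

theorem coe_QSylow : (QSylow F m : Subgroup (Cfsg.Sz F m)) = Qsub F m := Sylow.coe_ofCard _ _

/-- transport of the relevant structure along an isomorphism -/
theorem sylow_structure_transport {P Q : Type*} [Group P] [Group Q] (e : P ≃* Q) (n : ℕ)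
    (h1 : Subgroup.center Q = commutator Q) (h2 : Nat.card (Subgroup.center Q) = n) :
    Subgroup.center P = commutator P ∧ Nat.card (Subgroup.center P) = n := by
  constructor
  · have hc : ∀ x : P, x ∈ Subgroup.center P ↔ e x ∈ Subgroup.center Q := by
      intro x
      rw [Subgroup.mem_center_iff, Subgroup.mem_center_iff]
      constructor
      · intro h y
        obtain ⟨y, rfl⟩ := e.surjective y
        rw [← map_mul, ← map_mul, h y]
      · intro h y
        apply e.injective
        rw [map_mul, map_mul, h (e y)]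
    have hk : ∀ x : P, x ∈ commutator P ↔ e x ∈ commutator Q := by
      intro x
      have : commutator Q = (commutator P).map e.toMonoidHom := by
        rw [commutator_def, commutator_def, Subgroup.map_commutator]
        have : (⊤ : Subgroup P).map e.toMonoidHom = ⊤ := by
          rw [← MonoidHom.range_eq_map, MonoidHom.range_eq_top]
          exact e.surjective
        rw [this]
      rw [this]
      constructor
      · intro h; exact ⟨x, h, rfl⟩
      · rintro ⟨y, hy, hxy⟩
        have : y = x := e.injective hxy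
        rwa [← this]
    ext x
    rw [hc, hk, h1]
  · rw [← h2]
    exact Nat.card_congr (Subgroup.centerCongr e).toEquiv

theorem sylow_two_structure (P : Sylow 2 (Cfsg.Sz F m)) :
    Nat.card P = (Fintype.card F) ^ 2 ∧ Monoid.exponent P = 4 ∧
      Subgroup.center P = commutator P ∧ Nat.card (Subgroup.center P) = Fintype.card F := by
  have e0 : P ≃* QSylow F m := Sylow.equiv P (QSylow F m)
  have e1 : (QSylow F m : Subgroup (Cfsg.Sz F m)) ≃* Qsub F m := MulEquiv.subgroupCongr (coe_QSylow m)
  let e : P ≃* Qsub F m := e0.trans e1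
  refine ⟨?_, ?_, ?_⟩
  · rw [Nat.card_congr e.toEquiv, card_Qsub]
  · rw [Monoid.exponent_eq_of_mulEquiv e, exponent_Q]
  · exact sylow_structure_transport e _ (center_eq_commutator_Q m) (card_center_Q m)

end Cfsg.Agent.Lib.Helper37.Suz
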