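import Cfsg.Agent.Lib.Helper37.Suzuki.CN

/-!
# The embedding of Suzuki groups induced by a field embedding
-/

set_option autoImplicit false

namespace Cfsg.Agent.Lib.Helper37.Suz

open Matrix
open scoped LinearAlgebra.Projectivization

variable {K : Type*} [Field K] [Fintype K] (k : ℕ) [SzField K k]
variable {F : Type*} [Field F] [Fintype F] (m : ℕ) [SzField F m]

/-- the field embedding commutes with the Tits endomorphisms -/
def Compat (ι : K →+* F) : Prop := ∀ x, ι (sig k x) = sig m (ι x)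

variable {k m}

omit [Fintype K] [SzField K k] in
include m in
theorem Compat.pow {ι : K →+* F} (hι : Compat k m ι) (x : K) : ι (x ^ 2 ^ k) = (ι x) ^ 2 ^ m := by
  have := charTwo (F := F) m
  have h1 : (ι (x ^ 2 ^ k)) ^ 2 = ((ι x) ^ 2 ^ m) ^ 2 := by
    rw [← map_pow, ← sig_eq_sq, ← sig_eq_sq, hι]
  have h2 : (ι (x ^ 2 ^ k) + (ι x) ^ 2 ^ m) ^ 2 = 0 := by
    rw [add_pow_char, h1, add_self']
  exact CharTwo.add_eq_zero.1 (pow_eq_zero_iff (by norm_num) |>.1 h2)

omit [Fintype K] [SzField K k] [Fintype F] [SzField F m] in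
theorem Compat.ff {ι : K →+* F} (hι : Compat k m ι) (x y : K) :
    ι (Suz.ff k x y) = Suz.ff m (ι x) (ι y) := by
  simp only [Suz.ff, map_add, map_mul, map_pow, hι x, hι y]

omit [Fintype K] [SzField K k] [Fintype F] [SzField F m] in
theorem map_T {ι : K →+* F} (hι : Compat k m ι) (a b : K) :
    Matrix.SpecialLinearGroup.map ι (T k a b) = T m (ι a) (ι b) := by
  ext i j
  rw [Matrix.SpecialLinearGroup.map_apply_coe, coe_T, coe_T]
  fin_cases i <;> fin_cases j <;> simp [Tmat, hι a, hι.ff]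

omit [Fintype K] [SzField K k] [Fintype F] [SzField F m] in
theorem map_w (ι : K →+* F) :
    Matrix.SpecialLinearGroup.map ι (w : Matrix.SpecialLinearGroup (Fin 4) K) = w := by
  ext i j
  rw [Matrix.SpecialLinearGroup.map_apply_coe, coe_w, coe_w]
  fin_cases i <;> fin_cases j <;> simp [wmat]

omit [Fintype K] [SzField K k] in
theorem map_hh {ι : K →+* F} (hι : Compat k m ι) (l : Kˣ) :
    Matrix.SpecialLinearGroup.map ι (hh k l) = hh m (Units.map (ι : K →* F) l) := by
  have h1 := hι.pow (l : K)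
  ext i j
  rw [Matrix.SpecialLinearGroup.map_apply_coe, coe_hh, coe_hh]
  fin_cases i <;> fin_cases j <;> simp [hmat, pow_succ, h1]

theorem map_mem {ι : K →+* F} (hι : Compat k m ι) {g : Matrix.SpecialLinearGroup (Fin 4) K}
    (hg : g ∈ Cfsg.Sz K k) : Matrix.SpecialLinearGroup.map ι g ∈ Cfsg.Sz F m := by
  rcases normal_form k hg with ⟨a, b, l, rfl⟩ | ⟨a, b, c, d, l, rfl⟩
  · rw [map_mul, map_T hι, map_hh hι]
    exact mul_mem (T_mem m _ _) (hh_mem m _)
  · rw [map_mul, map_mul, map_mul, map_T hι, map_T hι, map_hh hι, map_w]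
    exact mul_mem (mul_mem (T_mem m _ _) (w_mem m)) (mul_mem (T_mem m _ _) (hh_mem m _))

/-- the embedding `Sz(K) → Sz(F)` -/
noncomputable def szMap (ι : K →+* F) (hι : Compat k m ι) : Cfsg.Sz K k →* Cfsg.Sz F m :=
  ((Matrix.SpecialLinearGroup.map ι).comp (Cfsg.Sz K k).subtype).codRestrict (Cfsg.Sz F m)
    (fun g => map_mem hι g.2)

theorem szMap_TS {ι : K →+* F} (hι : Compat k m ι) (a b : K) :
    szMap ι hι (TS k a b) = TS m (ι a) (ι b) := Subtype.ext (map_T hι a b)

theorem szMap_hS {ι : K →+* F} (hι : Compat k m ι) (l : Kˣ) :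
    szMap ι hι (hS k l) = hS m (Units.map (ι : K →* F) l) := Subtype.ext (map_hh hι l)

theorem szMap_wS {ι : K →+* F} (hι : Compat k m ι) :
    szMap ι hι (wS k) = wS m := Subtype.ext (map_w ι)

/-- normal form in the subtype -/
theorem normal_form_S (g : Cfsg.Sz F m) :
    (∃ (a b : F) (l : Fˣ), g = TS m a b * hS m l) ∨
    (∃ (a b c d : F) (l : Fˣ), g = TS m a b * wS m * (TS m c d * hS m l)) := by
  rcases normal_form m g.2 with ⟨a, b, l, h⟩ | ⟨a, b, c, d, l, h⟩
  · exact Or.inl ⟨a, b, l, Subtype.ext h⟩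
  · exact Or.inr ⟨a, b, c, d, l, Subtype.ext h⟩

/-- two homomorphisms agreeing on the generators agree -/
theorem hom_ext {G : Type*} [Group G] (α β : Cfsg.Sz F m →* G)
    (hT : ∀ a b, α (TS m a b) = β (TS m a b)) (hh' : ∀ l, α (hS m l) = β (hS m l))
    (hw : α (wS m) = β (wS m)) : α = β := by
  ext g
  rcases normal_form_S g with ⟨a, b, l, rfl⟩ | ⟨a, b, c, d, l, rfl⟩
  · rw [map_mul, map_mul, hT, hh']
  · simp only [map_mul, hT, hh', hw]

end Cfsg.Agent.Lib.Helper37.Suz
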