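import Cfsg.Agent.Lib.Helper37.Suzuki.Types
import Cfsg.Agent.Lib.Helper37.IrredNorm

/-!
# The non-split tori of the Suzuki groups: basic properties
-/

set_option autoImplicit false

namespace Cfsg.Agent.Lib.Helper37.Suz

open Matrix TICount
open scoped LinearAlgebra.Projectivization

variable {F : Type*} [Field F] [Fintype F] (m : ℕ) [SzField F m]

theorem XS_exists_prime {x : Cfsg.Sz F m} (hx : x ∈ XS m) :
    ∃ p : ℕ, p.Prime ∧ p ≠ 2 ∧ p ∣ Fintype.card F ^ 2 + 1 ∧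
      ∃ z : Cfsg.Sz F m, orderOf z = p ∧ ∀ c, x * c = c * x → z * c = c * z := by
  have h := (mem_XS_iff m x).1 hx
  have hord : orderOf x ≠ 1 := by rw [Ne, orderOf_eq_one_iff]; exact h.1
  obtain ⟨p, hp, hpd⟩ := Nat.exists_prime_and_dvd hord
  obtain ⟨z, hz, hzc⟩ := exists_prime_pow hpd
  exact ⟨p, hp, (h.2 p hp hpd).1, (h.2 p hp hpd).2, z, hz, hzc⟩

/-- the centraliser of an element -/
abbrev Tor (x : Cfsg.Sz F m) : Subgroup (Cfsg.Sz F m) := Subgroup.centralizer {x}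

variable {m}

omit [Fintype F] [SzField F m] in
theorem mem_Tor {x c : Cfsg.Sz F m} : c ∈ Tor m x ↔ c * x = x * c :=
  Subgroup.mem_centralizer_singleton_iff

omit [Fintype F] [SzField F m] in
theorem self_mem_Tor (x : Cfsg.Sz F m) : x ∈ Tor m x := mem_Tor.2 rfl

theorem isCyclic_Tor {x : Cfsg.Sz F m} (hx : x ∈ XS m) : IsCyclic (Tor m x) := by
  obtain ⟨p, hp, hp2, hdiv, z, hz, hzc⟩ := XS_exists_prime m hx
  have : Fact p.Prime := ⟨hp⟩
  exact isCyclic_of_commute m hp2 hdiv z hz _ (fun c hc => hzc c (mem_Tor.1 hc).symm)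

theorem Tor_comm {x : Cfsg.Sz F m} (hx : x ∈ XS m) {a b : Cfsg.Sz F m} (ha : a ∈ Tor m x)
    (hb : b ∈ Tor m x) : a * b = b * a := by
  have := isCyclic_Tor hx
  have h := IsCyclic.commGroup.mul_comm (⟨a, ha⟩ : Tor m x) ⟨b, hb⟩
  exact congrArg Subtype.val h

theorem mem_XS_of_mem_Tor {x y : Cfsg.Sz F m} (hx : x ∈ XS m) (hy : y ∈ Tor m x) (hy1 : y ≠ 1) :
    y ∈ XS m := XS_comm m hx hy1 (mem_Tor.1 hy).symm

theorem Tor_eq {x y : Cfsg.Sz F m} (hx : x ∈ XS m) (hy : y ∈ Tor m x) (hy1 : y ≠ 1) :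
    Tor m y = Tor m x := by
  have hyX := mem_XS_of_mem_Tor hx hy hy1
  have hxy : x ∈ Tor m y := mem_Tor.2 (mem_Tor.1 hy).symm
  apply le_antisymm
  · intro c hc
    exact mem_Tor.2 (Tor_comm hyX hc hxy)
  · intro c hc
    exact mem_Tor.2 (Tor_comm hx hc hy)

omit [Fintype F] [SzField F m] in
theorem mem_Tor_conj {x g c : Cfsg.Sz F m} : c ∈ Tor m (g * x * g⁻¹) ↔ g⁻¹ * c * g ∈ Tor m x := by
  rw [mem_Tor, mem_Tor]
  constructor
  · intro h
    calc g⁻¹ * c * g * x = g⁻¹ * (c * (g * x * g⁻¹)) * g := by group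
      _ = g⁻¹ * ((g * x * g⁻¹) * c) * g := by rw [h]
      _ = x * (g⁻¹ * c * g) := by group
  · intro h
    calc c * (g * x * g⁻¹) = g * ((g⁻¹ * c * g) * x) * g⁻¹ := by group
      _ = g * (x * (g⁻¹ * c * g)) * g⁻¹ := by rw [h]
      _ = g * x * g⁻¹ * c := by group

theorem TI_Tor {x : Cfsg.Sz F m} (hx : x ∈ XS m) : IsTI (Tor m x) := by
  intro g a ha h1 hga
  have hga1 : g * a * g⁻¹ ≠ 1 := by
    intro h
    apply h1
    have : a = g⁻¹ * (g * a * g⁻¹) * g := by group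
    rw [this, h]; group
  have e1 : Tor m a = Tor m x := Tor_eq hx ha h1
  have e2 : Tor m (g * a * g⁻¹) = Tor m x := Tor_eq hx hga hga1
  rw [Subgroup.mem_normalizer_iff]
  intro c
  have h3 : g * c * g⁻¹ ∈ Tor m (g * a * g⁻¹) ↔ c ∈ Tor m a := by
    rw [mem_Tor_conj]
    have : g⁻¹ * (g * c * g⁻¹) * g = c := by group
    rw [this]
  rw [e1, e2] at h3
  exact h3.symm

theorem cl_Tor_subset {x : Cfsg.Sz F m} (hx : x ∈ XS m) : cl (Tor m x) ⊆ XS m := by
  rintro _ ⟨g, a, ha, h1, rfl⟩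
  exact XS_conj m (mem_XS_of_mem_Tor hx ha h1) g

omit [Fintype F] in
theorem charpoly_conj_SL (g h : Matrix.SpecialLinearGroup (Fin 4) F) :
    (g * h * g⁻¹).1.charpoly = h.1.charpoly := by
  have e : (g⁻¹).1 * g.1 = 1 := by
    rw [← Matrix.SpecialLinearGroup.coe_mul, inv_mul_cancel, Matrix.SpecialLinearGroup.coe_one]
  rw [Matrix.SpecialLinearGroup.coe_mul, Matrix.SpecialLinearGroup.coe_mul, Matrix.mul_assoc,
    Matrix.charpoly_mul_comm, Matrix.mul_assoc, e, Matrix.mul_one]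

theorem card_normalizer_Tor_le {x : Cfsg.Sz F m} (hx : x ∈ XS m) :
    Nat.card (Subgroup.normalizer (Tor m x : Set (Cfsg.Sz F m))) ≤ 4 * Nat.card (Tor m x) := by
  classical
  obtain ⟨p, hp, hp2, hdiv, z, hz, hzc⟩ := XS_exists_prime m hx
  have : Fact p.Prime := ⟨hp⟩
  have hz1 : z ≠ 1 := by
    intro h
    rw [h, orderOf_one] at hz
    exact hp.one_lt.ne hz
  have hzT : z ∈ Tor m x := mem_Tor.2 (hzc x rfl)
  have hTz : Tor m z = Tor m x := Tor_eq hx hzT hz1
  let f : Subgroup.normalizer (Tor m x : Set (Cfsg.Sz F m)) → Module.End F (Fin 4 → F) :=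
    fun n => natRep m ((n : Cfsg.Sz F m) * z * (n : Cfsg.Sz F m)⁻¹)
  have hS : (Set.range f).ncard ≤ 4 := by
    have := Irred.ncard_le_of_charpoly (natRep m z)
      (by rw [← map_pow, ← hz, pow_orderOf_eq_one, map_one])
      (by
        intro h
        exact hz1 (natRep_injective m (h.trans (map_one _).symm)))
      (not_dvd_card_field m hp hp2)
      (by rw [Module.finrank_fin_fun]; exact ord_hyp hp hp2 hdiv)
      (Set.range f) ?_
    · rwa [Module.finrank_fin_fun] at this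
    · rintro _ ⟨n, rfl⟩
      constructor
      · show natRep m z * natRep m ((n : Cfsg.Sz F m) * z * (n : Cfsg.Sz F m)⁻¹) =
          natRep m ((n : Cfsg.Sz F m) * z * (n : Cfsg.Sz F m)⁻¹) * natRep m z
        rw [← map_mul, ← map_mul]
        congr 1
        exact Tor_comm hx hzT ((Subgroup.mem_normalizer_iff.1 n.2 z).1 hzT)
      · show (Matrix.toLin' ((n : Cfsg.Sz F m) * z * (n : Cfsg.Sz F m)⁻¹).1.1).charpoly =
          (Matrix.toLin' z.1.1).charpoly
        rw [Matrix.charpoly_toLin', Matrix.charpoly_toLin']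
        exact charpoly_conj_SL _ _
  have : Fintype (Subgroup.normalizer (Tor m x : Set (Cfsg.Sz F m))) := Fintype.ofFinite _
  have : Fintype (Cfsg.Sz F m) := Fintype.ofFinite _
  have hcardT : Nat.card (Tor m x) = (Finset.univ.filter (· ∈ Tor m x)).card := by
    rw [Nat.card_eq_fintype_card, Fintype.card_subtype]
  have key := Finset.card_le_mul_card_image (f := f) Finset.univ (Nat.card (Tor m x)) ?_
  · rw [Nat.card_eq_fintype_card (α := Subgroup.normalizer (Tor m x : Set (Cfsg.Sz F m))),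
      ← Finset.card_univ, mul_comm]
    refine key.trans (Nat.mul_le_mul_left _ ?_)
    have : (Finset.univ.image f).card = (Set.range f).ncard := by
      rw [← Set.ncard_coe_finset]
      congr 1
      ext y
      simp
    rw [this]
    exact hS
  · intro a ha
    obtain ⟨n, -, rfl⟩ := Finset.mem_image.1 ha
    rw [hcardT]
    apply Finset.card_le_card_of_injOn
      (fun n' : Subgroup.normalizer (Tor m x : Set (Cfsg.Sz F m)) => (n : Cfsg.Sz F m)⁻¹ * n')
    · intro n' hn'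
      have h : f n' = f n := (Finset.mem_filter.1 hn').2
      simp only [Finset.coe_filter, Finset.mem_univ, true_and, Set.mem_ofPred_eq]
      have h3 : (n : Cfsg.Sz F m)⁻¹ * n' ∈ Tor m z := ?_
      · rwa [hTz] at h3
      rw [mem_Tor]
      have h2 : (n' : Cfsg.Sz F m) * z * (n' : Cfsg.Sz F m)⁻¹ = n * z * (n : Cfsg.Sz F m)⁻¹ :=
        natRep_injective m h
      calc (n : Cfsg.Sz F m)⁻¹ * n' * z
          = (n : Cfsg.Sz F m)⁻¹ * ((n' : Cfsg.Sz F m) * z * (n' : Cfsg.Sz F m)⁻¹) * n' := by group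
        _ = (n : Cfsg.Sz F m)⁻¹ * (n * z * (n : Cfsg.Sz F m)⁻¹) * n' := by rw [h2]
        _ = z * ((n : Cfsg.Sz F m)⁻¹ * n') := by group
    · intro a _ b _ hab
      exact Subtype.ext (mul_left_cancel hab)

end Cfsg.Agent.Lib.Helper37.Suz
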