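import Cfsg.Agent.Lib.Helper37.Suzuki.TorusHall

/-!
# The non-split tori of the Suzuki groups: orders, by counting
-/

set_option autoImplicit false

namespace Cfsg.Agent.Lib.Helper37.Suz

open Matrix TICount
open scoped LinearAlgebra.Projectivization

variable {F : Type*} [Field F] [Fintype F] {m : ℕ} [SzField F m]

theorem card_cl_Tor {x : Cfsg.Sz F m} (hx : x ∈ XS m) :
    (cl (Tor m x)).ncard * Nat.card (Subgroup.normalizer (Tor m x : Set (Cfsg.Sz F m))) =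
      Nat.card (Cfsg.Sz F m) * (Nat.card (Tor m x) - 1) := by
  rw [← _root_.Nat.card_coe_set_eq]
  exact card_cl _ (TI_Tor hx)

theorem card_le_six_mul {x : Cfsg.Sz F m} (hx : x ∈ XS m) :
    Nat.card (Cfsg.Sz F m) ≤ 6 * (cl (Tor m x)).ncard := by
  have h1 := card_cl_Tor hx
  obtain ⟨l, hl, hn⟩ := card_normalizer_Tor hx
  have h3 := three_le_card_Tor hx
  rw [hn] at h1
  obtain ⟨e, he⟩ : ∃ e, Nat.card (Tor m x) = e + 1 := ⟨Nat.card (Tor m x) - 1, by omega⟩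
  rw [he, Nat.add_sub_cancel] at h1
  have he2 : 2 ≤ e := by omega
  have hl4 : l ≤ 4 := by omega
  set c := (cl (Tor m x)).ncard
  set N := Nat.card (Cfsg.Sz F m)
  have hpos : 0 < 2 * (e + 1) := by positivity
  apply Nat.le_of_mul_le_mul_right _ hpos
  calc N * (2 * (e + 1)) ≤ N * (3 * e) := Nat.mul_le_mul_left _ (by omega)
    _ = 3 * (c * (l * (e + 1))) := by rw [h1]; ring
    _ ≤ 3 * (c * (4 * (e + 1))) := by gcongr
    _ = 6 * c * (2 * (e + 1)) := by ring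

omit [Fintype F] [SzField F m] in
theorem disjoint_cl_of_coprime {x y : Cfsg.Sz F m}
    (hcop : Nat.Coprime (Nat.card (Tor m x)) (Nat.card (Tor m y))) :
    Disjoint (cl (Tor m x)) (cl (Tor m y)) := by
  rw [Set.disjoint_left]
  intro g h1 h2
  have key : ∀ z : Cfsg.Sz F m, ∀ a ∈ Tor m z, a ^ Nat.card (Tor m z) = 1 := by
    intro z a ha
    exact congrArg Subtype.val (pow_card_eq_one' (G := Tor m z) (x := ⟨a, ha⟩))
  have h4 := pow_eq_one_of_mem_cl h1 (key x)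
  have h5 := pow_eq_one_of_mem_cl h2 (key y)
  apply ne_one_of_mem_cl h1
  have h8 : orderOf g = 1 := Nat.eq_one_of_dvd_coprimes hcop (orderOf_dvd_of_pow_eq_one h4)
    (orderOf_dvd_of_pow_eq_one h5)
  exact orderOf_eq_one_iff.1 h8

theorem mem_cl_of_prime {x y : Cfsg.Sz F m} (hx : x ∈ XS m) (hy : y ∈ XS m) {p : ℕ}
    (hp : p.Prime) (h1 : p ∣ Nat.card (Tor m x)) (h2 : p ∣ Nat.card (Tor m y)) :
    y ∈ cl (Tor m x) := by
  obtain ⟨g, hg⟩ := Tor_conj_of_prime hx hy hp h1 h2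
  rw [← cl_map _ g, ← hg]
  exact mem_cl_of_mem (self_mem_Tor y) hy.1

theorem card_eq_of_prime {x y : Cfsg.Sz F m} (hx : x ∈ XS m) (hy : y ∈ XS m) {p : ℕ}
    (hp : p.Prime) (h1 : p ∣ Nat.card (Tor m x)) (h2 : p ∣ Nat.card (Tor m y)) :
    Nat.card (Tor m y) = Nat.card (Tor m x) := by
  obtain ⟨g, hg⟩ := Tor_conj_of_prime hx hy hp h1 h2
  rw [hg, card_map_conj]

theorem exists_prime_dvd_card_Tor {y : Cfsg.Sz F m} (hy : y ∈ XS m) :
    ∃ p : ℕ, p.Prime ∧ p ∣ Nat.card (Tor m y) ∧ p ∣ Fintype.card F ^ 2 + 1 := by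
  have h3 := three_le_card_Tor hy
  obtain ⟨p, hp, hpd⟩ := Nat.exists_prime_and_dvd (n := Nat.card (Tor m y)) (by omega)
  exact ⟨p, hp, hpd, (prime_of_dvd_card_Tor hy hp hpd).2.1⟩

/-- a single torus does not suffice -/
theorem card_Tor_ne {x : Cfsg.Sz F m} (hx : x ∈ XS m) :
    Nat.card (Tor m x) ≠ Fintype.card F ^ 2 + 1 := by
  intro ha
  have hcover : XS m = cl (Tor m x) := by
    apply Set.Subset.antisymm _ (cl_Tor_subset hx)
    intro y hy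
    obtain ⟨p, hp, h1, h2⟩ := exists_prime_dvd_card_Tor hy
    exact mem_cl_of_prime hx hy hp (by rw [ha]; exact h2) h1
  have h1 := card_cl_Tor hx
  obtain ⟨l, hl, hn⟩ := card_normalizer_Tor hx
  have h2 := two_mul_card_XS (F := F) m
  rw [hcover] at h2
  rw [hn, ha, card_Sz, Nat.add_sub_cancel] at h1
  have h8 := eight_le_card (F := F) m
  obtain ⟨t, ht⟩ : ∃ t, Fintype.card F = t + 1 := ⟨Fintype.card F - 1, by omega⟩
  rw [ht, Nat.add_sub_cancel] at h1 h2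
  set c := (cl (Tor m x)).ncard
  have ht7 : 7 ≤ t := by omega
  -- c * l = q^4 (q-1)
  have h3 : c * l = (t + 1) ^ 4 * t := by
    have hpos : 0 < (t + 1) ^ 2 + 1 := by positivity
    apply Nat.eq_of_mul_eq_mul_right hpos
    calc c * l * ((t + 1) ^ 2 + 1) = c * (l * ((t + 1) ^ 2 + 1)) := by ring
      _ = _ := by rw [h1]; ring
  have h4 : 2 * (t + 1) = l * t := by
    have hpos : 0 < (t + 1) ^ 3 * t := by positivity
    apply Nat.eq_of_mul_eq_mul_right hpos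
    calc 2 * (t + 1) * ((t + 1) ^ 3 * t) = 2 * ((t + 1) ^ 4 * t) := by ring
      _ = 2 * c * l := by rw [← h3]; ring
      _ = l * t * ((t + 1) ^ 3 * t) := by rw [h2]; ring
  rcases hl with rfl | rfl | rfl <;> omega

theorem not_dvd_of_dvd_cofactor {x : Cfsg.Sz F m} (hx : x ∈ XS m) {b p : ℕ} (hp : p.Prime)
    (hb : Fintype.card F ^ 2 + 1 = Nat.card (Tor m x) * b) (hpb : p ∣ b) :
    ¬ p ∣ Nat.card (Tor m x) := by
  intro h
  apply Tor_hall hx hp h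
  rw [index_Tor hx hb]
  exact Dvd.dvd.mul_right hpb _

theorem coprime_of_not_dvd {x y : Cfsg.Sz F m} (hx : x ∈ XS m) (hy : y ∈ XS m) {p : ℕ}
    (h1 : ¬ p ∣ Nat.card (Tor m x)) (h2 : p ∣ Nat.card (Tor m y)) :
    Nat.Coprime (Nat.card (Tor m x)) (Nat.card (Tor m y)) := by
  apply Nat.coprime_of_dvd
  intro p' hp' h3 h4
  apply h1
  rw [← card_eq_of_prime hx hy hp' h3 h4]
  exact h2

theorem exists_coprime {x : Cfsg.Sz F m} (hx : x ∈ XS m) :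
    ∃ y ∈ XS (F := F) m, Nat.Coprime (Nat.card (Tor m x)) (Nat.card (Tor m y)) := by
  obtain ⟨b, hb⟩ := card_Tor_dvd hx
  have hb1 : b ≠ 1 := by
    rintro rfl
    exact card_Tor_ne hx (by rw [hb, mul_one])
  obtain ⟨p, hp, hpb⟩ := Nat.exists_prime_and_dvd hb1
  obtain ⟨y, hy, hpy⟩ := exists_Tor_of_prime (F := F) (m := m) hp
    (by rw [hb]; exact Dvd.dvd.mul_left hpb _)
  exact ⟨y, hy, coprime_of_not_dvd hx hy (not_dvd_of_dvd_cofactor hx hp hb hpb) hpy⟩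

theorem not_three {x y z : Cfsg.Sz F m} (hx : x ∈ XS m) (hy : y ∈ XS m) (hz : z ∈ XS m)
    (hxy : Nat.Coprime (Nat.card (Tor m x)) (Nat.card (Tor m y)))
    (hxz : Nat.Coprime (Nat.card (Tor m x)) (Nat.card (Tor m z)))
    (hyz : Nat.Coprime (Nat.card (Tor m y)) (Nat.card (Tor m z))) : False := by
  have h1 := card_le_six_mul hx
  have h2 := card_le_six_mul hy
  have h3 := card_le_six_mul hz
  have hsub : (cl (Tor m x) ∪ cl (Tor m y)) ∪ cl (Tor m z) ⊆ XS m :=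
    Set.union_subset (Set.union_subset (cl_Tor_subset hx) (cl_Tor_subset hy)) (cl_Tor_subset hz)
  have h4 := Set.ncard_le_ncard hsub (Set.toFinite _)
  rw [Set.ncard_union_eq _ (Set.toFinite _) (Set.toFinite _),
    Set.ncard_union_eq (disjoint_cl_of_coprime hxy) (Set.toFinite _) (Set.toFinite _)] at h4
  · have h5 := two_mul_card_XS (F := F) m
    rw [card_Sz] at h1 h2 h3
    have h8 := eight_le_card (F := F) m
    obtain ⟨t, ht⟩ : ∃ t, Fintype.card F = t + 1 := ⟨Fintype.card F - 1, by omega⟩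
    rw [ht, Nat.add_sub_cancel] at h1 h2 h3 h5
    have h6 : (t + 1) ^ 2 * ((t + 1) ^ 2 + 1) * t = (t + 1) ^ 3 * t ^ 2 + ((t + 1) ^ 2 * t * (t + 2)) := by
      ring
    have h7 : 0 < (t + 1) ^ 2 * t * (t + 2) := by
      have : 0 < t := by omega
      positivity
    omega
  · rw [Set.disjoint_union_left]
    exact ⟨disjoint_cl_of_coprime hxz, disjoint_cl_of_coprime hyz⟩

theorem card_mul_card {x y : Cfsg.Sz F m} (hx : x ∈ XS m) (hy : y ∈ XS m)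
    (hxy : Nat.Coprime (Nat.card (Tor m x)) (Nat.card (Tor m y))) :
    Nat.card (Tor m x) * Nat.card (Tor m y) = Fintype.card F ^ 2 + 1 := by
  obtain ⟨b, hb⟩ := hxy.mul_dvd_of_dvd_of_dvd (card_Tor_dvd hx) (card_Tor_dvd hy)
  by_cases hb1 : b = 1
  · rw [hb, hb1, mul_one]
  exfalso
  obtain ⟨p, hp, hpb⟩ := Nat.exists_prime_and_dvd hb1
  obtain ⟨z, hz, hpz⟩ := exists_Tor_of_prime (F := F) (m := m) hp
    (by rw [hb]; exact Dvd.dvd.mul_left hpb _)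
  have h1 : ¬ p ∣ Nat.card (Tor m x) :=
    not_dvd_of_dvd_cofactor hx hp (b := Nat.card (Tor m y) * b) (by rw [hb]; ring)
      (Dvd.dvd.mul_left hpb _)
  have h2 : ¬ p ∣ Nat.card (Tor m y) :=
    not_dvd_of_dvd_cofactor hy hp (b := Nat.card (Tor m x) * b) (by rw [hb]; ring)
      (Dvd.dvd.mul_left hpb _)
  exact not_three hx hy hz hxy (coprime_of_not_dvd hx hz h1 hpz) (coprime_of_not_dvd hy hz h2 hpz)

theorem XS_eq_union {x y : Cfsg.Sz F m} (hx : x ∈ XS m) (hy : y ∈ XS m)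
    (hxy : Nat.Coprime (Nat.card (Tor m x)) (Nat.card (Tor m y))) :
    XS m = cl (Tor m x) ∪ cl (Tor m y) := by
  apply Set.Subset.antisymm _ (Set.union_subset (cl_Tor_subset hx) (cl_Tor_subset hy))
  intro z hz
  obtain ⟨p, hp, h1, h2⟩ := exists_prime_dvd_card_Tor hz
  rw [← card_mul_card hx hy hxy] at h2
  rcases (Nat.Prime.dvd_mul hp).1 h2 with h | h
  · exact Or.inl (mem_cl_of_prime hx hz hp h h1)
  · exact Or.inr (mem_cl_of_prime hy hz hp h h1)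


/-- the basic numerical data of a pair of coprime tori -/
theorem pair_numerics {x y : Cfsg.Sz F m} (hx : x ∈ XS m) (hy : y ∈ XS m)
    (hxy : Nat.Coprime (Nat.card (Tor m x)) (Nat.card (Tor m y))) :
    ∃ t e₁ e₂ c₁ c₂ l₁ l₂ : ℕ, Fintype.card F = t + 1 ∧ 7 ≤ t ∧ Nat.card (Tor m x) = e₁ + 1 ∧
      Nat.card (Tor m y) = e₂ + 1 ∧ 2 ≤ e₁ ∧ 2 ≤ e₂ ∧ (l₁ = 1 ∨ l₁ = 2 ∨ l₁ = 4) ∧
      (l₂ = 1 ∨ l₂ = 2 ∨ l₂ = 4) ∧
      Nat.card (Subgroup.normalizer (Tor m x : Set (Cfsg.Sz F m))) = l₁ * (e₁ + 1) ∧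
      Nat.card (Subgroup.normalizer (Tor m y : Set (Cfsg.Sz F m))) = l₂ * (e₂ + 1) ∧
      (e₁ + 1) * (e₂ + 1) = (t + 1) ^ 2 + 1 ∧
      c₁ * l₁ = (t + 1) ^ 2 * t * ((e₂ + 1) * e₁) ∧ c₂ * l₂ = (t + 1) ^ 2 * t * ((e₁ + 1) * e₂) ∧
      2 * (c₁ + c₂) = (t + 1) ^ 2 * t * ((t + 1) * t) := by
  have h8 := eight_le_card (F := F) m
  obtain ⟨t, ht⟩ : ∃ t, Fintype.card F = t + 1 := ⟨Fintype.card F - 1, by omega⟩
  have h3x := three_le_card_Tor hx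
  have h3y := three_le_card_Tor hy
  obtain ⟨e₁, he₁⟩ : ∃ e, Nat.card (Tor m x) = e + 1 := ⟨Nat.card (Tor m x) - 1, by omega⟩
  obtain ⟨e₂, he₂⟩ : ∃ e, Nat.card (Tor m y) = e + 1 := ⟨Nat.card (Tor m y) - 1, by omega⟩
  obtain ⟨l₁, hl₁, hn₁⟩ := card_normalizer_Tor hx
  obtain ⟨l₂, hl₂, hn₂⟩ := card_normalizer_Tor hy
  have hprod := card_mul_card hx hy hxy
  have hc₁ := card_cl_Tor hx
  have hc₂ := card_cl_Tor hy
  have hX := two_mul_card_XS (F := F) m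
  rw [XS_eq_union hx hy hxy,
    Set.ncard_union_eq (disjoint_cl_of_coprime hxy) (Set.toFinite _) (Set.toFinite _)] at hX
  rw [hn₁, card_Sz, ← hprod, he₁, he₂, ht, Nat.add_sub_cancel, Nat.add_sub_cancel] at hc₁
  rw [hn₂, card_Sz, ← hprod, he₁, he₂, ht, Nat.add_sub_cancel, Nat.add_sub_cancel] at hc₂
  rw [ht, Nat.add_sub_cancel] at hX
  rw [he₁, he₂, ht] at hprod
  rw [he₁] at hn₁
  rw [he₂] at hn₂
  refine ⟨t, e₁, e₂, (cl (Tor m x)).ncard, (cl (Tor m y)).ncard, l₁, l₂, ht, by omega, he₁, he₂,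
    by omega, by omega, hl₁, hl₂, hn₁, hn₂, hprod, ?_, ?_, ?_⟩
  · have hpos : 0 < e₁ + 1 := by positivity
    apply Nat.eq_of_mul_eq_mul_right hpos
    calc (cl (Tor m x)).ncard * l₁ * (e₁ + 1) = (cl (Tor m x)).ncard * (l₁ * (e₁ + 1)) := by ring
      _ = _ := by rw [hc₁]; ring
  · have hpos : 0 < e₂ + 1 := by positivity
    apply Nat.eq_of_mul_eq_mul_right hpos
    calc (cl (Tor m y)).ncard * l₂ * (e₂ + 1) = (cl (Tor m y)).ncard * (l₂ * (e₂ + 1)) := by ring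
      _ = _ := by rw [hc₂]; ring
  · rw [hX]; ring

theorem arith_l {t e₁ e₂ c₁ c₂ l₁ l₂ : ℕ} (ht : 7 ≤ t) (he₁ : 2 ≤ e₁) (he₂ : 2 ≤ e₂)
    (hl₁ : l₁ = 1 ∨ l₁ = 2 ∨ l₁ = 4) (hl₂ : l₂ = 1 ∨ l₂ = 2 ∨ l₂ = 4)
    (hprod : (e₁ + 1) * (e₂ + 1) = (t + 1) ^ 2 + 1)
    (h₁ : c₁ * l₁ = (t + 1) ^ 2 * t * ((e₂ + 1) * e₁))
    (h₂ : c₂ * l₂ = (t + 1) ^ 2 * t * ((e₁ + 1) * e₂))
    (hs : 2 * (c₁ + c₂) = (t + 1) ^ 2 * t * ((t + 1) * t)) : l₁ = 4 := by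
  by_contra hne
  have hl : l₁ ≤ 2 := by omega
  have hl' : l₂ ≤ 4 := by omega
  have hD : 0 < (t + 1) ^ 2 * t := by
    have : 0 < t := by omega
    positivity
  have k1 : (t + 1) ^ 2 * t * ((e₂ + 1) * e₁) ≤ c₁ * 2 := by rw [← h₁]; gcongr
  have k2 : (t + 1) ^ 2 * t * ((e₁ + 1) * e₂) ≤ c₂ * 4 := by rw [← h₂]; gcongr
  have k3 : (t + 1) ^ 2 * t * (2 * ((e₂ + 1) * e₁) + (e₁ + 1) * e₂) ≤
      (t + 1) ^ 2 * t * (2 * ((t + 1) * t)) := by
    calc (t + 1) ^ 2 * t * (2 * ((e₂ + 1) * e₁) + (e₁ + 1) * e₂)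
        = 2 * ((t + 1) ^ 2 * t * ((e₂ + 1) * e₁)) + (t + 1) ^ 2 * t * ((e₁ + 1) * e₂) := by ring
      _ ≤ 2 * (c₁ * 2) + c₂ * 4 := by gcongr
      _ = 2 * (2 * (c₁ + c₂)) := by ring
      _ = _ := by rw [hs]; ring
  have k4 := Nat.le_of_mul_le_mul_left k3 hD
  have k5 : 2 * e₂ ≤ e₁ * e₂ := Nat.mul_le_mul_right _ he₁
  have k6 : 2 * e₁ ≤ e₁ * e₂ := by rw [mul_comm e₁ e₂]; exact Nat.mul_le_mul_right _ he₂
  have k7 : e₁ * e₂ + e₁ + e₂ + 1 = t * t + 2 * t + 2 := by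
    have : (e₁ + 1) * (e₂ + 1) = e₁ * e₂ + e₁ + e₂ + 1 := by ring
    rw [← this, hprod]; ring
  have k8 : 2 * ((e₂ + 1) * e₁) + (e₁ + 1) * e₂ = 3 * (e₁ * e₂) + 2 * e₁ + e₂ := by ring
  have k9 : 2 * ((t + 1) * t) = 2 * (t * t) + 2 * t := by ring
  rw [k8, k9] at k4
  omega

theorem card_normalizer_Tor_eq {x : Cfsg.Sz F m} (hx : x ∈ XS m) :
    Nat.card (Subgroup.normalizer (Tor m x : Set (Cfsg.Sz F m))) = 4 * Nat.card (Tor m x) := by
  obtain ⟨y, hy, hxy⟩ := exists_coprime hx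
  obtain ⟨t, e₁, e₂, c₁, c₂, l₁, l₂, -, ht, he₁, -, h2₁, h2₂, hl₁, hl₂, hn₁, -, hprod, h₁, h₂, hs⟩ :=
    pair_numerics hx hy hxy
  rw [hn₁, he₁, arith_l ht h2₁ h2₂ hl₁ hl₂ hprod h₁ h₂ hs]

theorem card_Tor_add {x y : Cfsg.Sz F m} (hx : x ∈ XS m) (hy : y ∈ XS m)
    (hxy : Nat.Coprime (Nat.card (Tor m x)) (Nat.card (Tor m y))) :
    Nat.card (Tor m x) + Nat.card (Tor m y) = 2 * Fintype.card F + 2 := by
  obtain ⟨t, e₁, e₂, c₁, c₂, l₁, l₂, hq, ht, he₁, he₂, h2₁, h2₂, hl₁, hl₂, hn₁, -, hprod, h₁, h₂, hs⟩ :=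
    pair_numerics hx hy hxy
  have e1 := arith_l ht h2₁ h2₂ hl₁ hl₂ hprod h₁ h₂ hs
  have e2 := arith_l ht h2₂ h2₁ hl₂ hl₁ (by rw [mul_comm]; exact hprod) h₂ h₁
    (by rw [add_comm]; exact hs)
  subst e1 e2
  have hD : 0 < (t + 1) ^ 2 * t := by
    have : 0 < t := by omega
    positivity
  have k3 : (t + 1) ^ 2 * t * ((e₂ + 1) * e₁ + (e₁ + 1) * e₂) =
      (t + 1) ^ 2 * t * (2 * ((t + 1) * t)) := by
    calc (t + 1) ^ 2 * t * ((e₂ + 1) * e₁ + (e₁ + 1) * e₂)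
        = (t + 1) ^ 2 * t * ((e₂ + 1) * e₁) + (t + 1) ^ 2 * t * ((e₁ + 1) * e₂) := by ring
      _ = c₁ * 4 + c₂ * 4 := by rw [h₁, h₂]
      _ = 2 * (2 * (c₁ + c₂)) := by ring
      _ = _ := by rw [hs]; ring
  have k4 := Nat.eq_of_mul_eq_mul_left hD k3
  have k7 : e₁ * e₂ + e₁ + e₂ + 1 = t * t + 2 * t + 2 := by
    have : (e₁ + 1) * (e₂ + 1) = e₁ * e₂ + e₁ + e₂ + 1 := by ring
    rw [← this, hprod]; ring
  have k8 : (e₂ + 1) * e₁ + (e₁ + 1) * e₂ = 2 * (e₁ * e₂) + e₁ + e₂ := by ring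
  have k9 : 2 * ((t + 1) * t) = 2 * (t * t) + 2 * t := by ring
  rw [k8, k9] at k4
  rw [he₁, he₂, hq]
  omega

theorem arith_solve {a b q s : ℕ} (hs : s ^ 2 = 2 * q) (hab : a + b = 2 * q + 2)
    (hprod : a * b = q ^ 2 + 1) (hle : b ≤ a) : a = q + s + 1 ∧ b + s = q + 1 := by
  obtain ⟨d, hd⟩ : ∃ d, a = q + 1 + d := ⟨a - (q + 1), by omega⟩
  have hb : b + d = q + 1 := by omega
  have hq : q = b + d - 1 := by omega
  have hbd : 1 ≤ b + d := by omega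
  obtain ⟨u, hu⟩ : ∃ u, b + d = u + 1 := ⟨b + d - 1, by omega⟩
  have hqu : q = u := by omega
  subst hqu
  have h1 : d ^ 2 = 2 * q := by
    have e1 : a = b + 2 * d := by omega
    rw [e1] at hprod
    have e2 : (b + 2 * d) * b + d ^ 2 = (b + d) ^ 2 := by ring
    rw [hprod, hu] at e2
    have e3 : (q + 1) ^ 2 = q ^ 2 + 2 * q + 1 := by ring
    omega
  have h2 : d = s := by
    have : d ^ 2 = s ^ 2 := by rw [h1, hs]
    exact (Nat.pow_left_inj (by norm_num)).1 this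
  subst h2
  omega

include m in
theorem s_sq : (2 ^ (m + 1)) ^ 2 = 2 * Fintype.card F := by
  rw [SzField.card (F := F) (m := m), ← pow_mul, ← pow_succ']
  congr 1
  ring

theorem card_Tor_pair {x y : Cfsg.Sz F m} (hx : x ∈ XS m) (hy : y ∈ XS m)
    (hxy : Nat.Coprime (Nat.card (Tor m x)) (Nat.card (Tor m y))) :
    (Nat.card (Tor m x) = Fintype.card F + 2 ^ (m + 1) + 1 ∧
      Nat.card (Tor m y) + 2 ^ (m + 1) = Fintype.card F + 1) ∨
    (Nat.card (Tor m y) = Fintype.card F + 2 ^ (m + 1) + 1 ∧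
      Nat.card (Tor m x) + 2 ^ (m + 1) = Fintype.card F + 1) := by
  have h1 := card_Tor_add hx hy hxy
  have h2 := card_mul_card hx hy hxy
  rcases le_total (Nat.card (Tor m y)) (Nat.card (Tor m x)) with h | h
  · exact Or.inl (arith_solve (s_sq (F := F) (m := m)) h1 h2 h)
  · exact Or.inr (arith_solve (s_sq (F := F) (m := m)) (by rw [add_comm]; exact h1)
      (by rw [mul_comm]; exact h2) h)

/-- the order of a non-split torus -/
theorem card_Tor_cases {x : Cfsg.Sz F m} (hx : x ∈ XS m) :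
    Nat.card (Tor m x) = Fintype.card F + 2 ^ (m + 1) + 1 ∨
      Nat.card (Tor m x) + 2 ^ (m + 1) = Fintype.card F + 1 := by
  obtain ⟨y, hy, hxy⟩ := exists_coprime hx
  rcases card_Tor_pair hx hy hxy with h | h
  · exact Or.inl h.1
  · exact Or.inr h.2

/-- both orders occur -/
theorem exists_tori : ∃ x y : Cfsg.Sz F m, x ∈ XS m ∧ y ∈ XS m ∧
    Nat.card (Tor m x) = Fintype.card F + 2 ^ (m + 1) + 1 ∧
    Nat.card (Tor m y) + 2 ^ (m + 1) = Fintype.card F + 1 := by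
  have hne : Fintype.card F ^ 2 + 1 ≠ 1 := by
    have : 0 < Fintype.card F ^ 2 := by positivity
    omega
  obtain ⟨p, hp, hpd⟩ := Nat.exists_prime_and_dvd hne
  obtain ⟨x, hx, -⟩ := exists_Tor_of_prime (F := F) (m := m) hp hpd
  obtain ⟨y, hy, hxy⟩ := exists_coprime hx
  rcases card_Tor_pair hx hy hxy with h | h
  · exact ⟨x, y, hx, hy, h.1, h.2⟩
  · exact ⟨y, x, hy, hx, h.1, h.2⟩

end Cfsg.Agent.Lib.Helper37.Suz
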