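import Cfsg.Agent.Lib.Helper37.Suzuki.Torus

/-!
# The non-split tori of the Suzuki groups are Hall subgroups
-/

set_option autoImplicit false

namespace Cfsg.Agent.Lib.Helper37.Suz

open Matrix TICount
open scoped LinearAlgebra.Projectivization

variable {F : Type*} [Field F] [Fintype F] {m : ℕ} [SzField F m]

theorem prime_of_dvd_card_Tor {x : Cfsg.Sz F m} (hx : x ∈ XS m) {p : ℕ} (hp : p.Prime)
    (hpd : p ∣ Nat.card (Tor m x)) :
    p ≠ 2 ∧ p ∣ Fintype.card F ^ 2 + 1 ∧ ∃ y ∈ Tor m x, orderOf y = p := by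
  have : Fact p.Prime := ⟨hp⟩
  obtain ⟨y, hy⟩ := exists_prime_orderOf_dvd_card' p hpd
  have hy' : orderOf (y : Cfsg.Sz F m) = p := by rw [Subgroup.orderOf_coe, hy]
  have hy1 : (y : Cfsg.Sz F m) ≠ 1 := by
    intro h
    rw [h, orderOf_one] at hy'
    exact hp.one_lt.ne hy'
  have hX := (mem_XS_iff m _).1 (mem_XS_of_mem_Tor hx y.2 hy1)
  have := hX.2 p hp (by rw [hy'])
  exact ⟨this.1, this.2, y, y.2, hy'⟩

theorem Tor_hall {x : Cfsg.Sz F m} (hx : x ∈ XS m) {p : ℕ} (hp : p.Prime)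
    (hpd : p ∣ Nat.card (Tor m x)) : ¬ p ∣ (Tor m x).index := by
  have : Fact p.Prime := ⟨hp⟩
  obtain ⟨hp2, -, y, hy, hyo⟩ := prime_of_dvd_card_Tor hx hp hpd
  have hy1 : y ≠ 1 := by
    intro h
    rw [h, orderOf_one] at hyo
    exact hp.one_lt.ne hyo
  have hzp : IsPGroup p (Subgroup.zpowers y) := by
    apply IsPGroup.of_card (n := 1)
    rw [Nat.card_zpowers, hyo, pow_one]
  obtain ⟨P, hP⟩ := hzp.exists_le_sylow
  have hcyc := sylow_odd_cyclic m hp2 P
  have hle : (P : Subgroup (Cfsg.Sz F m)) ≤ Tor m x := by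
    rw [← Tor_eq hx hy hy1]
    intro c hc
    rw [mem_Tor]
    have h := IsCyclic.commGroup.mul_comm (⟨c, hc⟩ : P) ⟨y, hP (Subgroup.mem_zpowers y)⟩
    exact congrArg Subtype.val h
  intro h
  exact P.not_dvd_index (h.trans (Subgroup.index_dvd_of_le hle))

theorem Tor_map {x y a g : Cfsg.Sz F m} (hx : x ∈ XS m) (hy : y ∈ XS m) (ha : a ∈ Tor m x)
    (ha1 : a ≠ 1) (hga : g * a * g⁻¹ ∈ Tor m y) :
    Tor m y = (Tor m x).map (MulAut.conj g).toMonoidHom := by
  have hga1 : g * a * g⁻¹ ≠ 1 := by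
    intro h
    apply ha1
    have : a = g⁻¹ * (g * a * g⁻¹) * g := by group
    rw [this, h]; group
  rw [← Tor_eq hy hga hga1, ← Tor_eq hx ha ha1]
  ext c
  rw [mem_Tor_conj]
  constructor
  · intro h
    exact ⟨_, h, by simp [mul_assoc]⟩
  · rintro ⟨d, hd, rfl⟩
    have : g⁻¹ * ((MulAut.conj g).toMonoidHom d) * g = d := by simp [mul_assoc]
    rwa [this]

theorem Tor_conj_of_prime {x y : Cfsg.Sz F m} (hx : x ∈ XS m) (hy : y ∈ XS m) {p : ℕ}
    (hp : p.Prime) (h1 : p ∣ Nat.card (Tor m x)) (h2 : p ∣ Nat.card (Tor m y)) :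
    ∃ g, Tor m y = (Tor m x).map (MulAut.conj g).toMonoidHom := by
  have : Fact p.Prime := ⟨hp⟩
  obtain ⟨-, -, z, hz, hzo⟩ := prime_of_dvd_card_Tor hx hp h1
  have hz1 : z ≠ 1 := by
    intro h
    rw [h, orderOf_one] at hzo
    exact hp.one_lt.ne hzo
  have hzp : IsPGroup p (Subgroup.zpowers z) := by
    apply IsPGroup.of_card (n := 1)
    rw [Nat.card_zpowers, hzo, pow_one]
  obtain ⟨g, hg⟩ := exists_conj_le (Tor m y) _ hzp (Tor_hall hy hp h2)
  refine ⟨g⁻¹, Tor_map hx hy hz hz1 ?_⟩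
  have := hg z (Subgroup.mem_zpowers z)
  rwa [inv_inv]

theorem cl_map {G : Type*} [Group G] (A : Subgroup G) (g : G) :
    cl (A.map (MulAut.conj g).toMonoidHom) = cl A := by
  ext x
  constructor
  · rintro ⟨h, _, ⟨a, ha, rfl⟩, h1, rfl⟩
    refine ⟨h * g, a, ha, ?_, by simp [mul_assoc]⟩
    rintro rfl
    exact h1 (by simp)
  · rintro ⟨h, a, ha, h1, rfl⟩
    refine ⟨h * g⁻¹, _, ⟨a, ha, rfl⟩, ?_, by simp [mul_assoc]⟩
    intro h2
    apply h1
    have h3 : g * a * g⁻¹ = 1 := h2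
    have : a = g⁻¹ * (g * a * g⁻¹) * g := by group
    rw [this, h3]; group

theorem card_map_conj {G : Type*} [Group G] (A : Subgroup G) (g : G) :
    Nat.card (A.map (MulAut.conj g).toMonoidHom) = Nat.card A :=
  Subgroup.card_map_of_injective (MulAut.conj g).injective

theorem card_normalizer_map_conj {G : Type*} [Group G] (A : Subgroup G) (g : G) :
    Nat.card (Subgroup.normalizer ((A.map (MulAut.conj g).toMonoidHom : Subgroup G) : Set G)) =
      Nat.card (Subgroup.normalizer (A : Set G)) := by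
  rw [← Subgroup.map_equiv_normalizer_eq]
  exact Subgroup.card_map_of_injective (MulAut.conj g).injective

theorem card_Tor_coprime {x : Cfsg.Sz F m} (hx : x ∈ XS m) :
    Nat.Coprime (Nat.card (Tor m x)) (Fintype.card F ^ 2 * (Fintype.card F - 1)) := by
  apply Nat.Coprime.symm
  apply Nat.coprime_of_dvd
  intro p hp h1 h2
  obtain ⟨hp2, hdiv, -⟩ := prime_of_dvd_card_Tor hx hp h2
  rcases (Nat.Prime.dvd_mul hp).1 h1 with h | h
  · exact not_dvd_card_field m hp hp2 (hp.dvd_of_dvd_pow h)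
  · exact hp2 (prime_eq_two_of_dvd hp Fintype.card_pos h hdiv)

theorem card_Tor_dvd {x : Cfsg.Sz F m} (hx : x ∈ XS m) :
    Nat.card (Tor m x) ∣ Fintype.card F ^ 2 + 1 := by
  have h1 : Nat.card (Tor m x) ∣ Nat.card (Cfsg.Sz F m) := Subgroup.card_subgroup_dvd_card _
  rw [card_Sz] at h1
  have h2 : Fintype.card F ^ 2 * (Fintype.card F ^ 2 + 1) * (Fintype.card F - 1) =
      (Fintype.card F ^ 2 * (Fintype.card F - 1)) * (Fintype.card F ^ 2 + 1) := by ring
  rw [h2] at h1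
  exact (card_Tor_coprime hx).dvd_of_dvd_mul_left h1

theorem index_Tor {x : Cfsg.Sz F m} (hx : x ∈ XS m) {b : ℕ}
    (hb : Fintype.card F ^ 2 + 1 = Nat.card (Tor m x) * b) :
    (Tor m x).index = b * (Fintype.card F ^ 2 * (Fintype.card F - 1)) := by
  have h1 := Subgroup.card_mul_index (Tor m x)
  rw [card_Sz, hb] at h1
  have hpos : 0 < Nat.card (Tor m x) := Nat.card_pos
  apply Nat.eq_of_mul_eq_mul_left hpos
  rw [h1]; ring

include m in
theorem odd_sq_add_one : ¬ 2 ∣ Fintype.card F ^ 2 + 1 := by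
  rw [SzField.card (F := F) (m := m)]
  have : 2 ∣ (2 ^ (2 * m + 1)) ^ 2 := by
    rw [← pow_mul]
    exact dvd_pow_self 2 (by omega)
  omega

theorem exists_Tor_of_prime {p : ℕ} (hp : p.Prime) (hpd : p ∣ Fintype.card F ^ 2 + 1) :
    ∃ x ∈ XS (F := F) m, p ∣ Nat.card (Tor m x) := by
  have : Fact p.Prime := ⟨hp⟩
  have h1 : p ∣ Nat.card (Cfsg.Sz F m) := by
    rw [card_Sz]
    exact Dvd.dvd.mul_right (Dvd.dvd.mul_left hpd _) _
  obtain ⟨z, hz⟩ := exists_prime_orderOf_dvd_card' p h1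
  have hz1 : z ≠ 1 := by
    intro h
    rw [h, orderOf_one] at hz
    exact hp.one_lt.ne hz
  refine ⟨z, (mem_XS_iff m z).2 ⟨hz1, ?_⟩, ?_⟩
  · intro p' hp' hd
    rw [hz] at hd
    have : p' = p := (Nat.prime_dvd_prime_iff_eq hp' hp).1 hd
    subst this
    refine ⟨?_, hpd⟩
    rintro rfl
    exact odd_sq_add_one (F := F) (m := m) hpd
  · rw [← hz]
    have := orderOf_dvd_natCard (⟨z, self_mem_Tor z⟩ : Tor m z)
    rwa [← Subgroup.orderOf_coe] at this

theorem three_le_card_Tor {x : Cfsg.Sz F m} (hx : x ∈ XS m) : 3 ≤ Nat.card (Tor m x) := by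
  have h1 : Nat.card (Tor m x) ≠ 1 := by
    intro h
    have := (Subgroup.card_eq_one.1 h)
    have h2 : x ∈ Tor m x := self_mem_Tor x
    rw [this, Subgroup.mem_bot] at h2
    exact hx.1 h2
  have h2 : Nat.card (Tor m x) ≠ 2 := by
    intro h
    exact (prime_of_dvd_card_Tor hx Nat.prime_two (by rw [h])).1 rfl
  have h0 : 0 < Nat.card (Tor m x) := Nat.card_pos
  omega

include m in
theorem three_not_dvd_card : ¬ 3 ∣ Nat.card (Cfsg.Sz F m) := by
  rw [card_Sz, SzField.card (F := F) (m := m)]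
  have h4 : ∀ k : ℕ, 4 ^ k % 3 = 1 := by
    intro k
    induction k with
    | zero => rfl
    | succ k ih => rw [pow_succ, Nat.mul_mod, ih]
  have hq : 2 ^ (2 * m + 1) % 3 = 2 := by
    rw [pow_succ, pow_mul, Nat.mul_mod]
    norm_num [h4 m]
  obtain ⟨t, ht⟩ : ∃ t, 2 ^ (2 * m + 1) = 3 * t + 2 := ⟨2 ^ (2 * m + 1) / 3, by omega⟩
  rw [ht]
  have e : 3 * t + 2 - 1 = 3 * t + 1 := by omega
  rw [e]
  intro h
  have h5 : (3 * t + 2) ^ 2 * ((3 * t + 2) ^ 2 + 1) * (3 * t + 1) =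
      3 * (81 * t ^ 5 + 243 * t ^ 4 + 297 * t ^ 3 + 183 * t ^ 2 + 56 * t + 6) + 2 := by ring
  rw [h5] at h
  omega

/-- the normaliser of a torus has order `l` times the order of the torus, `l ∈ {1, 2, 4}` -/
theorem card_normalizer_Tor {x : Cfsg.Sz F m} (hx : x ∈ XS m) :
    ∃ l : ℕ, (l = 1 ∨ l = 2 ∨ l = 4) ∧
      Nat.card (Subgroup.normalizer (Tor m x : Set (Cfsg.Sz F m))) = l * Nat.card (Tor m x) := by
  have h1 : Nat.card (Tor m x) ∣ Nat.card (Subgroup.normalizer (Tor m x : Set (Cfsg.Sz F m))) :=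
    Subgroup.card_dvd_of_le Subgroup.le_normalizer
  obtain ⟨l, hl⟩ := h1
  have h2 := card_normalizer_Tor_le hx
  have hpos : 0 < Nat.card (Tor m x) := Nat.card_pos
  have hpos2 : 0 < Nat.card (Subgroup.normalizer (Tor m x : Set (Cfsg.Sz F m))) := Nat.card_pos
  rw [hl, mul_comm] at h2
  have h3 : l ≤ 4 := Nat.le_of_mul_le_mul_right h2 hpos
  have h4 : l ≠ 0 := by
    rintro rfl
    rw [mul_zero] at hl
    omega
  have h5 : l ≠ 3 := by
    rintro rfl
    apply three_not_dvd_card (F := F) (m := m)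
    have : Nat.card (Subgroup.normalizer (Tor m x : Set (Cfsg.Sz F m))) ∣ Nat.card (Cfsg.Sz F m) :=
      Subgroup.card_subgroup_dvd_card _
    exact (Dvd.intro_left _ hl.symm).trans this
  refine ⟨l, by omega, by rw [hl, mul_comm]⟩

end Cfsg.Agent.Lib.Helper37.Suz
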