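import Cfsg.Agent.Lib.Helper37.Suzuki.Form

/-!
# Double transitivity, Zassenhaus property, ovoid property
-/

set_option autoImplicit false

namespace Cfsg.Agent.Lib.Helper37.Suz

open Matrix
open scoped LinearAlgebra.Projectivization Pointwise

variable {F : Type*} [Field F] [Fintype F] (m : ℕ) [SzField F m]

/-- move a point of the ovoid to `∞` -/
theorem exists_smul_eq_inf {p : ℙ F (Fin 4 → F)} (hp : p ∈ Cfsg.suzukiOvoid F m) :
    ∃ g ∈ Cfsg.Sz F m, g • p = inf := by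
  rcases (mem_ovoid_iff m p).1 hp with rfl | ⟨x, y, rfl⟩
  · exact ⟨1, one_mem _, one_smul _ _⟩
  · refine ⟨(T m x y * w)⁻¹, inv_mem (mul_mem (T_mem m x y) (w_mem m)), ?_⟩
    rw [inv_smul_eq_iff, mul_smul, w_smul_inf m, T_smul_zero]

/-- move two distinct points of the ovoid to `∞` and `0` -/
theorem exists_smul_eq_inf_zero {p q : ℙ F (Fin 4 → F)} (hp : p ∈ Cfsg.suzukiOvoid F m)
    (hq : q ∈ Cfsg.suzukiOvoid F m) (hpq : p ≠ q) :
    ∃ g ∈ Cfsg.Sz F m, g • p = inf ∧ g • q = pt m 0 0 := by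
  obtain ⟨g, hg, hgp⟩ := exists_smul_eq_inf m hp
  have h1 := smul_mem_of_mem_Sz m hg hq
  rcases (mem_ovoid_iff m _).1 h1 with h | ⟨x, y, h⟩
  · exfalso
    rw [← hgp] at h
    exact hpq (smul_left_cancel g h).symm
  · refine ⟨(T m x y)⁻¹ * g, mul_mem (inv_mem (T_mem m x y)) hg, ?_, ?_⟩
    · rw [mul_smul, hgp, inv_smul_eq_iff, T_smul_inf]
    · rw [mul_smul, h, inv_smul_eq_iff, T_smul_zero]

theorem two_transitive {a b c d : ℙ F (Fin 4 → F)} (ha : a ∈ Cfsg.suzukiOvoid F m)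
    (hb : b ∈ Cfsg.suzukiOvoid F m) (hc : c ∈ Cfsg.suzukiOvoid F m) (hd : d ∈ Cfsg.suzukiOvoid F m)
    (hab : a ≠ b) (hcd : c ≠ d) : ∃ g ∈ Cfsg.Sz F m, g • a = c ∧ g • b = d := by
  obtain ⟨g, hg, g1, g2⟩ := exists_smul_eq_inf_zero m ha hb hab
  obtain ⟨h, hh, h1, h2⟩ := exists_smul_eq_inf_zero m hc hd hcd
  refine ⟨h⁻¹ * g, mul_mem (inv_mem hh) hg, ?_, ?_⟩
  · rw [mul_smul, g1, inv_smul_eq_iff, h1]
  · rw [mul_smul, g2, inv_smul_eq_iff, h2]

/-- a torus element fixing a third point is trivial -/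
theorem hh_fix {k : Fˣ} {x y : F} (hxy : ¬ (x = 0 ∧ y = 0)) (h : hh m k • pt m x y = pt m x y) : k = 1 := by
  rw [hh_smul_pt] at h
  obtain ⟨h1, h2⟩ := pt_injective m h
  by_cases hx : x = 0
  · have hy : y ≠ 0 := fun hy => hxy ⟨hx, hy⟩
    have h3 : sig m (k : F) * k = 1 := by
      have : (sig m (k : F) * k) * y = 1 * y := by rw [h2, one_mul]
      exact mul_right_cancel₀ hy this
    have h4 : (fun x : F => sig m x * x) (k : F) = (fun x : F => sig m x * x) 1 := by
      simp [h3]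
    exact Units.ext (sig_mul_self_injective m h4)
  · have : (k : F) * x = 1 * x := by rw [h1, one_mul]
    exact Units.ext (mul_right_cancel₀ hx this)

/-- an element fixing three points of the ovoid is trivial -/
theorem eq_one_of_fix_three {g : Matrix.SpecialLinearGroup (Fin 4) F} (hg : g ∈ Cfsg.Sz F m)
    {a b c : ℙ F (Fin 4 → F)} (ha : a ∈ Cfsg.suzukiOvoid F m)
    (hb : b ∈ Cfsg.suzukiOvoid F m) (hc : c ∈ Cfsg.suzukiOvoid F m)
    (hab : a ≠ b) (hbc : b ≠ c) (hac : a ≠ c) (ga : g • a = a) (gb : g • b = b) (gc : g • c = c) :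
    g = 1 := by
  obtain ⟨u, hu, u1, u2⟩ := exists_smul_eq_inf_zero m ha hb hab
  have hg' : u * g * u⁻¹ ∈ Cfsg.Sz F m := mul_mem (mul_mem hu hg) (inv_mem hu)
  obtain ⟨k, hk⟩ := two_point_stab m hg'
    (by rw [mul_smul, mul_smul, ← u1, inv_smul_smul, ga])
    (by rw [mul_smul, mul_smul, ← u2, inv_smul_smul, gb])
  have h1 := smul_mem_of_mem_Sz m hu hc
  rcases (mem_ovoid_iff m _).1 h1 with h | ⟨x, y, h⟩
  · exfalso
    rw [← u1] at h
    exact hac (smul_left_cancel u h).symm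
  · have hxy : ¬ (x = 0 ∧ y = 0) := by
      rintro ⟨rfl, rfl⟩
      rw [← u2] at h
      exact hbc (smul_left_cancel u h).symm
    have : hh m k • pt m x y = pt m x y := by
      rw [← hk, ← h, mul_smul, mul_smul, inv_smul_smul, gc]
    have hk1 := hh_fix m hxy this
    rw [hk1, hh_one] at hk
    have : u * g = u := by
      have := congrArg (· * u) hk
      simpa using this
    exact mul_eq_left.1 this

include m in
theorem exists_unit_ne_one : ∃ k : Fˣ, k ≠ 1 := by
  obtain ⟨z, hz0, hz1⟩ := exists_ne_zero_one (F := F) m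
  exact ⟨Units.mk0 z hz0, fun h => hz1 (congrArg Units.val h)⟩

omit [Fintype F] [SzField F m] in
theorem pt_one_zero_ne : pt m (1 : F) 0 ≠ pt m 0 0 := by
  intro h
  exact one_ne_zero (pt_injective m h).1

theorem faithful {g : Matrix.SpecialLinearGroup (Fin 4) F} (hg : g ∈ Cfsg.Sz F m)
    (h : ∀ p ∈ Cfsg.suzukiOvoid F m, g • p = p) : g = 1 :=
  eq_one_of_fix_three m hg (inf_mem m) (pt_mem m 0 0) (pt_mem m 1 0) (pt_ne_inf m _ _).symm
    (pt_one_zero_ne m).symm (pt_ne_inf m _ _).symm (h _ (inf_mem m)) (h _ (pt_mem m _ _)) (h _ (pt_mem m _ _))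

/-- fixed points of a nontrivial torus element -/
theorem hh_fix_iff {k : Fˣ} (hk : k ≠ 1) {p : ℙ F (Fin 4 → F)} (hp : p ∈ Cfsg.suzukiOvoid F m) :
    hh m k • p = p ↔ p = inf ∨ p = pt m 0 0 := by
  constructor
  · intro h
    rcases (mem_ovoid_iff m p).1 hp with rfl | ⟨x, y, rfl⟩
    · left; rfl
    · right
      by_contra hc
      apply hk
      apply hh_fix m (x := x) (y := y) _ h
      rintro ⟨rfl, rfl⟩
      exact hc rfl
  · rintro (rfl | rfl)
    · exact hh_smul_inf m k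
    · rw [hh_smul_pt]; simp

include m in
theorem unit_sq_eq_one {l : Fˣ} (h : l⁻¹ = l) : l = 1 := by
  have := charTwo (F := F) m
  have h1 : (l : F) * l = 1 := by
    have : l * l = 1 := by nth_rewrite 1 [← h]; simp
    have h5 := congrArg Units.val this
    simpa using h5
  have h2 : ((l : F) + 1) ^ 2 = 0 := by
    have h3 : ((l : F) + 1) ^ 2 = l * l + 1 + 2 * l := by ring
    rw [h3, h1, two_eq_zero']; simp [add_self']
  have h3 : (l : F) + 1 = 0 := pow_eq_zero_iff (by norm_num) |>.1 h2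
  exact Units.ext (CharTwo.add_eq_zero.1 h3)

/-- an element of the Suzuki group mapping `∞` to `0` does not commute with a nontrivial torus element -/
theorem not_commute_of_inf_zero {n : Matrix.SpecialLinearGroup (Fin 4) F} (hn : n ∈ Cfsg.Sz F m)
    (h0 : n • (inf : ℙ F (Fin 4 → F)) = pt m 0 0) {l : Fˣ} (hl : l ≠ 1) : hh m l * n ≠ n * hh m l := by
  intro hc
  have hfix : hh m l • (n • pt m (0 : F) 0) = n • pt m 0 0 := by
    rw [← mul_smul, hc, mul_smul, hh_smul_pt]; simp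
  have hmem := smul_mem_of_mem_Sz m hn (pt_mem m 0 0)
  rcases (hh_fix_iff m hl hmem).1 hfix with h | h
  · have hw : w * n ∈ Cfsg.Sz F m := mul_mem (w_mem m) hn
    obtain ⟨k, hk⟩ := two_point_stab m hw (by rw [mul_smul, h0, w_smul_zero])
      (by rw [mul_smul, h, w_smul_inf m])
    have hn' : n = w * hh m k := by
      rw [← hk, ← mul_assoc, w_mul_w, one_mul]
    have hw' : hh m l * w = w * hh m l⁻¹ := by rw [w_mul_hh, inv_inv]
    rw [hn', ← mul_assoc, hw', mul_assoc, mul_assoc, ← hh_mul, ← hh_mul] at hc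
    have := hh_injective m (mul_left_cancel hc)
    apply hl
    apply unit_sq_eq_one m
    rw [mul_comm k l] at this
    exact mul_right_cancel this
  · exact pt_ne_inf m 0 0 (smul_left_cancel n (h.trans h0.symm))

end Cfsg.Agent.Lib.Helper37.Suz
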