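import Cfsg.Agent.Lib.Helper37.Suzuki.Rigid2
import Cfsg.Agent.Lib.Helper37.Suzuki.Borel
import Cfsg.Agent.Lib.Helper37.TICount

/-!
# Types of elements of the Suzuki groups: unipotent, split-toral, and the rest
-/

set_option autoImplicit false

namespace Cfsg.Agent.Lib.Helper37.Suz

open Matrix TICount
open scoped LinearAlgebra.Projectivization

variable {F : Type*} [Field F] [Fintype F] (m : ℕ) [SzField F m]

theorem TI_Q : IsTI (Qsub F m) := by
  rintro g _ ⟨a, b, rfl⟩ h1 ⟨a', b', h⟩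
  rw [normalizer_Q, mem_Binf]
  have hab' : g.1 * T m a b * g.1⁻¹ = T m a' b' := congrArg Subtype.val h
  apply T_fix m (a := a') (b := b') _ (smul_mem_of_mem_Sz m g.2 (inf_mem m))
  · rw [← hab', ← mul_smul, inv_mul_cancel_right, mul_smul, T_smul_inf]
  · rintro ⟨rfl, rfl⟩
    apply h1
    rw [TS_zero] at h
    have : TS m a b = g⁻¹ * (g * TS m a b * g⁻¹) * g := by group
    rw [this, h]; group

theorem hS_mem (k : Fˣ) : hS m k ∈ Hsub F m := ⟨k, rfl⟩

theorem mem_Hsub {g : Cfsg.Sz F m} : g ∈ Hsub F m ↔ ∃ k, g = hS m k := by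
  constructor
  · rintro ⟨k, rfl⟩; exact ⟨k, rfl⟩
  · rintro ⟨k, rfl⟩; exact hS_mem m k

theorem hS_mul (k l : Fˣ) : hS m (k * l) = hS m k * hS m l := (hSHom (F := F) m).map_mul k l
theorem hS_inv (k : Fˣ) : hS m k⁻¹ = (hS m k)⁻¹ := (hSHom (F := F) m).map_inv k
theorem hS_one : hS m (1 : Fˣ) = 1 := (hSHom (F := F) m).map_one

theorem wS_mul_wS : wS m * wS m = (1 : Cfsg.Sz F m) := Subtype.ext w_mul_w
theorem wS_inv : (wS m)⁻¹ = (wS m : Cfsg.Sz F m) := inv_eq_of_mul_eq_one_left (wS_mul_wS m)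

/-- elements conjugating a non-trivial element of `H` into `H` -/
theorem H_conj_cases (g : Cfsg.Sz F m) {k k' : Fˣ} (hk : k ≠ 1)
    (h : g * hS m k * g⁻¹ = hS m k') : (∃ c, g = hS m c) ∨ ∃ c, g = wS m * hS m c := by
  have hk' : k' ≠ 1 := by
    rintro rfl
    apply hS_ne_one (m := m) hk
    rw [hS_one] at h
    have : hS m k = g⁻¹ * (g * hS m k * g⁻¹) * g := by group
    rw [this, h]; group
  have hconj' : hh m k' = g.1 * hh m k * g.1⁻¹ := (congrArg Subtype.val h).symm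
  have hfix1 : hh m k' • (g.1 • (inf : ℙ F (Fin 4 → F))) = g.1 • inf := by
    rw [hconj', ← mul_smul, inv_mul_cancel_right, mul_smul, hh_smul_inf]
  have hfix2 : hh m k' • (g.1 • pt m (0 : F) 0) = g.1 • pt m 0 0 := by
    rw [hconj', ← mul_smul, inv_mul_cancel_right, mul_smul, hh_smul_pt]; simp
  have c1 := (hh_fix_iff m hk' (smul_mem_of_mem_Sz m g.2 (inf_mem m))).1 hfix1
  have c2 := (hh_fix_iff m hk' (smul_mem_of_mem_Sz m g.2 (pt_mem m 0 0))).1 hfix2
  have hne : g.1 • (inf : ℙ F (Fin 4 → F)) ≠ g.1 • pt m 0 0 := fun h =>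
    pt_ne_inf m 0 0 (smul_left_cancel g.1 h).symm
  rcases c1 with c1 | c1
  · left
    have c2' : g.1 • pt m (0 : F) 0 = pt m 0 0 := by
      rcases c2 with c2 | c2
      · exact absurd (c1.trans c2.symm) hne
      · exact c2
    obtain ⟨c, hc⟩ := two_point_stab m g.2 c1 c2'
    exact ⟨c, Subtype.ext hc⟩
  · right
    have c2' : g.1 • pt m (0 : F) 0 = inf := by
      rcases c2 with c2 | c2
      · exact c2
      · exact absurd (c1.trans c2.symm) hne
    obtain ⟨c, hc⟩ := two_point_stab m (mul_mem (w_mem m) g.2)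
      (by rw [mul_smul, c1, w_smul_zero]) (by rw [mul_smul, c2', w_smul_inf m])
    refine ⟨c, Subtype.ext ?_⟩
    show g.1 = w * hh m c
    rw [← hc, ← mul_assoc, w_mul_w, one_mul]

theorem hS_mem_normalizer (c : Fˣ) :
    hS m c ∈ Subgroup.normalizer (Hsub F m : Set (Cfsg.Sz F m)) :=
  Subgroup.le_normalizer (hS_mem m c)

theorem wS_mem_normalizer :
    wS m ∈ Subgroup.normalizer (Hsub F m : Set (Cfsg.Sz F m)) := by
  rw [Subgroup.mem_normalizer_iff]
  intro h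
  constructor
  · rintro ⟨k, rfl⟩
    exact ⟨k⁻¹, (wS_conj_hS k).symm⟩
  · rintro ⟨k, hk⟩
    refine ⟨k⁻¹, ?_⟩
    have h1 : h = wS m * (wS m * h * (wS m)⁻¹) * (wS m)⁻¹ := by
      rw [wS_inv]
      calc h = (wS m * wS m) * h * (wS m * wS m) := by rw [wS_mul_wS]; simp
        _ = _ := by group
    rw [h1, ← hk]
    exact (wS_conj_hS k).symm

theorem mem_normalizer_H (g : Cfsg.Sz F m) :
    g ∈ Subgroup.normalizer (Hsub F m : Set (Cfsg.Sz F m)) ↔
      (∃ c, g = hS m c) ∨ ∃ c, g = wS m * hS m c := by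
  constructor
  · intro hg
    obtain ⟨k, hk⟩ := exists_unit_ne_one (F := F) m
    obtain ⟨k', hk'⟩ := (Subgroup.mem_normalizer_iff.1 hg (hS m k)).1 (hS_mem m k)
    exact H_conj_cases m g hk hk'.symm
  · rintro (⟨c, rfl⟩ | ⟨c, rfl⟩)
    · exact hS_mem_normalizer m c
    · exact mul_mem (wS_mem_normalizer m) (hS_mem_normalizer m c)

theorem TI_H : IsTI (Hsub F m) := by
  rintro g _ ⟨k, rfl⟩ h1 ⟨k', h⟩
  rw [mem_normalizer_H]
  apply H_conj_cases m g (k := k) (k' := k') _ h.symm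
  rintro rfl
  exact h1 (hS_one m)

theorem wS_not_mem_H : wS m ∉ Hsub F m := by
  rintro ⟨k, hk⟩
  have h1 : hh m k = w := congrArg Subtype.val hk
  have h2 := hh_smul_inf (F := F) m k
  rw [h1, w_smul_inf m] at h2
  exact pt_ne_inf m 0 0 h2

theorem card_normalizer_H :
    Nat.card (Subgroup.normalizer (Hsub F m : Set (Cfsg.Sz F m))) = 2 * (Fintype.card F - 1) := by
  have hle : Hsub F m ≤ Subgroup.normalizer (Hsub F m : Set (Cfsg.Sz F m)) := Subgroup.le_normalizer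
  have hidx : ((Hsub F m).subgroupOf (Subgroup.normalizer (Hsub F m : Set (Cfsg.Sz F m)))).index = 2 := by
    rw [Subgroup.index_eq_two_iff]
    refine ⟨⟨wS m, wS_mem_normalizer m⟩, ?_⟩
    rintro ⟨b, hb⟩
    simp only [Subgroup.mem_subgroupOf, Subgroup.coe_mul]
    rcases (mem_normalizer_H m b).1 hb with ⟨c, rfl⟩ | ⟨c, rfl⟩
    · right
      refine ⟨hS_mem m c, ?_⟩
      intro h
      apply wS_not_mem_H (F := F) m
      have : wS m = (hS m c)⁻¹ * (hS m c * wS m) := by group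
      rw [this]
      exact mul_mem (inv_mem (hS_mem m c)) h
    · left
      constructor
      · have : wS m * hS m c * wS m = hS m c⁻¹ := by
          have := wS_conj_hS (m := m) c
          rwa [wS_inv] at this
        rw [this]
        exact hS_mem m _
      · intro h
        apply wS_not_mem_H (F := F) m
        have : wS m = (wS m * hS m c) * (hS m c)⁻¹ := by group
        rw [this]
        exact mul_mem h (inv_mem (hS_mem m c))
  have h1 := Subgroup.card_mul_index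
    ((Hsub F m).subgroupOf (Subgroup.normalizer (Hsub F m : Set (Cfsg.Sz F m))))
  rw [hidx, Nat.card_congr (Subgroup.subgroupOfEquivOfLe hle).toEquiv, card_Hsub] at h1
  rw [← h1, mul_comm]

theorem card_normalizer_Q :
    Nat.card (Subgroup.normalizer (Qsub F m : Set (Cfsg.Sz F m))) =
      Fintype.card F ^ 2 * (Fintype.card F - 1) := by
  rw [normalizer_Q]
  exact card_inf_stab m


/-- the centraliser of an involution is conjugate into `Q` -/
theorem centralizer_invol {z : Cfsg.Sz F m} (hz : orderOf z = 2) :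
    ∃ x : Cfsg.Sz F m, ∀ c, z * c = c * z → x⁻¹ * c * x ∈ Qsub F m := by
  have hchar := charTwo (F := F) m
  have : Fact (Nat.Prime 2) := ⟨Nat.prime_two⟩
  have hz1 : z ≠ 1 := by
    intro h
    rw [h, orderOf_one] at hz
    omega
  have hzp : IsPGroup 2 (Subgroup.zpowers z) := by
    apply IsPGroup.of_card (n := 1)
    rw [Nat.card_zpowers, hz, pow_one]
  obtain ⟨P, hP⟩ := hzp.exists_le_sylow
  obtain ⟨x, hx⟩ := exists_conj_mem_Q m P
  obtain ⟨a, b, hab⟩ := (hx z).1 (hP (Subgroup.mem_zpowers z))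
  have hsq : (x⁻¹ * z * x) ^ 2 = 1 := by
    have : (x⁻¹ * z * x) ^ 2 = x⁻¹ * z ^ 2 * x := by
      rw [pow_two, pow_two]; group
    rw [this, ← hz, pow_orderOf_eq_one]; group
  rw [hab, pow_two, TS_mul, ← TS_zero m] at hsq
  obtain ⟨-, h2⟩ := TS_injective m hsq
  have ha : a = 0 := by
    have h3 : sig m a * a = 0 := by
      rw [add_self', zero_add] at h2
      exact h2
    apply sig_mul_self_injective m
    simp only [sig_zero, mul_zero]
    exact h3
  subst ha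
  have hb : b ≠ 0 := by
    rintro rfl
    apply hz1
    rw [TS_zero] at hab
    have : z = x * 1 * x⁻¹ := by rw [← hab]; group
    rw [this]; group
  refine ⟨x, fun c hc => ?_⟩
  have h1 : (x⁻¹ * z * x) * (x⁻¹ * c * x) = (x⁻¹ * c * x) * (x⁻¹ * z * x) := by
    have e1 : (x⁻¹ * z * x) * (x⁻¹ * c * x) = x⁻¹ * (z * c) * x := by group
    have e2 : (x⁻¹ * c * x) * (x⁻¹ * z * x) = x⁻¹ * (c * z) * x := by group
    rw [e1, e2, hc]
  rw [hab] at h1
  obtain ⟨a', b', h3⟩ := centralizer_T m hb (x⁻¹ * c * x).2 (congrArg Subtype.val h1)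
  exact ⟨a', b', Subtype.ext h3⟩

/-- the centraliser of an element of odd prime order not dividing `q² + 1` is conjugate into `H` -/
theorem centralizer_split {p : ℕ} [hp : Fact p.Prime] (hp2 : p ≠ 2)
    (hdiv : ¬ p ∣ Fintype.card F ^ 2 + 1) {z : Cfsg.Sz F m} (hz : orderOf z = p) :
    ∃ x : Cfsg.Sz F m, ∀ c, z * c = c * z → x⁻¹ * c * x ∈ Hsub F m := by
  have hz1 : z ≠ 1 := by
    intro h
    rw [h, orderOf_one] at hz
    exact hp.out.one_lt.ne hz
  have hzp : IsPGroup p (Subgroup.zpowers z) := by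
    apply IsPGroup.of_card (n := 1)
    rw [Nat.card_zpowers, hz, pow_one]
  obtain ⟨x, hx⟩ := exists_conj_le (Hsub F m) _ hzp (not_dvd_index_Hsub m hp.out hp2 hdiv)
  obtain ⟨k, hk⟩ := hx z (Subgroup.mem_zpowers z)
  have hk1 : k ≠ 1 := by
    rintro rfl
    apply hz1
    rw [map_one] at hk
    have : z = x * 1 * x⁻¹ := by rw [hk]; group
    rw [this]; group
  refine ⟨x, fun c hc => ?_⟩
  have h1 : (x⁻¹ * z * x) * (x⁻¹ * c * x) = (x⁻¹ * c * x) * (x⁻¹ * z * x) := by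
    have e1 : (x⁻¹ * z * x) * (x⁻¹ * c * x) = x⁻¹ * (z * c) * x := by group
    have e2 : (x⁻¹ * c * x) * (x⁻¹ * z * x) = x⁻¹ * (c * z) * x := by group
    rw [e1, e2, hc]
  rw [← hk] at h1
  obtain ⟨l, h3⟩ := centralizer_hh m hk1 (x⁻¹ * c * x).2 (congrArg Subtype.val h1)
  exact ⟨l, Subtype.ext h3.symm⟩

theorem mem_cl_of_conj_mem {G : Type*} [Group G] {A : Subgroup G} {g x : G} (h : x⁻¹ * g * x ∈ A)
    (h1 : g ≠ 1) : g ∈ cl A := by
  refine ⟨x, x⁻¹ * g * x, h, ?_, by group⟩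
  intro h2
  apply h1
  have : g = x * (x⁻¹ * g * x) * x⁻¹ := by group
  rw [this, h2]; group

/-- the elements of the non-split tori -/
def XS : Set (Cfsg.Sz F m) := {g | g ≠ 1 ∧ g ∉ cl (Qsub F m) ∧ g ∉ cl (Hsub F m)}

theorem exists_prime_pow {G : Type*} [Group G] [Finite G] {g : G} {p : ℕ} (hpd : p ∣ orderOf g) :
    ∃ z : G, orderOf z = p ∧ ∀ c, g * c = c * g → z * c = c * z := by
  refine ⟨g ^ (orderOf g / p), orderOf_pow_orderOf_div (orderOf_pos g).ne' hpd, fun c hc => ?_⟩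
  have h1 : Commute g c := hc
  exact (h1.pow_left _).eq

theorem pow_four_of_mem_Q : ∀ a ∈ Qsub F m, a ^ 4 = 1 := by
  rintro _ ⟨a, b, rfl⟩
  exact TS_pow_four a b

theorem pow_of_mem_H : ∀ a ∈ Hsub F m, a ^ (Fintype.card F - 1) = 1 := by
  intro a ha
  have := pow_card_eq_one' (G := Hsub F m) (x := ⟨a, ha⟩)
  rw [card_Hsub] at this
  exact congrArg Subtype.val this

theorem prime_eq_two_of_dvd {p q : ℕ} (hp : p.Prime) (hq : 1 ≤ q) (h1 : p ∣ q - 1) (h2 : p ∣ q ^ 2 + 1) :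
    p = 2 := by
  obtain ⟨t, rfl⟩ : ∃ t, q = t + 1 := ⟨q - 1, by omega⟩
  rw [Nat.add_sub_cancel] at h1
  have h3 : p ∣ t * (t + 2) := Dvd.dvd.mul_right h1 _
  have h4 : (t + 1) ^ 2 + 1 = t * (t + 2) + 2 := by ring
  rw [h4] at h2
  have h5 : p ∣ 2 := (Nat.dvd_add_right h3).1 h2
  exact (Nat.prime_dvd_prime_iff_eq hp Nat.prime_two).1 h5

theorem mem_XS_iff (g : Cfsg.Sz F m) :
    g ∈ XS m ↔ g ≠ 1 ∧ ∀ p : ℕ, p.Prime → p ∣ orderOf g → p ≠ 2 ∧ p ∣ Fintype.card F ^ 2 + 1 := by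
  constructor
  · rintro ⟨h1, hQ, hH⟩
    refine ⟨h1, fun p hp hpd => ?_⟩
    have : Fact p.Prime := ⟨hp⟩
    obtain ⟨z, hz, hzc⟩ := exists_prime_pow hpd
    have hp2 : p ≠ 2 := by
      rintro rfl
      obtain ⟨x, hx⟩ := centralizer_invol m hz
      exact hQ (mem_cl_of_conj_mem (hx g (hzc g rfl)) h1)
    refine ⟨hp2, ?_⟩
    by_contra hdiv
    obtain ⟨x, hx⟩ := centralizer_split m hp2 hdiv hz
    exact hH (mem_cl_of_conj_mem (hx g (hzc g rfl)) h1)
  · rintro ⟨h1, h⟩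
    have hord : orderOf g ≠ 1 := by rwa [Ne, orderOf_eq_one_iff]
    obtain ⟨p, hp, hpd⟩ := Nat.exists_prime_and_dvd hord
    obtain ⟨hp2, hdiv⟩ := h p hp hpd
    refine ⟨h1, ?_, ?_⟩
    · intro hQ
      have h4 := pow_eq_one_of_mem_cl hQ (pow_four_of_mem_Q m)
      have h5 : p ∣ 2 ^ 2 := hpd.trans (orderOf_dvd_of_pow_eq_one h4)
      exact hp2 ((Nat.prime_dvd_prime_iff_eq hp Nat.prime_two).1 (hp.dvd_of_dvd_pow h5))
    · intro hH
      have h4 := pow_eq_one_of_mem_cl hH (pow_of_mem_H m)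
      have h5 : p ∣ Fintype.card F - 1 := hpd.trans (orderOf_dvd_of_pow_eq_one h4)
      exact hp2 (prime_eq_two_of_dvd hp Fintype.card_pos h5 hdiv)

theorem XS_comm {g y : Cfsg.Sz F m} (hg : g ∈ XS m) (hy : y ≠ 1) (hc : g * y = y * g) : y ∈ XS m := by
  rw [mem_XS_iff]
  refine ⟨hy, fun p hp hpd => ?_⟩
  have : Fact p.Prime := ⟨hp⟩
  obtain ⟨z, hz, hzc⟩ := exists_prime_pow hpd
  have hzg := hzc g hc.symm
  have hp2 : p ≠ 2 := by
    rintro rfl
    obtain ⟨x, hx⟩ := centralizer_invol m hz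
    exact hg.2.1 (mem_cl_of_conj_mem (hx g hzg) hg.1)
  refine ⟨hp2, ?_⟩
  by_contra hdiv
  obtain ⟨x, hx⟩ := centralizer_split m hp2 hdiv hz
  exact hg.2.2 (mem_cl_of_conj_mem (hx g hzg) hg.1)

theorem XS_conj {g : Cfsg.Sz F m} (hg : g ∈ XS m) (x : Cfsg.Sz F m) : x * g * x⁻¹ ∈ XS m := by
  have key : ∀ A : Subgroup (Cfsg.Sz F m), x * g * x⁻¹ ∈ cl A → g ∈ cl A := by
    intro A h
    have := conj_mem_cl h x⁻¹
    have e : x⁻¹ * (x * g * x⁻¹) * x⁻¹⁻¹ = g := by group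
    rwa [e] at this
  refine ⟨?_, fun h => hg.2.1 (key _ h), fun h => hg.2.2 (key _ h)⟩
  intro h
  apply hg.1
  have : g = x⁻¹ * (x * g * x⁻¹) * x := by group
  rw [this, h]; group

theorem disjoint_cl_Q_H : Disjoint (cl (Qsub F m)) (cl (Hsub F m)) := by
  rw [Set.disjoint_left]
  intro g hQ hH
  have h4 := pow_eq_one_of_mem_cl hQ (pow_four_of_mem_Q m)
  have h5 := pow_eq_one_of_mem_cl hH (pow_of_mem_H m)
  apply ne_one_of_mem_cl hQ
  have hcop : Nat.Coprime 4 (Fintype.card F - 1) := by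
    have : Odd (Fintype.card F - 1) := by
      rw [SzField.card (F := F) (m := m)]
      apply Nat.Even.sub_odd (Nat.one_le_two_pow) _ odd_one
      exact (Nat.even_pow.2 ⟨even_two, by omega⟩)
    have h2 : Nat.Coprime 2 (Fintype.card F - 1) := (Nat.coprime_two_left).2 this
    exact Nat.Coprime.pow_left 2 h2
  have h6 := orderOf_dvd_of_pow_eq_one h4
  have h7 := orderOf_dvd_of_pow_eq_one h5
  have h8 : orderOf g = 1 := Nat.eq_one_of_dvd_coprimes hcop h6 h7
  exact orderOf_eq_one_iff.1 h8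

theorem card_eq_sum : Nat.card (Cfsg.Sz F m) =
    1 + (cl (Qsub F m)).ncard + (cl (Hsub F m)).ncard + (XS (F := F) m).ncard := by
  classical
  have huniv : (Set.univ : Set (Cfsg.Sz F m)) =
      (({1} ∪ cl (Qsub F m)) ∪ cl (Hsub F m)) ∪ XS m := by
    ext g
    simp only [Set.mem_univ, Set.mem_union, Set.mem_singleton_iff, true_iff]
    by_cases h1 : g = 1
    · exact Or.inl (Or.inl (Or.inl h1))
    by_cases h2 : g ∈ cl (Qsub F m)
    · exact Or.inl (Or.inl (Or.inr h2))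
    by_cases h3 : g ∈ cl (Hsub F m)
    · exact Or.inl (Or.inr h3)
    exact Or.inr ⟨h1, h2, h3⟩
  rw [← Set.ncard_univ, huniv, Set.ncard_union_eq _ (Set.toFinite _) (Set.toFinite _),
    Set.ncard_union_eq _ (Set.toFinite _) (Set.toFinite _),
    Set.ncard_union_eq _ (Set.toFinite _) (Set.toFinite _), Set.ncard_singleton]
  · rw [Set.disjoint_singleton_left]
    exact fun h => ne_one_of_mem_cl h rfl
  · rw [Set.disjoint_union_left]
    refine ⟨?_, disjoint_cl_Q_H m⟩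
    rw [Set.disjoint_singleton_left]
    exact fun h => ne_one_of_mem_cl h rfl
  · rw [Set.disjoint_left]
    rintro g ((h | h) | h) ⟨h1, h2, h3⟩
    · exact h1 h
    · exact h2 h
    · exact h3 h

theorem two_mul_card_XS : 2 * (XS (F := F) m).ncard = Fintype.card F ^ 3 * (Fintype.card F - 1) ^ 2 := by
  have h0 := card_eq_sum (F := F) m
  have h1 := card_cl (Qsub F m) (TI_Q m)
  have h2 := card_cl (Hsub F m) (TI_H m)
  rw [card_normalizer_Q, card_Qsub, card_Sz, _root_.Nat.card_coe_set_eq] at h1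
  rw [card_normalizer_H, card_Hsub, card_Sz, _root_.Nat.card_coe_set_eq] at h2
  rw [card_Sz] at h0
  obtain ⟨t, ht⟩ : ∃ t, Fintype.card F = t + 2 := ⟨Fintype.card F - 2, by have := eight_le_card (F := F) m; omega⟩
  rw [ht] at h0 h1 h2 ⊢
  have e1 : t + 2 - 1 = t + 1 := by omega
  have e2 : t + 1 - 1 = t := by omega
  have e3 : (t + 2) ^ 2 - 1 = t ^ 2 + 4 * t + 3 := by
    have : (t + 2) ^ 2 = t ^ 2 + 4 * t + 3 + 1 := by ring
    omega
  rw [e1] at h0 h1 h2 ⊢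
  rw [e2] at h2
  rw [e3] at h1
  set cQ := (cl (Qsub F m)).ncard
  set cH := (cl (Hsub F m)).ncard
  set cX := (XS (F := F) m).ncard
  have h1' : cQ = ((t + 2) ^ 2 + 1) * (t ^ 2 + 4 * t + 3) := by
    have hpos : 0 < (t + 2) ^ 2 * (t + 1) := by positivity
    apply Nat.eq_of_mul_eq_mul_right hpos
    rw [h1]; ring
  have h2' : 2 * cH = (t + 2) ^ 2 * ((t + 2) ^ 2 + 1) * t := by
    have hpos : 0 < t + 1 := by positivity
    apply Nat.eq_of_mul_eq_mul_right hpos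
    calc 2 * cH * (t + 1) = cH * (2 * (t + 1)) := by ring
      _ = _ := by rw [h2]; ring
  have h3 : 2 * ((t + 2) ^ 2 * ((t + 2) ^ 2 + 1) * (t + 1)) = 2 + 2 * cQ + 2 * cH + 2 * cX := by
    rw [h0]; ring
  rw [h1', h2'] at h3
  have h4 : 2 * ((t + 2) ^ 2 * ((t + 2) ^ 2 + 1) * (t + 1)) =
      2 + 2 * (((t + 2) ^ 2 + 1) * (t ^ 2 + 4 * t + 3)) + (t + 2) ^ 2 * ((t + 2) ^ 2 + 1) * t +
        (t + 2) ^ 3 * (t + 1) ^ 2 := by ring
  omega

end Cfsg.Agent.Lib.Helper37.Suz
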